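import Mathlib

/-!
# A covering criterion for the graph of orthogonal points

A group generated by a vertex stabiliser `E` and an element moving the vertex to a neighbour fixes the
vertex only through `E`, provided closed walks of length four decompose into closed walks of `good` ones.
-/

set_option autoImplicit false

namespace CfsgLib.Phan

/-- generators of the relation between two common neighbours `a`, `b` of `u`, `v` -/
inductive Same {X : Type*} (A good : X → X → Prop) (u v : X) : X → X → Prop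
  | rfl (a : X) : Same A good u v a a
  | symm {a b : X} : Same A good u v a b → Same A good u v b a
  | trans {a c b : X} : A u c → A c v → Same A good u v a c → Same A good u v c b → Same A good u v a b
  | tri {a b : X} : A a b → Same A good u v a b
  | four {a b p p' d : X} : A u p → A a p → A u p' → A b p' → A d p → A d p' → A d v →
      good p v → good p' v → good u d → Same A good u v a b
  | via {a b c v' : X} : A a v' → A b v' → good u v' → A a c → A c b → A c v' → A c v → Same A good u v a b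

/-- the data of the action -/
structure PCover (G X : Type*) [Group G] [MulAction G X] (A good : X → X → Prop) (e e₁ : X) (E : Subgroup G)
    (t : G) : Prop where
  irrefl : ∀ x, ¬ A x x
  asymm : ∀ x y, A x y → A y x
  gsymm : ∀ x y, good x y → good y x
  equiv : ∀ (g : G) x y, A x y → A (g • x) (g • y)
  gequiv : ∀ (g : G) x y, good x y → good (g • x) (g • y)
  fix : ∀ a ∈ E, a • e = e
  gen : E ⊔ Subgroup.zpowers t = ⊤
  sq : t * t ∈ E
  edge : A e e₁
  move : t • e = e₁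
  trans : ∀ c, A e c → ∃ a ∈ E, a • e₁ = c
  stab : ∀ a ∈ E, a • e₁ = e₁ → t⁻¹ * a * t ∈ E
  tri : ∀ c, A e c → A e₁ c → ∃ a ∈ E, a • e₁ = c ∧ ∃ b ∈ E, ∃ b' ∈ E, t⁻¹ * a * t = b * t * b'
  closed : ∀ v, good e v → ∀ c, A e c → A c v → ∃ g : G, g • e = v ∧
    ∀ c, A e c → A c v → ∃ a ∈ E, a • e₁ = c ∧ (a * t)⁻¹ * g * (a * t) ∈ E
  same : ∀ u v a b, ¬ good u v → A u a → A a v → A u b → A b v → Same A good u v a b
  step : ∀ c v w, A e c → A c v → A v w →
    A c w ∨ ∃ d v', A e d ∧ A d w ∧ A d v' ∧ A c v' ∧ A v' w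

namespace PCover

variable {G X : Type*} [Group G] [MulAction G X] {A good : X → X → Prop} {e e₁ : X} {E : Subgroup G} {t : G}
  (C : PCover G X A good e e₁ E t)

/-- adjacency of cosets -/
def Adj (E : Subgroup G) (t : G) (x y : G ⧸ E) : Prop :=
  ∃ g : G, ∃ a ∈ E, x = (g : G ⧸ E) ∧ y = ((g * a * t : G) : G ⧸ E)

theorem mk_mul {g a : G} (ha : a ∈ E) : ((g * a : G) : G ⧸ E) = (g : G ⧸ E) :=
  QuotientGroup.eq.2 (by simpa using inv_mem ha)

include C in
theorem vert_eq {g h : G} (e' : (g : G ⧸ E) = (h : G ⧸ E)) : g • e = h • e := by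
  have hm := QuotientGroup.eq.1 e'
  rw [show h = g * (g⁻¹ * h) by group, mul_smul, C.fix _ hm]

/-- the vertex of a coset -/
noncomputable def vert (_C : PCover G X A good e e₁ E t) (x : G ⧸ E) : X := x.out • e

theorem vert_mk (g : G) : C.vert (g : G ⧸ E) = g • e := C.vert_eq (QuotientGroup.out_eq' _)

theorem vert_one : C.vert ((1 : G) : G ⧸ E) = e := by rw [C.vert_mk, one_smul]

theorem vert_smul (g : G) (x : G ⧸ E) : C.vert (g • x) = g • C.vert x := by
  obtain ⟨h, rfl⟩ := QuotientGroup.mk_surjective x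
  rw [MulAction.Quotient.smul_coe, C.vert_mk, C.vert_mk, smul_eq_mul, mul_smul]

include C in
theorem adj_edge {x y : G ⧸ E} (h : Adj E t x y) : A (C.vert x) (C.vert y) := by
  obtain ⟨g, a, ha, rfl, rfl⟩ := h
  rw [C.vert_mk, C.vert_mk, mul_smul, mul_smul, C.move]
  have := C.equiv (g * a) _ _ C.edge
  rwa [mul_smul, mul_smul, C.fix a ha] at this

include C in
theorem adj_symm {x y : G ⧸ E} (h : Adj E t x y) : Adj E t y x := by
  obtain ⟨g, a, ha, rfl, rfl⟩ := h
  refine ⟨g * a * t, 1, one_mem _, rfl, ?_⟩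
  rw [mul_one, mul_assoc _ t t, mul_assoc g, mk_mul (mul_mem ha C.sq)]

theorem adj_left {g : G} {x y : G ⧸ E} (h : Adj E t x y) : Adj E t (g • x) (g • y) := by
  obtain ⟨g', a, ha, rfl, rfl⟩ := h
  exact ⟨g * g', a, ha, rfl, by rw [MulAction.Quotient.smul_coe, smul_eq_mul]; congr 1; group⟩

include C in
theorem lift_exists (x : G ⧸ E) {v : X} (hv : A (C.vert x) v) : ∃ y, Adj E t x y ∧ C.vert y = v := by
  obtain ⟨g, rfl⟩ := QuotientGroup.mk_surjective x
  rw [C.vert_mk] at hv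
  have := C.equiv g⁻¹ _ _ hv
  rw [inv_smul_smul] at this
  obtain ⟨a, ha, hav⟩ := C.trans _ this
  refine ⟨((g * a * t : G) : G ⧸ E), ⟨g, a, ha, rfl, rfl⟩, ?_⟩
  rw [C.vert_mk, mul_smul, mul_smul, C.move, hav, smul_inv_smul]

include C in
theorem lift_unique {x y y' : G ⧸ E} (h : Adj E t x y) (h' : Adj E t x y') (he : C.vert y = C.vert y') :
    y = y' := by
  obtain ⟨g, a, ha, rfl, rfl⟩ := h
  obtain ⟨g', a', ha', hg, rfl⟩ := h'
  obtain ⟨c, hc, rfl⟩ : ∃ c ∈ E, g' = g * c := ⟨g⁻¹ * g', QuotientGroup.eq.1 hg, by group⟩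
  rw [C.vert_mk, C.vert_mk] at he
  simp only [mul_smul, C.move, smul_left_cancel_iff] at he
  refine QuotientGroup.eq.2 ?_
  have hs : (a⁻¹ * (c * a')) • e₁ = e₁ := by rw [mul_smul, mul_smul, ← he, inv_smul_smul]
  have := C.stab _ (mul_mem (inv_mem ha) (mul_mem hc ha')) hs
  convert this using 1
  group

include C in
theorem triangle {x y z : G ⧸ E} (h : Adj E t x y) (h' : Adj E t y z) (he : A (C.vert x) (C.vert z)) :
    Adj E t x z := by
  obtain ⟨g, a, ha, rfl, rfl⟩ := h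
  have h1 := C.equiv (g * a)⁻¹ _ _ he
  have h2 := C.equiv (g * a)⁻¹ _ _ (C.adj_edge h')
  rw [C.vert_mk] at h1 h2
  rw [show (g * a)⁻¹ • g • e = e by
    rw [inv_smul_eq_iff, mul_smul, C.fix a ha]] at h1
  rw [show (g * a)⁻¹ • (g * a * t) • e = e₁ by rw [← mul_smul, inv_mul_cancel_left, C.move]] at h2
  obtain ⟨c, hc, hce, b, hb, b', hb', hrel⟩ := C.tri _ h1 h2
  suffices hz : ((g * a * c * t : G) : G ⧸ E) = z by
    rw [← hz]
    exact ⟨g, a * c, mul_mem ha hc, rfl, by rw [mul_assoc g a c]⟩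
  refine C.lift_unique ?_ h' ?_
  · refine ⟨g * a * t, b, hb, rfl, ?_⟩
    rw [show g * a * c * t = g * a * t * (t⁻¹ * c * t) by group, hrel, ← mul_assoc, mk_mul hb', ← mul_assoc]
  · rw [C.vert_mk, mul_smul, C.move, mul_smul, hce, smul_inv_smul]

include C in
theorem good_base {xa ya xb yb : G ⧸ E} (h1 : Adj E t ((1 : G) : G ⧸ E) xa) (h2 : Adj E t xa ya)
    (h3 : Adj E t ((1 : G) : G ⧸ E) xb) (h4 : Adj E t xb yb) (hg : good e (C.vert ya))
    (he : C.vert ya = C.vert yb) : ya = yb := by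
  have a1 := C.adj_edge h1
  have a3 := C.adj_edge h3
  rw [C.vert_one] at a1 a3
  obtain ⟨g, hge, hg'⟩ := C.closed _ hg _ a1 (C.adj_edge h2)
  have key : ∀ xc yc, Adj E t ((1 : G) : G ⧸ E) xc → Adj E t xc yc → C.vert yc = C.vert ya →
      yc = (g : G ⧸ E) := by
    intro xc yc k1 k2 k3
    have a5 := C.adj_edge k1
    rw [C.vert_one] at a5
    obtain ⟨a, ha, hac, hfix⟩ := hg' _ a5 (k3 ▸ C.adj_edge k2)
    have h5 : Adj E t ((1 : G) : G ⧸ E) ((a * t : G) : G ⧸ E) := ⟨1, a, ha, rfl, by rw [one_mul]⟩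
    have hxc : xc = ((a * t : G) : G ⧸ E) := C.lift_unique k1 h5 (by rw [C.vert_mk, mul_smul, C.move, hac])
    have h6 : g • ((a * t : G) : G ⧸ E) = ((a * t : G) : G ⧸ E) := by
      rw [MulAction.Quotient.smul_coe, smul_eq_mul, eq_comm, QuotientGroup.eq]
      convert hfix using 1
      group
    have h7 := C.adj_symm (adj_left (g := g) h5)
    rw [h6, MulAction.Quotient.smul_coe, smul_eq_mul, mul_one] at h7
    exact C.lift_unique (hxc ▸ k2) h7 (by rw [C.vert_mk, hge, k3])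
  rw [key _ _ h1 h2 rfl, key _ _ h3 h4 he.symm]

include C in
theorem good_eq {x xa ya xb yb : G ⧸ E} (h1 : Adj E t x xa) (h2 : Adj E t xa ya) (h3 : Adj E t x xb)
    (h4 : Adj E t xb yb) (hg : good (C.vert x) (C.vert ya)) (he : C.vert ya = C.vert yb) : ya = yb := by
  obtain ⟨g, rfl⟩ := QuotientGroup.mk_surjective x
  have hb : g⁻¹ • (g : G ⧸ E) = ((1 : G) : G ⧸ E) := by
    rw [MulAction.Quotient.smul_coe, smul_eq_mul, inv_mul_cancel]
  have k1 := adj_left (g := g⁻¹) h1
  have k3 := adj_left (g := g⁻¹) h3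
  rw [hb] at k1 k3
  have hg' := C.gequiv g⁻¹ _ _ hg
  rw [← C.vert_smul, ← C.vert_smul, hb, C.vert_one] at hg'
  exact MulAction.injective g⁻¹
    (C.good_base k1 (adj_left h2) k3 (adj_left h4) hg' (by rw [C.vert_smul, C.vert_smul, he]))

include C in
theorem same_eq {x : G ⧸ E} {v a b : X} (hs : Same A good (C.vert x) v a b) :
    ∀ {xa ya xb yb : G ⧸ E}, Adj E t x xa → C.vert xa = a → Adj E t xa ya → C.vert ya = v →
      Adj E t x xb → C.vert xb = b → Adj E t xb yb → C.vert yb = v → ya = yb := by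
  induction hs with
  | rfl a =>
    intro xa ya xb yb h1 h2 h3 h4 h5 h6 h7 h8
    obtain rfl := C.lift_unique h1 h5 (h2.trans h6.symm)
    exact C.lift_unique h3 h7 (h4.trans h8.symm)
  | symm _ ih => intro xa ya xb yb h1 h2 h3 h4 h5 h6 h7 h8; exact (ih h5 h6 h7 h8 h1 h2 h3 h4).symm
  | trans hu hv _ _ ih ih' =>
    intro xa ya xb yb h1 h2 h3 h4 h5 h6 h7 h8
    obtain ⟨xc, h9, h10⟩ := C.lift_exists x hu
    obtain ⟨yc, h11, h12⟩ := C.lift_exists xc (h10.symm ▸ hv)
    exact (ih h1 h2 h3 h4 h9 h10 h11 h12).trans (ih' h9 h10 h11 h12 h5 h6 h7 h8)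
  | tri hab =>
    intro xa ya xb yb h1 h2 h3 h4 h5 h6 h7 h8
    have hxx : Adj E t xb xa := C.triangle (C.adj_symm h5) h1 (by rw [h6, h2]; exact C.asymm _ _ hab)
    have h9 : Adj E t xb ya := C.triangle hxx h3 (by rw [h6, h4, ← h8]; exact C.adj_edge h7 |> (h6 ▸ ·))
    exact C.lift_unique h9 h7 (h4.trans h8.symm)
  | @four a b p p' d hup hap hup' hbp hdp hdp' hdv hpv hpv' hud =>
    intro xa ya xb yb h1 h2 h3 h4 h5 h6 h7 h8
    obtain ⟨xp, p1, p2⟩ := C.lift_exists x hup
    obtain ⟨xp', q1, q2⟩ := C.lift_exists x hup'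
    obtain ⟨z, p3, p4⟩ := C.lift_exists xp (v := d) (p2.symm ▸ C.asymm _ _ hdp)
    obtain ⟨z', q3, q4⟩ := C.lift_exists xp' (v := d) (q2.symm ▸ C.asymm _ _ hdp')
    obtain rfl := C.good_eq p1 p3 q1 q3 (by rw [p4]; exact hud) (p4.trans q4.symm)
    obtain ⟨y, y1, y2⟩ := C.lift_exists z (v := v) (p4.symm ▸ hdv)
    have ha : Adj E t xp xa := C.triangle (C.adj_symm p1) h1 (by rw [p2, h2]; exact C.asymm _ _ hap)
    have hb : Adj E t xp' xb := C.triangle (C.adj_symm q1) h5 (by rw [q2, h6]; exact C.asymm _ _ hbp)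
    rw [C.good_eq ha h3 p3 y1 (by rw [p2, h4]; exact hpv) (h4.trans y2.symm),
      C.good_eq hb h7 q3 y1 (by rw [q2, h8]; exact hpv') (h8.trans y2.symm)]
  | @via a b c v' hav hbv hgv hac hcb hcv' hcv =>
    intro xa ya xb yb h1 h2 h3 h4 h5 h6 h7 h8
    obtain ⟨z, p1, p2⟩ := C.lift_exists xa (v := v') (h2.symm ▸ hav)
    obtain ⟨z', q1, q2⟩ := C.lift_exists xb (v := v') (h6.symm ▸ hbv)
    obtain rfl := C.good_eq h1 p1 h5 q1 (by rw [p2]; exact hgv) (p2.trans q2.symm)
    obtain ⟨xc, r1, r2⟩ := C.lift_exists z (v := c) (p2.symm ▸ C.asymm _ _ hcv')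
    have ha : Adj E t xc xa := C.adj_symm (C.triangle p1 r1 (by rw [h2, r2]; exact hac))
    have hb : Adj E t xc xb := C.adj_symm (C.triangle q1 r1 (by rw [h6, r2]; exact C.asymm _ _ hcb))
    exact C.lift_unique (C.triangle ha h3 (by rw [r2, h4]; exact hcv)) (C.triangle hb h7 (by rw [r2, h8]; exact hcv))
      (h4.trans h8.symm)

include C in
theorem two_eq {x xa ya xb yb : G ⧸ E} (h1 : Adj E t x xa) (h2 : Adj E t xa ya) (h3 : Adj E t x xb)
    (h4 : Adj E t xb yb) (he : C.vert ya = C.vert yb) : ya = yb := by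
  by_cases hg : good (C.vert x) (C.vert ya)
  · exact C.good_eq h1 h2 h3 h4 hg he
  · exact C.same_eq (C.same _ _ _ _ hg (C.adj_edge h1) (C.adj_edge h2) (C.adj_edge h3)
      (he ▸ C.adj_edge h4)) h1 rfl h2 rfl h3 rfl h4 he.symm

/-- cosets at distance at most two from the base -/
def Near (E : Subgroup G) (t : G) (y : G ⧸ E) : Prop :=
  y = (1 : G) ∨ Adj E t (1 : G) y ∨ ∃ z, Adj E t (1 : G) z ∧ Adj E t z y

include C in
theorem near_step {y z : G ⧸ E} (hy : Near E t y) (h : Adj E t y z) : Near E t z := by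
  rcases hy with rfl | hy | ⟨m, hm, hmy⟩
  · exact Or.inr (Or.inl h)
  · exact Or.inr (Or.inr ⟨y, hy, h⟩)
  · have a1 := C.adj_edge hm
    rw [C.vert_one] at a1
    rcases C.step _ _ _ a1 (C.adj_edge hmy) (C.adj_edge h) with hcw | ⟨d, v', hed, hdw, hdv', hcv', hv'w⟩
    · exact Or.inr (Or.inr ⟨m, hm, C.triangle hmy h hcw⟩)
    · obtain ⟨xd, x1, x2⟩ := C.lift_exists ((1 : G) : G ⧸ E) (v := d) (C.vert_one.symm ▸ hed)
      obtain ⟨y', y1, y2⟩ := C.lift_exists m hcv'
      obtain ⟨z', z1, z2⟩ := C.lift_exists y' (v := C.vert z) (y2.symm ▸ hv'w)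
      obtain rfl := C.two_eq hmy h y1 z1 z2.symm
      obtain ⟨y'', w1, w2⟩ := C.lift_exists xd (v := v') (x2.symm ▸ hdv')
      obtain rfl := C.two_eq hm y1 x1 w1 (y2.trans w2.symm)
      exact Or.inr (Or.inr ⟨xd, x1, C.triangle w1 z1 (by rw [x2]; exact hdw)⟩)

include C in
theorem near_all (x : G ⧸ E) : Near E t x := by
  obtain ⟨g, rfl⟩ := QuotientGroup.mk_surjective x
  let S : Subgroup G :=
    { carrier := {g | Relation.ReflTransGen (Adj E t) ((1 : G) : G ⧸ E) (g : G ⧸ E)}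
      one_mem' := Relation.ReflTransGen.refl
      mul_mem' := fun {a b} ha hb => by
        have : Relation.ReflTransGen (Adj E t) (a • ((1 : G) : G ⧸ E)) (a • (b : G ⧸ E)) :=
          Relation.ReflTransGen.lift (fun x => a • x) (fun _ _ h => adj_left h) _ _ hb
        rw [MulAction.Quotient.smul_coe, MulAction.Quotient.smul_coe, smul_eq_mul, smul_eq_mul, mul_one] at this
        exact ha.trans this
      inv_mem' := fun {a} ha => by
        have : Relation.ReflTransGen (Adj E t) (a⁻¹ • ((1 : G) : G ⧸ E)) (a⁻¹ • (a : G ⧸ E)) :=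
          Relation.ReflTransGen.lift (fun x => a⁻¹ • x) (fun _ _ h => adj_left h) _ _ ha
        rw [MulAction.Quotient.smul_coe, MulAction.Quotient.smul_coe, smul_eq_mul, smul_eq_mul, mul_one,
          inv_mul_cancel] at this
        have _hs : Std.Symm (Adj E t) := ⟨fun _ _ h => C.adj_symm h⟩
        exact Relation.ReflTransGen.stdSymm.symm _ _ this }
  have hE : E ≤ S := fun a ha => by
    show Relation.ReflTransGen _ _ _
    rw [show (a : G ⧸ E) = ((1 : G) : G ⧸ E) from QuotientGroup.eq.2 (by simpa using inv_mem ha)]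
  have ht : t ∈ S := Relation.ReflTransGen.single ⟨1, 1, one_mem _, rfl, by rw [one_mul, one_mul]⟩
  have hS : g ∈ S := (C.gen.ge.trans (sup_le hE (Subgroup.zpowers_le.2 ht))) (Subgroup.mem_top g)
  have key : ∀ y : G ⧸ E, Relation.ReflTransGen (Adj E t) ((1 : G) : G ⧸ E) y → Near E t y := fun y hy => by
    induction hy with
    | refl => exact Or.inl rfl
    | tail _ h ih => exact C.near_step ih h
  exact key _ hS

include C in
/-- the stabiliser of the base vertex -/
theorem mem_of_fix {g : G} (hg : g • e = e) : g ∈ E := by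
  rcases C.near_all (g : G ⧸ E) with h | h | ⟨z, h1, h2⟩
  · simpa using inv_mem (QuotientGroup.eq.1 h)
  · have := C.adj_edge h
    rw [C.vert_one, C.vert_mk, hg] at this
    exact absurd this (C.irrefl e)
  · have := C.lift_unique (C.adj_symm h1) h2 (by rw [C.vert_one, C.vert_mk, hg])
    simpa using QuotientGroup.eq.1 this

include C in
/-- the action is faithful as soon as it is on the vertex stabiliser -/
theorem injective {H : Type*} [Group H] (θ : G →* H) (hker : ∀ g, θ g = 1 → g • e = e)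
    (hinj : ∀ a ∈ E, θ a = 1 → a = 1) : Function.Injective θ :=
  (injective_iff_map_eq_one θ).2 fun g hg => hinj g (C.mem_of_fix (hker g hg)) hg

end PCover

end CfsgLib.Phan
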