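import Cfsg.Agent.Lib.Recog.Phan.Pair

/-!
# Diagonal-field automorphisms of `SU n`, and extension from windows of four coordinates
-/

set_option autoImplicit false

namespace CfsgLib.Phan

open CfsgLib.Classical CfsgLib.Classical.Herm CfsgLib.Known.SUBounded

universe u w

variable {F : Type u} [Field F] [Fintype F] {q : ℕ} (hF : Fintype.card F = q ^ 2)
include hF

/-- the automorphism made of a field automorphism and a diagonal matrix -/
theorem exists_delta_n {n : ℕ} (σ : F ≃+* F) {d : Fin n → F} (hdn : ∀ i, d i * d i ^ q = 1) :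
    ∃ δ : MulAut (Cfsg.SU n F q), ∀ (p : ℕ) (hp : p + 2 ≤ n) (x x' : Cfsg.SU 2 F q),
      x'.1.1 0 0 = σ (x.1.1 0 0) →
      x'.1.1 1 0 * d (sh p hp 0) = d (sh p hp 1) * σ (x.1.1 1 0) → δ (blkAt p hp x) = blkAt p hp x' := by
  classical
  have hσq : ∀ a : F, σ (a ^ q) = σ a ^ q := fun a => map_pow σ a q
  have hd0 : ∀ i, d i ≠ 0 := fun i => left_ne_zero_of_mul_eq_one (hdn i)
  let tw : Matrix (Fin n) (Fin n) F → Matrix (Fin n) (Fin n) F := fun M =>
    Matrix.of fun i j => d i * σ (M i j) / d j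
  have htw : ∀ M, tw M = Matrix.diagonal d * M.map σ * Matrix.diagonal (fun j => (d j)⁻¹) := fun M => by
    ext i j
    simp [tw, Matrix.mul_diagonal, Matrix.diagonal_mul, div_eq_mul_inv]
  have hdd : Matrix.diagonal (fun j => (d j)⁻¹) * Matrix.diagonal d = (1 : Matrix (Fin n) (Fin n) F) := by
    rw [Matrix.diagonal_mul_diagonal, ← Matrix.diagonal_one]
    exact congrArg _ (funext fun j => inv_mul_cancel₀ (hd0 j))
  have hmul : ∀ M N, tw (M * N) = tw M * tw N := fun M N => by
    have e : (M * N).map σ = M.map σ * N.map σ := Matrix.map_mul (f := σ.toRingHom)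
    rw [htw, htw, htw, e]
    simp only [Matrix.mul_assoc]
    rw [← Matrix.mul_assoc (Matrix.diagonal (fun j => (d j)⁻¹)) (Matrix.diagonal d), hdd, Matrix.one_mul]
  have hdet : ∀ M, (tw M).det = σ M.det := fun M => by
    rw [htw, Matrix.det_mul, Matrix.det_mul, Matrix.det_diagonal, Matrix.det_diagonal, mul_right_comm,
      ← Finset.prod_mul_distrib, Finset.prod_eq_one (fun i _ => mul_inv_cancel₀ (hd0 i)), one_mul]
    exact (RingEquiv.map_det σ M).symm
  have hvec : ∀ M (u : Fin n → F), (tw M).mulVec (fun i => d i * σ (u i)) = fun i => d i * σ (M.mulVec u i) := by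
    intro M u
    funext i
    simp only [Matrix.mulVec, dotProduct, tw, Matrix.of_apply, map_sum, map_mul, Finset.mul_sum]
    refine Finset.sum_congr rfl fun k _ => ?_
    field_simp [hd0 k]
  have hcov : ∀ u : Fin n → F, ∃ u' : Fin n → F, u = fun i => d i * σ (u' i) := fun u =>
    ⟨fun i => σ.symm (u i / d i), funext fun i => by rw [σ.apply_symm_apply, mul_div_cancel₀ _ (hd0 i)]⟩
  have hform : ∀ u v : Fin n → F, Cfsg.hermForm n F q (fun i => d i * σ (u i)) (fun i => d i * σ (v i)) =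
      σ (Cfsg.hermForm n F q u v) := fun u v => by
    simp only [Cfsg.hermForm, map_sum, map_mul, hσq]
    refine Finset.sum_congr rfl fun i _ => ?_
    rw [mul_pow, mul_mul_mul_comm, hdn i, one_mul]
  have hmem : ∀ g : Cfsg.SU n F q, ∀ u v, Cfsg.hermForm n F q ((tw g.1.1).mulVec u) ((tw g.1.1).mulVec v) =
      Cfsg.hermForm n F q u v := by
    intro g u v
    obtain ⟨u', rfl⟩ := hcov u
    obtain ⟨v', rfl⟩ := hcov v
    rw [hvec, hvec, hform, hform]
    exact congrArg σ (g.2 u' v')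
  let δ₀ : Cfsg.SU n F q →* Cfsg.SU n F q :=
    MonoidHom.mk' (fun g => ⟨⟨tw g.1.1, by rw [hdet, g.1.2, map_one]⟩, hmem g⟩)
      fun g h => Subtype.ext (Subtype.ext (hmul g.1.1 h.1.1))
  have hinj : Function.Injective δ₀ := fun g h e => by
    refine Subtype.ext (Subtype.ext (Matrix.ext fun i j => ?_))
    have := congrFun (congrFun (congrArg (fun k : Cfsg.SU n F q => k.1.1) e) i) j
    change d i * σ (g.1.1 i j) / d j = d i * σ (h.1.1 i j) / d j at this
    field_simp [hd0 j] at this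
    exact σ.injective (mul_left_cancel₀ (hd0 i) this)
  refine ⟨MulEquiv.ofBijective δ₀ ⟨hinj, Finite.surjective_of_injective hinj⟩, fun p hp x x' h0 h1 => ?_⟩
  refine SU_ext fun v => ?_
  obtain ⟨u, rfl⟩ := hcov v
  show (tw (blkAt p hp x).1.1).mulVec _ = _
  rw [hvec]
  funext i
  by_cases hi : ∃ a, sh p hp a = i
  · obtain ⟨a, rfl⟩ := hi
    show _ * σ (act (blk (sh p hp) x) u (sh p hp a)) = act (blk (sh p hp) x') _ (sh p hp a)
    rw [blk_apply, blk_apply]
    obtain ⟨-, a01, a11⟩ := su2_entries hF x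
    obtain ⟨-, b01, b11⟩ := su2_entries hF x'
    have n0 := hdn (sh p hp 0)
    have n1 := hdn (sh p hp 1)
    have h1q : (x'.1.1 1 0) ^ q * (d (sh p hp 0)) ^ q = (d (sh p hp 1)) ^ q * σ ((x.1.1 1 0) ^ q) := by
      rw [hσq, ← mul_pow, ← mul_pow, h1]
    fin_cases a
    · show d (sh p hp 0) * σ (Matrix.mulVec x.1.1 (fun b => u (sh p hp b)) 0) =
        Matrix.mulVec x'.1.1 (fun b => d (sh p hp b) * σ (u (sh p hp b))) 0
      simp only [Matrix.mulVec, dotProduct, Fin.sum_univ_two, map_add, map_mul, a01, b01, map_neg, h0]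
      linear_combination (d (sh p hp 0) * d (sh p hp 1) * σ (u (sh p hp 1))) * h1q +
        (d (sh p hp 0) * σ ((x.1.1 1 0) ^ q) * σ (u (sh p hp 1))) * n1 -
        ((x'.1.1 1 0) ^ q * d (sh p hp 1) * σ (u (sh p hp 1))) * n0
    · show d (sh p hp 1) * σ (Matrix.mulVec x.1.1 (fun b => u (sh p hp b)) 1) =
        Matrix.mulVec x'.1.1 (fun b => d (sh p hp b) * σ (u (sh p hp b))) 1
      simp only [Matrix.mulVec, dotProduct, Fin.sum_univ_two, map_add, map_mul, a11, b11, h0, hσq]
      linear_combination -(σ (u (sh p hp 0))) * h1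
  · push Not at hi
    show _ * σ (act (blk (sh p hp) x) u i) = act (blk (sh p hp) x') _ i
    rw [blk_off _ _ _ hi, blk_off _ _ _ hi]

variable {G : Type w} [Group G]

/-- extension from all windows of four coordinates -/
theorem exists_extends_windows (hq : 3 ≤ q) : ∀ (N : ℕ), 4 ≤ N → ∀ C : Chain G F q N,
    (∀ s, s + 4 ≤ N → ∃ f : Cfsg.SU 4 F q →* G,
      ∀ (p : ℕ) (h : p + 3 ≤ 4) (x : Cfsg.SU 3 F q), f (blkAt p h x) = C.φ (s + p) x) →
    ∃ f, Extends C f := by
  intro N hN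
  induction N, hN using Nat.le_induction with
  | base =>
    intro C h4
    obtain ⟨f, hf⟩ := h4 0 le_rfl
    exact ⟨f, fun p h x => by rw [hf p h x, Nat.zero_add]⟩
  | succ N hN ih =>
    intro C h4
    obtain ⟨f₀, h₀⟩ := ih C.tail fun s hs => by
      obtain ⟨f, hf⟩ := h4 (s + 1) (by omega)
      exact ⟨f, fun p h x => by rw [hf p h x, Nat.add_right_comm]; rfl⟩
    exact exists_extends_succ hF hq (by omega) (fun h => by omega) C h₀

/-- coherent edges give a chain -/
theorem exists_chain (U V : ℕ → Subgroup G) (m : ℕ) (hm : 1 ≤ m) (Φ : ℕ → (Cfsg.SU 3 F q →* G))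
    (hΦ : ∀ p < m, Edge (Φ p) (V p) (U p) (U (p + 1)))
    (hglue : ∀ p, p + 1 < m → ∀ x, Φ p (blo x) = Φ (p + 1) (bup x))
    (hfar : ∀ p r, p + 2 ≤ r → r ≤ m → ∀ x ∈ U p, ∀ y ∈ U r, Commute x y) :
    ∃ C : Chain G F q (m + 2), C.φ = Φ := by
  classical
  obtain ⟨Ψ, hΨ⟩ : ∃ Ψ : ℕ → (Cfsg.SU 2 F q →* G),
      Ψ = fun p => if p < m then (Φ p).comp bup else (Φ (p - 1)).comp blo := ⟨_, rfl⟩
  have hlo : ∀ p, p < m → ∀ x, Φ p (blo x) = Ψ (p + 1) x := fun p hp x => by
    subst hΨ
    dsimp only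
    split_ifs with h
    · exact hglue p h x
    · rfl
  have hmem : ∀ p, p ≤ m → ∀ x, Ψ p x ∈ U p := fun p hp x => by
    rcases Nat.lt_or_ge p m with h | h
    · subst hΨ
      dsimp only
      rw [if_pos h, ← (hΦ p h).up]
      exact ⟨x, rfl⟩
    · rcases p with _ | j
      · omega
      · rw [← hlo j (by omega) x, ← (hΦ j (by omega)).lo]
        exact ⟨x, rfl⟩
  refine ⟨{
      φ := Φ
      ψ := Ψ
      up := fun p hp x => by
        subst hΨ
        dsimp only
        rw [if_pos (show p < m by omega)]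
        rfl
      lo := fun p hp x => hlo p (by omega) x
      far := fun p r h1 h2 x y => hfar p r h1 (by omega) _ (hmem p (by omega) x) _ (hmem r (by omega) y) }, rfl⟩

end CfsgLib.Phan
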