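import Cfsg.Agent.Lib.Recog.Phan.Geom

/-!
# The numbers used by the covering argument
-/

set_option autoImplicit false

namespace CfsgLib.Phan

open CfsgLib.Classical CfsgLib.Classical.Herm

variable {F : Type*} [Field F] [Fintype F] {q : ℕ} (hF : Fintype.card F = q ^ 2)
include hF

/-- a fixed element other than `0` and `1` -/
theorem exists_fixed_ne (hq : 3 ≤ q) : ∃ n : F, powHom hF n = n ∧ n ≠ 0 ∧ n ≠ 1 := by
  classical
  by_contra hc
  push Not at hc
  have hs : (Finset.univ.filter fun x : F => powHom hF x = x) ⊆ {0, 1} := fun x hx => by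
    rw [Finset.mem_filter] at hx
    rw [Finset.mem_insert, Finset.mem_singleton]
    by_cases h0 : x = 0
    · exact Or.inl h0
    · exact Or.inr (hc x hx.2 h0)
  have h1 := Finset.card_le_card hs
  have h2 : (Finset.univ.filter fun x : F => powHom hF x = x).card = q := by
    refine Eq.trans ?_ (card_fixed_powHom hF)
    rw [← Fintype.card_subtype, ← Nat.card_eq_fintype_card]
    rfl
  have h3 : ({0, 1} : Finset F).card ≤ 2 := Finset.card_le_two
  omega

/-- an element whose norm is neither `0` nor `1` -/
theorem exists_norm_ne (hq : 3 ≤ q) : ∃ y : F, y ≠ 0 ∧ y * powHom hF y ≠ 1 := by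
  obtain ⟨n, hn, hn0, hn1⟩ := exists_fixed_ne hF hq
  obtain ⟨y, hy⟩ := (powHom_isInvol hF).exists_norm_eq hn
  exact ⟨y, fun h => hn0 (by rw [← hy, h, zero_mul]), by rwa [hy]⟩

/-- the norm fibres span -/
theorem closure_norm_eq {m : F} (hm0 : m ≠ 0) (hm : powHom hF m = m) :
    AddSubgroup.closure {c : F | c * powHom hF c = m} = ⊤ := by
  classical
  obtain ⟨c₀, hc₀⟩ := (powHom_isInvol hF).exists_norm_eq hm
  have hc0 : c₀ ≠ 0 := fun h => hm0 (by rw [← hc₀, h, zero_mul])
  let M : Submonoid F :=
    { carrier := {c : F | c * powHom hF c = 1}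
      one_mem' := by simp
      mul_mem' := fun {a b} ha hb => by
        simp only [Set.mem_ofPred_eq] at *
        rw [map_mul, mul_mul_mul_comm, ha, hb, mul_one] }
  let L := Subring.closure (M : Set F)
  have hLm : ∀ x, x ∈ L ↔ x ∈ AddSubgroup.closure (M : Set F) := fun x => by
    rw [Subring.mem_closure_iff, Submonoid.closure_eq]
  -- a finite subring is a subfield
  let K : Subfield F :=
    { L with
      inv_mem' := fun x hx => by
        by_cases h0 : x = 0
        · rw [h0, inv_zero]; exact L.zero_mem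
        · rw [show x⁻¹ = x ^ (q ^ 2 - 2) by
            refine inv_eq_of_mul_eq_one_right ?_
            have h2 := two_le_of_card_sq hF
            have h4 : 4 ≤ q ^ 2 := by nlinarith
            rw [← pow_succ', show q ^ 2 - 2 + 1 = Fintype.card F - 1 by rw [hF]; omega]
            exact FiniteField.pow_card_sub_one_eq_one x h0]
          exact L.pow_mem hx _ }
  have hMK : (M : Set F) ⊆ (K : Set F) := Subring.subset_closure
  have hcard : q < Nat.card K := by
    have h1 : Nat.card {a : F // a * powHom hF a = 1} = q + 1 := by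
      have := (powHom_isInvol hF).card_norm_fibre (μ := (1 : F)) one_ne_zero (map_one _)
      rwa [card_fixed_powHom hF] at this
    have h2 : Nat.card {a : F // a * powHom hF a = 1} ≤ Nat.card K :=
      Nat.card_le_card_of_injective (fun a => (⟨a.1, hMK a.2⟩ : K)) fun a b e =>
        Subtype.ext (congrArg (fun z : K => (z : F)) e)
    omega
  have htop : ∀ x, x ∈ K := by
    have : Fintype K := Fintype.ofFinite _
    have hd := Module.card_eq_pow_finrank (K := K) (V := F)
    rw [hF, ← Nat.card_eq_fintype_card] at hd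
    have hd1 : Module.finrank K F = 1 := by
      by_contra hne
      have h2 : 2 ≤ Module.finrank K F := by
        have := Module.finrank_pos (R := K) (M := F)
        omega
      have := Nat.pow_le_pow_right (show 0 < Nat.card K by omega) h2
      have := Nat.pow_lt_pow_left hcard (n := 2) (by norm_num)
      omega
    rw [hd1, pow_one] at hd
    have hK : Nat.card K = Nat.card F := by rw [Nat.card_eq_fintype_card (α := F), hF, hd]
    intro x
    obtain ⟨z, hz⟩ := ((Nat.bijective_iff_injective_and_card (fun a : K => (a : F))).2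
      ⟨Subtype.val_injective, hK⟩).2 x
    exact hz ▸ z.2
  rw [eq_top_iff]
  intro x _
  have hx : x / c₀ ∈ AddSubgroup.closure (M : Set F) := (hLm _).1 (htop _)
  have := AddSubgroup.mem_map_of_mem (AddMonoidHom.mulLeft c₀) hx
  rw [AddMonoidHom.map_closure, AddMonoidHom.coe_mulLeft, mul_div_cancel₀ _ hc0] at this
  refine AddSubgroup.closure_mono ?_ this
  rintro _ ⟨u, hu, rfl⟩
  simp only [Set.mem_ofPred_eq, map_mul]
  rw [mul_mul_mul_comm, hc₀, show u * powHom hF u = 1 from hu, mul_one]

/-- the numbers exist for `q ≥ 4` -/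
theorem params (hq : 4 ≤ q) : Params (powHom hF) := by
  classical
  obtain ⟨n, hn, hn0, hn1⟩ := exists_fixed_ne hF (by omega)
  have hσ := powHom_isInvol hF
  obtain ⟨ξ₀, hξ₀⟩ := hσ.exists_trace_eq (μ := (-1 : F)) (by rw [map_neg, map_one])
  -- the elements of trace `-1`
  have hT : ∃ ξ : F, ξ + powHom hF ξ = -1 ∧ ξ * powHom hF ξ ≠ 1 ∧ n + ξ * powHom hF ξ ≠ 1 := by
    by_contra hc
    push Not at hc
    obtain ⟨T, hTd⟩ : ∃ T : Finset F, T = Finset.univ.filter fun ξ => ξ + powHom hF ξ = -1 := ⟨_, rfl⟩
    obtain ⟨θ, hθ0, hθ⟩ := hσ.exists_skew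
    have hTcard : q ≤ T.card := by
      refine le_of_eq_of_le (card_fixed_powHom hF).symm ?_
      rw [hTd, ← Fintype.card_subtype, ← Nat.card_eq_fintype_card]
      refine Nat.card_le_card_of_injective (fun t : fixedSub (powHom hF) =>
        (⟨ξ₀ + (t : F) * θ, by rw [map_add, map_mul, t.2, RingHom.id_apply, hθ]; linear_combination hξ₀⟩ :
          {ξ : F // ξ + powHom hF ξ = -1})) fun a b e => ?_
      exact Subtype.ext (mul_right_cancel₀ hθ0 (add_left_cancel (congrArg Subtype.val e)))
    have hroot : ∀ N : F, (T.filter fun ξ => ξ * powHom hF ξ = N).card ≤ 2 := by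
      intro N
      by_contra hlt
      obtain ⟨a, b, c, ha, hb, hc', hab, hac, hbc⟩ := Finset.two_lt_card_iff.1 (not_le.1 hlt)
      simp only [hTd, Finset.mem_filter, Finset.mem_univ, true_and] at ha hb hc'
      have quad : ∀ z : F, z + powHom hF z = -1 ∧ z * powHom hF z = N → z * z + z + N = 0 := fun z hz => by
        linear_combination z * hz.1 - hz.2
      have e1 := quad a ha
      have e2 := quad b hb
      have e3 := quad c hc'
      have f1 : a + b + 1 = 0 := (mul_eq_zero.1 (show (a - b) * (a + b + 1) = 0 by linear_combination e1 - e2)).resolve_left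
        (sub_ne_zero.2 hab)
      have f2 : a + c + 1 = 0 := (mul_eq_zero.1 (show (a - c) * (a + c + 1) = 0 by linear_combination e1 - e3)).resolve_left
        (sub_ne_zero.2 hac)
      exact hbc (by linear_combination f1 - f2)
    have hall : T = T.filter (fun ξ => ξ * powHom hF ξ = 1) ∪ T.filter (fun ξ => ξ * powHom hF ξ = 1 - n) := by
      ext ξ
      simp only [Finset.mem_union, Finset.mem_filter]
      refine ⟨fun hξ => ?_, fun h => h.elim And.left And.left⟩
      by_cases h1 : ξ * powHom hF ξ = 1
      · exact Or.inl ⟨hξ, h1⟩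
      · refine Or.inr ⟨hξ, ?_⟩
        rw [hTd, Finset.mem_filter] at hξ
        linear_combination hc ξ hξ.2 h1
    have h12 : T.card ≤ (T.filter fun ξ => ξ * powHom hF ξ = 1).card +
        (T.filter fun ξ => ξ * powHom hF ξ = 1 - n).card := by
      conv_lhs => rw [hall]
      exact Finset.card_union_le _ _
    have h4 := hroot 1
    have h5 := hroot (1 - n)
    obtain rfl : q = 4 := by omega
    have : (T.filter fun ξ => ξ * powHom hF ξ = 1) = ∅ := by
      refine Finset.filter_eq_empty_iff.2 fun ξ hξ hN => ?_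
      rw [hTd, Finset.mem_filter] at hξ
      have h2 : (2 : F) = 0 := by
        obtain ⟨p, hp⟩ := CharP.exists F
        have := hp
        obtain ⟨k, hpp, hk⟩ := FiniteField.card F p
        have hd : p ∣ 2 ^ 4 := by
          rw [show (2 : ℕ) ^ 4 = Fintype.card F by rw [hF]; norm_num, hk]
          exact dvd_pow_self p k.ne_zero
        have hp2 : p = 2 := (Nat.prime_dvd_prime_iff_eq hpp Nat.prime_two).1 (hpp.dvd_of_dvd_pow hd)
        subst hp2
        exact_mod_cast CharP.cast_eq_zero F 2
      have e0 : ξ * ξ + ξ + 1 = 0 := by linear_combination ξ * hξ.2 - hN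
      have e4 : powHom hF ξ = ξ := by
        rw [powHom_apply]
        linear_combination (ξ * ξ - ξ) * e0
      have : (1 : F) = 0 := by linear_combination hξ.2 - e4 - ξ * h2
      exact one_ne_zero this
    rw [this, Finset.card_empty] at h12
    omega
  obtain ⟨ξ, h1, h2, h3⟩ := hT
  refine ⟨n, ξ, hn, hn0, hn1, h1, h2, h3, ?_⟩
  rw [show {c : F | c * powHom hF c * n = 1} = {c : F | c * powHom hF c = n⁻¹} by
    ext c; simp only [Set.mem_ofPred_eq]; exact ⟨fun e => eq_inv_of_mul_eq_one_left e, fun e => by rw [e, inv_mul_cancel₀ hn0]⟩]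
  exact closure_norm_eq hF (inv_ne_zero hn0) (by rw [map_inv₀, hn])

end CfsgLib.Phan
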