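import Cfsg.Agent.Lib.Known.SUBounded.Step
import Cfsg.Agent.Lib.Recog.Phan.Field

/-!
# Blocks of the special unitary group on sets of coordinates
-/

set_option autoImplicit false

namespace CfsgLib.Phan

open CfsgLib.Classical CfsgLib.Classical.Herm CfsgLib.Known.SUBounded
open Matrix (SpecialLinearGroup)

universe u

variable {F : Type u} [Field F] {q : ℕ}

section Blk

variable {k N : ℕ}

/-- the incidence matrix -/
def pm (f : Fin k → Fin N) : Matrix (Fin N) (Fin k) F := Matrix.of fun i a => if i = f a then 1 else 0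

/-- the matrix of `A` on the coordinates in the image of `f` -/
def blkMat (f : Fin k → Fin N) (A : Matrix (Fin k) (Fin k) F) : Matrix (Fin N) (Fin N) F :=
  1 + (pm f : Matrix (Fin N) (Fin k) F) * (A - 1) * (pm f : Matrix (Fin N) (Fin k) F).transpose

theorem pm_orth (f : Fin k ↪ Fin N) : (pm f : Matrix (Fin N) (Fin k) F).transpose * (pm f : Matrix (Fin N) (Fin k) F) = 1 := by
  ext a b
  simp [Matrix.mul_apply, pm, Matrix.one_apply, eq_comm]

theorem blkMat_mul (f : Fin k ↪ Fin N) (A A' : Matrix (Fin k) (Fin k) F) :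
    blkMat f (A * A') = blkMat f A * blkMat f A' := by
  have e : (pm f : Matrix (Fin N) (Fin k) F) * (A - 1) * (pm f : Matrix (Fin N) (Fin k) F).transpose * ((pm f : Matrix (Fin N) (Fin k) F) * (A' - 1) * (pm f : Matrix (Fin N) (Fin k) F).transpose) =
      (pm f : Matrix (Fin N) (Fin k) F) * ((A - 1) * (A' - 1)) * (pm f : Matrix (Fin N) (Fin k) F).transpose := by
    simp only [Matrix.mul_assoc]
    rw [← Matrix.mul_assoc ((pm f : Matrix (Fin N) (Fin k) F).transpose) (pm f), pm_orth, Matrix.one_mul]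
  simp only [blkMat, Matrix.add_mul, Matrix.mul_add, Matrix.one_mul, Matrix.mul_one, e]
  rw [show A * A' - 1 = (A - 1) + ((A' - 1) + (A - 1) * (A' - 1)) by noncomm_ring,
    Matrix.mul_add, Matrix.mul_add, Matrix.add_mul, Matrix.add_mul]
  abel

theorem det_blkMat (f : Fin k ↪ Fin N) (A : Matrix (Fin k) (Fin k) F) : (blkMat f A).det = A.det := by
  rw [blkMat, Matrix.mul_assoc, Matrix.det_one_add_mul_comm, Matrix.mul_assoc, pm_orth, Matrix.mul_one,
    add_sub_cancel]

theorem pm_mulVec_apply (f : Fin k ↪ Fin N) (w : Fin k → F) (a : Fin k) : (pm f : Matrix (Fin N) (Fin k) F).mulVec w (f a) = w a := by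
  simp [Matrix.mulVec, dotProduct, pm]

theorem pm_mulVec_off (f : Fin k ↪ Fin N) (w : Fin k → F) {i : Fin N} (hi : ∀ a, f a ≠ i) :
    (pm f : Matrix (Fin N) (Fin k) F).mulVec w i = 0 := by
  simp [Matrix.mulVec, dotProduct, pm, fun a => (hi a).symm]

theorem pmT_mulVec (f : Fin k → Fin N) (v : Fin N → F) : (pm f : Matrix (Fin N) (Fin k) F).transpose.mulVec v = fun a => v (f a) := by
  funext a
  simp [Matrix.mulVec, dotProduct, pm]

theorem blkMat_apply (f : Fin k ↪ Fin N) (A : Matrix (Fin k) (Fin k) F) (v : Fin N → F) (a : Fin k) :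
    (blkMat f A).mulVec v (f a) = A.mulVec (fun b => v (f b)) a := by
  simp only [blkMat, Matrix.add_mulVec, Matrix.one_mulVec, ← Matrix.mulVec_mulVec, pmT_mulVec, Pi.add_apply,
    pm_mulVec_apply, Matrix.sub_mulVec, Pi.sub_apply]
  ring

theorem blkMat_off (f : Fin k ↪ Fin N) (A : Matrix (Fin k) (Fin k) F) (v : Fin N → F) {i : Fin N}
    (hi : ∀ a, f a ≠ i) : (blkMat f A).mulVec v i = v i := by
  simp only [blkMat, Matrix.add_mulVec, Matrix.one_mulVec, ← Matrix.mulVec_mulVec, Pi.add_apply,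
    pm_mulVec_off f _ hi, add_zero]

/-- `SU k` on the coordinates in the image of `f` -/
def blk (f : Fin k ↪ Fin N) : Cfsg.SU k F q →* Cfsg.SU N F q where
  toFun A := ⟨⟨blkMat f A.1.1, by rw [det_blkMat]; exact A.1.2⟩, fun u v => by
    show Cfsg.hermForm N F q ((blkMat f A.1.1).mulVec u) ((blkMat f A.1.1).mulVec v) = _
    simp only [Cfsg.hermForm]
    classical
    rw [← Finset.sum_add_sum_compl (Finset.univ.map f),
      ← Finset.sum_add_sum_compl (Finset.univ.map f) (fun i => u i * v i ^ q), Finset.sum_map, Finset.sum_map]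
    refine congrArg₂ (· + ·) ?_ (Finset.sum_congr rfl fun i hi => ?_)
    · simp only [blkMat_apply]
      exact A.2 (fun b => u (f b)) (fun b => v (f b))
    · rw [Finset.mem_compl, Finset.mem_map] at hi
      push Not at hi
      rw [blkMat_off f _ _ fun a => hi a (Finset.mem_univ a), blkMat_off f _ _ fun a => hi a (Finset.mem_univ a)]⟩
  map_one' := Subtype.ext (Subtype.ext (by
    show blkMat f (1 : Matrix (Fin k) (Fin k) F) = 1
    simp [blkMat]))
  map_mul' A B := Subtype.ext (Subtype.ext (blkMat_mul f A.1.1 B.1.1))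

theorem blk_apply (f : Fin k ↪ Fin N) (A : Cfsg.SU k F q) (v : Fin N → F) (a : Fin k) :
    act (blk f A) v (f a) = act A (fun b => v (f b)) a := blkMat_apply f A.1.1 v a

theorem blk_off (f : Fin k ↪ Fin N) (A : Cfsg.SU k F q) (v : Fin N → F) {i : Fin N} (hi : ∀ a, f a ≠ i) :
    act (blk f A) v i = v i := blkMat_off f A.1.1 v hi

theorem SU_ext {n : ℕ} {g g' : Cfsg.SU n F q} (h : ∀ v, act g v = act g' v) : g = g' :=
  Subtype.ext (Subtype.ext (Matrix.ext_of_mulVec_single fun _ => h _))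

theorem blk_comp {m : ℕ} (f : Fin k ↪ Fin N) (g : Fin m ↪ Fin k) (A : Cfsg.SU m F q) :
    blk (g.trans f) A = blk f (blk g A) := by
  refine SU_ext fun v => funext fun i => ?_
  by_cases hi : ∃ a, f a = i
  · obtain ⟨a, rfl⟩ := hi
    rw [blk_apply]
    by_cases ha : ∃ b, g b = a
    · obtain ⟨b, rfl⟩ := ha
      rw [blk_apply]
      exact blk_apply (g.trans f) A v b
    · push Not at ha
      rw [blk_off g A _ ha]
      exact blk_off (g.trans f) A v fun b hb => ha b (f.injective hb)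
  · push Not at hi
    rw [blk_off f _ v hi]
    exact blk_off (g.trans f) A v fun b => hi (g b)

theorem blk_commute {m : ℕ} (f : Fin k ↪ Fin N) (g : Fin m ↪ Fin N) (hfg : ∀ a b, f a ≠ g b)
    (A : Cfsg.SU k F q) (B : Cfsg.SU m F q) : Commute (blk f A) (blk g B) := by
  refine Subtype.ext (Subtype.ext ?_)
  show blkMat f A.1.1 * blkMat g B.1.1 = blkMat g B.1.1 * blkMat f A.1.1
  have e1 : (pm f : Matrix (Fin N) (Fin k) F).transpose * (pm g : Matrix (Fin N) (Fin m) F) = 0 := by
    ext a b; simp [Matrix.mul_apply, pm, (hfg a b).symm]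
  have e2 : (pm g : Matrix (Fin N) (Fin m) F).transpose * (pm f : Matrix (Fin N) (Fin k) F) = 0 := by
    ext a b; simp [Matrix.mul_apply, pm, hfg b a]
  have e3 : (pm f : Matrix (Fin N) (Fin k) F) * (A.1.1 - 1) * (pm f : Matrix (Fin N) (Fin k) F).transpose * ((pm g : Matrix (Fin N) (Fin m) F) * (B.1.1 - 1) * (pm g : Matrix (Fin N) (Fin m) F).transpose) = 0 := by
    simp only [Matrix.mul_assoc]
    rw [← Matrix.mul_assoc ((pm f : Matrix (Fin N) (Fin k) F).transpose) (pm g), e1, Matrix.zero_mul, Matrix.mul_zero, Matrix.mul_zero]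
  have e4 : (pm g : Matrix (Fin N) (Fin m) F) * (B.1.1 - 1) * (pm g : Matrix (Fin N) (Fin m) F).transpose * ((pm f : Matrix (Fin N) (Fin k) F) * (A.1.1 - 1) * (pm f : Matrix (Fin N) (Fin k) F).transpose) = 0 := by
    simp only [Matrix.mul_assoc]
    rw [← Matrix.mul_assoc ((pm g : Matrix (Fin N) (Fin m) F).transpose) (pm f), e2, Matrix.zero_mul, Matrix.mul_zero, Matrix.mul_zero]
  simp only [blkMat, Matrix.add_mul, Matrix.mul_add, Matrix.one_mul, Matrix.mul_one, e3, e4]
  abel

theorem blk_fix (f : Fin k ↪ Fin N) (A : Cfsg.SU k F q) {i : Fin N} (hi : ∀ a, f a ≠ i) :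
    act (blk f A) (std i) = std i := by
  funext j
  by_cases hj : ∃ a, f a = j
  · obtain ⟨a, rfl⟩ := hj
    rw [blk_apply, show (fun b => (std i : Fin N → F) (f b)) = 0 from funext fun b => by simp [std, hi b]]
    simp [act, std, hi a]
  · push Not at hj
    rw [blk_off f A _ hj]

theorem blk_std (f : Fin k ↪ Fin N) (A : Cfsg.SU k F q) (a b : Fin k) :
    act (blk f A) (std (f b)) (f a) = A.1.1 a b := by
  rw [blk_apply, show (fun c => (std (f b) : Fin N → F) (f c)) = std b from
    funext fun c => by simp [std, Pi.single_apply]]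
  simp [act, std, Matrix.mulVec_single]

theorem blk_map_std (f : Fin k ↪ Fin N) (A : Cfsg.SU k F q) {b c : Fin k} (h : act A (std b) = std c) :
    act (blk f A) (std (f b)) = std (f c) := by
  funext j
  by_cases hj : ∃ a, f a = j
  · obtain ⟨a, rfl⟩ := hj
    rw [blk_apply, show (fun x => (std (f b) : Fin N → F) (f x)) = std b from
      funext fun x => by simp [std, Pi.single_apply], h]
    simp [std, Pi.single_apply]
  · push Not at hj
    rw [blk_off f A _ hj]
    simp [std, fun x => (hj x).symm]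

theorem blk_injective (f : Fin k ↪ Fin N) : Function.Injective (blk (F := F) (q := q) f) := fun A B h => by
  refine Subtype.ext (Subtype.ext (Matrix.ext fun a b => ?_))
  rw [← blk_std f A, h, blk_std]

/-- consecutive coordinates -/
def sh (p : ℕ) (h : p + k ≤ N) : Fin k ↪ Fin N :=
  ⟨fun a => ⟨p + a.1, by omega⟩, fun a b e => Fin.ext (by simpa using congrArg Fin.val e)⟩

theorem sh_val (p : ℕ) (h : p + k ≤ N) (a : Fin k) : (sh p h a).1 = p + a.1 := rfl

theorem sh_trans {m : ℕ} (p r : ℕ) (h : p + k ≤ N) (h' : r + m ≤ k) :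
    (sh r h').trans (sh p h) = sh (p + r) (by omega) := by
  ext a
  show p + (r + a.1) = p + r + a.1
  omega

/-- `SU k` on coordinates `p, …, p + k - 1` -/
def blkAt (p : ℕ) (h : p + k ≤ N) : Cfsg.SU k F q →* Cfsg.SU N F q := blk (sh p h)

theorem blkAt_comp {m : ℕ} (p r : ℕ) (h : p + k ≤ N) (h' : r + m ≤ k) (A : Cfsg.SU m F q) :
    blkAt p h (blkAt r h' A) = blkAt (p + r) (show p + r + m ≤ N by omega) A := by
  rw [blkAt, blkAt, ← blk_comp, sh_trans]; rfl

theorem blkAt_commute {m : ℕ} {p r : ℕ} (h : p + k ≤ N) (h' : r + m ≤ N) (hpr : p + k ≤ r ∨ r + m ≤ p)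
    (A : Cfsg.SU k F q) (B : Cfsg.SU m F q) : Commute (blkAt p h A) (blkAt r h' B) :=
  blk_commute _ _ (fun a b e => by
    have := congrArg Fin.val e
    rw [sh_val, sh_val] at this
    omega) A B

theorem blkAt_fix {p : ℕ} (h : p + k ≤ N) (A : Cfsg.SU k F q) {i : Fin N} (hi : i.1 < p ∨ p + k ≤ i.1) :
    act (blkAt p h A) (std i) = std i :=
  blk_fix _ _ fun a e => by
    have := congrArg Fin.val e
    rw [sh_val] at this
    omega

theorem emb_eq (A : Cfsg.SU k F q) : emb k A = blkAt 1 (show 1 + k ≤ k + 1 by omega) A := by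
  refine SU_ext fun v => funext fun i => ?_
  cases i using Fin.cases with
  | zero =>
    rw [blkAt, blk_off _ _ _ fun a e => by
      have := congrArg Fin.val e
      simp [sh_val] at this]
    simp [act, coe_emb, CfsgLib.Known.SpBounded.coe_bs, CfsgLib.Known.SpBounded.pad, Matrix.mulVec, dotProduct, Fin.sum_univ_succ]
  | succ i =>
    have hs : ∀ j : Fin k, sh 1 (show 1 + k ≤ k + 1 by omega) j = j.succ := fun j =>
      Fin.ext (by simp [sh_val]; omega)
    rw [← hs i, blkAt, blk_apply]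
    simp only [hs]
    simp [act, coe_emb, CfsgLib.Known.SpBounded.coe_bs, CfsgLib.Known.SpBounded.pad, Matrix.mulVec, dotProduct, Fin.sum_univ_succ]

theorem emb_comp {m : ℕ} {p : ℕ} (h : p + m ≤ k) (A : Cfsg.SU m F q) :
    emb k (blkAt p h A) = blkAt (p + 1) (show p + 1 + m ≤ k + 1 by omega) A := by
  rw [emb_eq, blkAt_comp]
  congr 1
  simp only [add_comm 1 p]

theorem blkAt_zero (A : Cfsg.SU k F q) : blkAt 0 (show 0 + k ≤ k by omega) A = A := by
  refine SU_ext fun v => funext fun i => ?_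
  have hs : ∀ j : Fin k, sh 0 (show 0 + k ≤ k by omega) j = j := fun j => Fin.ext (by simp [sh_val])
  conv_lhs => rw [← hs i, blkAt, blk_apply]
  simp only [hs]

end Blk

section Two

variable [Fintype F] (hF : Fintype.card F = q ^ 2)
include hF

/-- the general element of `SU 2` -/
def su2 (a b : F) (hab : a * a ^ q + b * b ^ q = 1) : Cfsg.SU 2 F q :=
  ⟨⟨!![a, -(b ^ q); b, a ^ q], by rw [Matrix.det_fin_two_of]; linear_combination hab⟩, fun u v => by
    show Cfsg.hermForm 2 F q (Matrix.mulVec !![a, -(b ^ q); b, a ^ q] u)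
      (Matrix.mulVec !![a, -(b ^ q); b, a ^ q] v) = _
    have hi : ∀ x : F, (x ^ q) ^ q = x := fun x => by
      have := (powHom_isInvol hF).invol x
      rwa [powHom_apply, powHom_apply] at this
    have hadd : ∀ x y : F, (x + y) ^ q = x ^ q + y ^ q := fun x y => by
      rw [← powHom_apply hF, map_add, powHom_apply, powHom_apply]
    have hneg : ∀ x : F, (-x) ^ q = -x ^ q := fun x => by rw [← powHom_apply hF, map_neg, powHom_apply]
    simp only [Cfsg.hermForm, Fin.sum_univ_two, Matrix.mulVec, dotProduct, Matrix.of_apply, Matrix.cons_val_zero,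
      Matrix.cons_val_one, Matrix.cons_val', Matrix.cons_val_fin_one, hadd, mul_pow, hneg, hi, neg_mul]
    linear_combination (u 0 * v 0 ^ q + u 1 * v 1 ^ q) * hab⟩

theorem su2_val (a b : F) (hab : a * a ^ q + b * b ^ q = 1) :
    (su2 hF a b hab).1.1 = !![a, -(b ^ q); b, a ^ q] := rfl

theorem su2_entries (A : Cfsg.SU 2 F q) :
    A.1.1 0 0 * (A.1.1 0 0) ^ q + A.1.1 1 0 * (A.1.1 1 0) ^ q = 1 ∧ A.1.1 0 1 = -(A.1.1 1 0) ^ q ∧
      A.1.1 1 1 = (A.1.1 0 0) ^ q := by
  have h00 := A.2 (Pi.single 0 1) (Pi.single 0 1)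
  have h10 := A.2 (Pi.single 1 1) (Pi.single 0 1)
  have hq : q ≠ 0 := by have := two_le_of_card_sq hF; omega
  change Cfsg.hermForm 2 F q (A.1.1.mulVec _) (A.1.1.mulVec _) = _ at h00
  change Cfsg.hermForm 2 F q (A.1.1.mulVec _) (A.1.1.mulVec _) = _ at h10
  simp [Cfsg.hermForm, Fin.sum_univ_two, Matrix.mulVec_single, hq] at h00 h10
  have hd := A.1.2
  rw [Matrix.det_fin_two] at hd
  refine ⟨h00, ?_, ?_⟩
  · linear_combination (A.1.1 0 0) * h10 - (A.1.1 0 1) * h00 - ((A.1.1 1 0) ^ q) * hd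
  · linear_combination (A.1.1 1 0) * h10 - (A.1.1 1 1) * h00 + ((A.1.1 0 0) ^ q) * hd

theorem su2_eta (A : Cfsg.SU 2 F q) :
    A = su2 hF (A.1.1 0 0) (A.1.1 1 0) (su2_entries hF A).1 := by
  obtain ⟨-, h01, h11⟩ := su2_entries hF A
  refine Subtype.ext (Subtype.ext (Matrix.ext fun i j => ?_))
  rw [su2_val]
  fin_cases i <;> fin_cases j <;> simp [h01, h11]

/-- the swap -/
def rot : Cfsg.SU 2 F q := su2 hF 0 1 (by
  have hq : q ≠ 0 := by have := two_le_of_card_sq hF; omega
  simp [hq])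

/-- minus one -/
def negOne : Cfsg.SU 2 F q := su2 hF (-1) 0 (by
  have hq : q ≠ 0 := by have := two_le_of_card_sq hF; omega
  rw [show (-1 : F) ^ q = -1 by rw [← powHom_apply hF, map_neg, map_one]]
  simp [hq])

/-- the element exchanging the first two of three coordinates -/
def swp : Cfsg.SU 3 F q := blkAt 0 (by omega) (rot hF) * blkAt 1 (by omega) (negOne hF)

theorem swp_zero : act (swp hF) (std 0) = std 1 := by
  rw [swp, act_mul, blkAt_fix _ _ (Or.inl (by simp))]
  funext i
  fin_cases i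
  · exact (blk_std (sh 0 (show 0 + 2 ≤ 3 by omega)) (rot hF) 0 0).trans (by simp [rot, su2, std])
  · exact (blk_std (sh 0 (show 0 + 2 ≤ 3 by omega)) (rot hF) 1 0).trans (by simp [rot, su2, std])
  · exact (blk_off (sh 0 (show 0 + 2 ≤ 3 by omega)) (rot hF) (std 0) (i := 2) fun a e => by
      fin_cases a <;> simp [sh, Fin.ext_iff] at e).trans (by simp [std])

/-- connectedness -/
theorem sphere_conn {n : ℕ} (hn : 3 ≤ n) (hq : 3 ≤ q) (u v : Sphere (hermStd n hF)) :
    Relation.ReflTransGen (Orth (hermStd n hF)) u v := by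
  obtain ⟨y, hy0, hy1⟩ := exists_norm_ne hF hq
  exact conn (hermStd_isHerm hF) (by rw [finrank_std]; exact hn) hy0 hy1 u v

/-- the stabiliser and one element moving the first vector generate -/
theorem gen_top {k : ℕ} (hk : 2 ≤ k) (hq : 3 ≤ q) {t : Cfsg.SU (k + 1) F q} (ht : act t (std 0) = std 1)
    (H : Subgroup (Cfsg.SU (k + 1) F q)) (hE : (emb k).range ≤ H) (htH : t ∈ H) : H = ⊤ := by
  rw [eq_top_iff]
  intro g _
  have h := hermStd_isHerm (n := k + 1) hF
  have h01 : (0 : Fin (k + 1)) ≠ 1 := fun e => by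
    have := congrArg Fin.val e
    simp at this
    omega
  have key : ∀ v, Relation.ReflTransGen (Orth (hermStd (k + 1) hF)) (ept hF 0) v →
      ∃ x ∈ H, act x (std 0) = v.1 := by
    intro v hv
    induction hv with
    | refl => exact ⟨1, one_mem _, act_one _⟩
    | @tail w v _ hwv ih =>
      obtain ⟨x, hx, hxw⟩ := ih
      obtain ⟨v', hv'⟩ : ∃ v', v' = act x⁻¹ v.1 := ⟨_, rfl⟩
      have e1 : hermStd (k + 1) hF (std 0) v' = 0 := by
        rw [hv', ← act_inv_eq hxw, act_form]; exact hwv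
      have e2 : hermStd (k + 1) hF v' v' = 1 := by rw [hv', act_form]; exact v.2
      obtain ⟨a, ha⟩ := exists_act_eq hF (k := 2) (by omega) ![std 0, std 1] ![std 0, v']
        (fun i j => by fin_cases i <;> fin_cases j <;> simp [std_orth, h01, Ne.symm h01])
        (fun i j => by fin_cases i <;> fin_cases j <;> simp [std_orth, e1, e2, h.eq_zero_symm e1])
      obtain ⟨A, rfl⟩ := exists_emb hF (ha 0)
      refine ⟨x * (emb k A * t), mul_mem hx (mul_mem (hE ⟨A, rfl⟩) htH), ?_⟩
      have ha1 : act (emb k A) (std 1) = v' := ha 1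
      rw [act_mul, act_mul, ht, ha1, hv', ← act_mul, mul_inv_cancel, act_one]
  obtain ⟨x, hx, hxg⟩ := key ⟨act g (std 0), by rw [act_form, std_orth, if_pos rfl]⟩
    (sphere_conn hF (by omega) hq _ _)
  obtain ⟨A, hA⟩ := exists_emb hF (g := x⁻¹ * g) (by rw [act_mul]; exact act_inv_eq hxg)
  rw [show g = x * emb k A by rw [hA]; group]
  exact mul_mem hx (hE ⟨A, rfl⟩)

/-- adjacent blocks generate -/
theorem blocks_top (hq : 3 ≤ q) : ∀ (n : ℕ), 2 ≤ n → ∀ H : Subgroup (Cfsg.SU n F q),
    (∀ (p : ℕ) (hp : p + 2 ≤ n) (x : Cfsg.SU 2 F q), blkAt p hp x ∈ H) → H = ⊤ := by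
  intro n hn
  induction n, hn using Nat.le_induction with
  | base =>
    intro H hH
    refine eq_top_iff.2 fun x _ => ?_
    have := hH 0 (by omega) x
    rwa [blkAt_zero] at this
  | succ n hn ih =>
    intro H hH
    have hE : H.comap (emb n) = ⊤ := ih _ fun p hp x => by
      rw [Subgroup.mem_comap, emb_comp]; exact hH _ _ x
    refine gen_top hF hn hq (t := blkAt 0 (show 0 + 3 ≤ n + 1 by omega) (swp hF)) ?_ H ?_ ?_
    · have := blk_map_std (sh 0 (show 0 + 3 ≤ n + 1 by omega)) _ (swp_zero hF)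
      have e0 : sh 0 (show 0 + 3 ≤ n + 1 by omega) 0 = 0 := Fin.ext (by simp [sh_val])
      have e1 : sh 0 (show 0 + 3 ≤ n + 1 by omega) 1 = 1 :=
        Fin.ext (by simp [sh_val, Nat.mod_eq_of_lt (show 1 < n + 1 by omega)])
      rwa [e0, e1] at this
    · rintro _ ⟨A, rfl⟩
      exact hE.ge (Subgroup.mem_top A)
    · rw [swp, map_mul, blkAt_comp, blkAt_comp]
      exact mul_mem (hH _ _ _) (hH _ _ _)

end Two

end CfsgLib.Phan
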