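import Cfsg.Agent.Lib.Recog.Phan.Emb

/-!
# From a chain of `SU 3`'s to a homomorphism of `SU N`
-/

set_option autoImplicit false

namespace CfsgLib.Phan

open CfsgLib.Classical CfsgLib.Classical.Herm CfsgLib.Known.SUBounded

universe u w

variable {F : Type u} [Field F] {q : ℕ}

/-- homomorphisms on the blocks of two and of three consecutive coordinates that agree -/
structure Chain (G : Type w) [Group G] (F : Type u) [Field F] (q N : ℕ) where
  /-- the three-dimensional blocks -/
  φ : ℕ → (Cfsg.SU 3 F q →* G)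
  /-- the two-dimensional blocks -/
  ψ : ℕ → (Cfsg.SU 2 F q →* G)
  /-- the upper block -/
  up : ∀ p, p + 3 ≤ N → ∀ x, φ p (blkAt 0 (by omega) x) = ψ p x
  /-- the lower block -/
  lo : ∀ p, p + 3 ≤ N → ∀ x, φ p (blkAt 1 (by omega) x) = ψ (p + 1) x
  /-- distant blocks commute -/
  far : ∀ p r, p + 2 ≤ r → r + 2 ≤ N → ∀ x y, Commute (ψ p x) (ψ r y)

variable {G : Type w} [Group G]

/-- the chain without its first member -/
def Chain.tail {N : ℕ} (C : Chain G F q (N + 1)) : Chain G F q N where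
  φ p := C.φ (p + 1)
  ψ p := C.ψ (p + 1)
  up p h := C.up (p + 1) (by omega)
  lo p h := C.lo (p + 1) (by omega)
  far p r h h' := C.far (p + 1) (r + 1) (by omega) (by omega)

/-- `f` extends the chain -/
def Extends {N : ℕ} (C : Chain G F q N) (f : Cfsg.SU N F q →* G) : Prop :=
  ∀ (p : ℕ) (h : p + 3 ≤ N) (x : Cfsg.SU 3 F q), f (blkAt p h x) = C.φ p x

theorem Extends.on_two {N : ℕ} {C : Chain G F q N} {f : Cfsg.SU N F q →* G} (hf : Extends C f) (hN : 3 ≤ N)
    {p : ℕ} (h : p + 2 ≤ N) (x : Cfsg.SU 2 F q) : f (blkAt p h x) = C.ψ p x := by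
  rcases Nat.lt_or_ge (p + 2) N with h3 | h3
  · rw [← C.up p (by omega) x, ← hf p (by omega), blkAt_comp]
    rfl
  · obtain ⟨p, rfl⟩ : ∃ r, p = r + 1 := ⟨p - 1, by omega⟩
    rw [← C.lo p (by omega) x, ← hf p (by omega), blkAt_comp]

variable [Fintype F] (hF : Fintype.card F = q ^ 2)
include hF

set_option maxHeartbeats 800000 in
/-- one coordinate more -/
theorem exists_extends_succ (hq : 3 ≤ q) {M : ℕ} (hM : 3 ≤ M) (hP : M = 3 → Params (powHom hF))
    (C : Chain G F q (M + 1)) {f₀ : Cfsg.SU M F q →* G} (h₀ : Extends C.tail f₀) :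
    ∃ f, Extends C f := by
  classical
  obtain ⟨K, rfl⟩ : ∃ K, M = K + 1 := ⟨M - 1, by omega⟩
  have hB := hermStd_isHerm (n := K + 1 + 1) hF
  obtain ⟨y, hy0, hy1⟩ := exists_norm_ne hF hq
  let E₀ : Cfsg.SU (K + 1) F q →* G × Cfsg.SU (K + 1 + 1) F q := f₀.prod (emb (K + 1))
  let J₀ : Cfsg.SU 3 F q →* G × Cfsg.SU (K + 1 + 1) F q :=
    (C.φ 0).prod (blkAt 0 (show 0 + 3 ≤ K + 1 + 1 by omega))
  let Γ : Subgroup (G × Cfsg.SU (K + 1 + 1) F q) := E₀.range ⊔ Subgroup.zpowers (J₀ (swp hF))
  have hlo : ∀ x, J₀ (emb 2 x) = E₀ (blkAt 0 (show 0 + 2 ≤ K + 1 by omega) x) := fun x => by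
    refine Prod.ext ?_ ?_
    · show C.φ 0 (emb 2 x) = f₀ _
      rw [h₀.on_two (by omega)]
      show C.φ 0 (emb 2 x) = C.ψ (0 + 1) x
      rw [emb_eq]
      exact C.lo 0 (by omega) x
    · show blkAt 0 _ (emb 2 x) = emb (K + 1) _
      rw [emb_eq, blkAt_comp, emb_comp]
  have hJ : ∀ x, J₀ x ∈ Γ := fun x => by
    refine (gen_top hF (k := 2) le_rfl hq (swp_zero hF) (Γ.comap J₀) ?_ ?_).ge (Subgroup.mem_top x)
    · rintro _ ⟨z, rfl⟩
      exact Subgroup.mem_sup_left ⟨_, (hlo z).symm⟩
    · exact Subgroup.mem_sup_right (Subgroup.mem_zpowers _)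
  let ψE : Cfsg.SU (K + 1) F q →* Γ := E₀.codRestrict Γ fun A => Subgroup.mem_sup_left ⟨A, rfl⟩
  let J : Cfsg.SU 3 F q →* Γ := J₀.codRestrict Γ hJ
  let t : Γ := J (swp hF)
  let θ : Γ →* Cfsg.SU (K + 1 + 1) F q := (MonoidHom.snd G _).comp Γ.subtype
  have hθE : ∀ A, θ (ψE A) = emb (K + 1) A := fun A => rfl
  have hθJ : ∀ x, θ (J x) = blkAt 0 (show 0 + 3 ≤ K + 1 + 1 by omega) x := fun x => rfl
  have hloJ : ∀ x, J (emb 2 x) = ψE (blkAt 0 (show 0 + 2 ≤ K + 1 by omega) x) := fun x => Subtype.ext (hlo x)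
  -- the first block commutes with the stabiliser of two vectors
  have hfar : ∀ (A : Cfsg.SU K F q) (x : Cfsg.SU 2 F q), Commute (J (blkAt 0 (by omega) x)) (ψE (emb K A)) := by
    intro A x
    refine Subtype.ext (Prod.ext ?_ ?_)
    · show C.φ 0 (blkAt 0 _ x) * f₀ (emb K A) = f₀ (emb K A) * C.φ 0 (blkAt 0 _ x)
      rw [C.up 0 (by omega)]
      let S : Subgroup (Cfsg.SU K F q) :=
        (Subgroup.centralizer {C.ψ 0 x}).comap (f₀.comp (emb K))
      have hS : S = ⊤ := blocks_top hF hq K (by omega) S fun p hp z => by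
        rw [Subgroup.mem_comap, Subgroup.mem_centralizer_singleton_iff, MonoidHom.comp_apply, emb_comp,
          h₀.on_two (by omega)]
        exact (C.far 0 (p + 1 + 1) (by omega) (by omega) x z).symm
      exact (Subgroup.mem_centralizer_singleton_iff.1 (hS.ge (Subgroup.mem_top A) :)).symm
    · show blkAt 0 _ (blkAt 0 _ x) * emb (K + 1) (emb K A) = emb (K + 1) (emb K A) * blkAt 0 _ (blkAt 0 _ x)
      rw [blkAt_comp, emb_eq A, emb_comp]
      exact blkAt_commute _ _ (Or.inl (by omega)) x A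
  have ht : t = J (blkAt 0 (by omega) (rot hF)) * ψE (blkAt 0 (show 0 + 2 ≤ K + 1 by omega) (negOne hF)) := by
    show J (swp hF) = _
    rw [← hloJ, ← map_mul, emb_eq]
    rfl
  let _act : MulAction Γ (Sphere (hermStd (K + 1 + 1) hF)) := MulAction.compHom _ θ
  have hsm : ∀ (x : Γ) (p : Sphere (hermStd (K + 1 + 1) hF)), (x • p).1 = act (θ x) p.1 := fun _ _ => rfl
  have o01 : (0 : Fin (K + 1 + 1)) ≠ 1 := fun e => by
    have := congrArg Fin.val e
    simp at this
  obtain ⟨i2, hi2⟩ : ∃ i2 : Fin (K + 1 + 1), i2.val = 2 := ⟨⟨2, by omega⟩, rfl⟩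
  have o02 : (0 : Fin (K + 1 + 1)) ≠ i2 := fun e => by rw [← e] at hi2; simp at hi2
  have o12 : (1 : Fin (K + 1 + 1)) ≠ i2 := fun e => by rw [← e] at hi2; simp at hi2
  let s3 := sh 0 (show 0 + 3 ≤ K + 1 + 1 by omega)
  have s0 : s3 0 = 0 := Fin.ext (by simp [s3, sh_val])
  have s1 : s3 1 = 1 := Fin.ext (by simp [s3, sh_val])
  have s2 : s3 2 = i2 := Fin.ext (by simp [s3, sh_val, hi2])
  have hT0 : act (θ t) (std 0) = std 1 := by
    have := blk_map_std s3 _ (swp_zero hF)
    rwa [s0, s1] at this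
  have e10 : (std 1 : Fin (K + 1 + 1) → F) = Fin.cons 0 (std 0) := by rw [← std_succ]; rfl
  have e1emb : ∀ A : Cfsg.SU (K + 1) F q, act (emb (K + 1) A) (std 1) = std 1 → ∃ A', emb K A' = A :=
    fun A hA => by
      rw [e10, act_emb_succ] at hA
      exact exists_emb hF (Fin.cons_right_injective (α := fun _ => F) (0 : F) hA)
  have hstab : ∀ A', t⁻¹ * ψE (emb K A') * t ∈ ψE.range := by
    intro A'
    refine ⟨(blkAt 0 (show 0 + 2 ≤ K + 1 by omega) (negOne hF))⁻¹ * emb K A' *
      blkAt 0 (show 0 + 2 ≤ K + 1 by omega) (negOne hF), ?_⟩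
    rw [ht, map_mul, map_mul, map_inv, mul_inv_rev]
    have := (hfar A' (rot hF)).eq
    calc (ψE _)⁻¹ * ψE (emb K A') * ψE _
        = (ψE (blkAt 0 (show 0 + 2 ≤ K + 1 by omega) (negOne hF)))⁻¹ *
            ((J (blkAt 0 (by omega) (rot hF)))⁻¹ * (J (blkAt 0 (by omega) (rot hF)) * ψE (emb K A'))) *
            ψE (blkAt 0 (show 0 + 2 ≤ K + 1 by omega) (negOne hF)) := by group
      _ = _ := by rw [this]; group
  -- the element moving the second vector to the third
  let u₁ : Cfsg.SU 3 F q := emb 2 (rot hF)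
  have hu0 : act u₁ (std 0) = std 0 := act_emb_zero _
  have hu1 : act u₁ (std 1) = std 2 := by
    have h : act (rot hF) (std 0) = std 1 := by
      funext i
      fin_cases i <;> simp [act, std, rot, su2, Matrix.mulVec_single]
    have e : (std 1 : Fin 3 → F) = Fin.cons 0 (std 0) := (std_succ (0 : Fin 2))
    rw [e, act_emb_succ, h, ← std_succ]
    rfl
  have hS1 : act (θ (J u₁)) (std 1) = std i2 := by
    have := blk_map_std s3 _ hu1
    rwa [s1, s2] at this
  have hS0 : act (θ (J u₁)) (std 0) = std 0 := by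
    have := blk_map_std s3 _ hu0
    rwa [s0] at this
  have orth2 : ∀ c : Fin (K + 1 + 1) → F, hermStd _ hF c c = 1 → hermStd _ hF (std 0) c = 0 →
      ∀ i j, hermStd (K + 1 + 1) hF ((![std 0, c] : Fin 2 → _) i) ((![std 0, c] : Fin 2 → _) j) =
        if i = j then 1 else 0 := fun c hc h0 i j => by
    fin_cases i <;> fin_cases j <;> simp [std_orth, hc, h0, hB.eq_zero_symm h0]
  have orth3 : ∀ c : Fin (K + 1 + 1) → F, hermStd _ hF c c = 1 → hermStd _ hF (std 0) c = 0 →
      hermStd _ hF (std 1) c = 0 → ∀ i j, hermStd (K + 1 + 1) hF ((![std 0, std 1, c] : Fin 3 → _) i)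
        ((![std 0, std 1, c] : Fin 3 → _) j) = if i = j then 1 else 0 := fun c hc h0 h1 i j => by
    fin_cases i <;> fin_cases j <;>
      simp [std_orth, o01, Ne.symm o01, hc, h0, h1, hB.eq_zero_symm h0, hB.eq_zero_symm h1]
  -- moving the second vector anywhere fixing two
  have move2 : ∀ c : Fin (K + 1 + 1) → F, hermStd _ hF c c = 1 → hermStd _ hF (std 0) c = 0 →
      hermStd _ hF (std 1) c = 0 → ∃ A', act (θ (ψE (emb K A') * J u₁)) (std 1) = c := by
    intro c hc h0 h1
    obtain ⟨g', hg'⟩ := exists_act_eq hF (n := K + 1 + 1) (k := 3) (by omega) ![std 0, std 1, std i2]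
      ![std 0, std 1, c] (orth3 (std i2) (by rw [std_orth, if_pos rfl]) (by rw [std_orth, if_neg o02])
        (by rw [std_orth, if_neg o12])) (orth3 c hc h0 h1)
    obtain ⟨A, rfl⟩ := exists_emb hF (hg' 0)
    obtain ⟨A', rfl⟩ := e1emb A (hg' 1)
    exact ⟨A', by rw [map_mul, act_mul, hS1, hθE]; exact hg' 2⟩
  have huE : J u₁ ∈ ψE.range := ⟨_, (hloJ _).symm⟩
  have C' : PCover Γ (Sphere (hermStd (K + 1 + 1) hF)) (Orth (hermStd (K + 1 + 1) hF))
      (Good (hermStd (K + 1 + 1) hF)) (ept hF 0) (ept hF 1) ψE.range t :=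
    { irrefl := fun x hx => one_ne_zero (x.2.symm.trans hx)
      asymm := fun x z hxz => hB.eq_zero_symm hxz
      gsymm := fun x z hxz => good_symm hB x z hxz
      equiv := fun x p p' hp => by
        show hermStd _ hF (x • p).1 (x • p').1 = 0
        rw [hsm, hsm, act_form]; exact hp
      gequiv := fun x p p' hp => by
        show hermStd _ hF (x • p).1 (x • p').1 * _ ≠ 1
        rw [hsm, hsm, act_form]; exact hp
      fix := by
        rintro _ ⟨A, rfl⟩
        exact Subtype.ext (by rw [hsm, hθE]; exact act_emb_zero A)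
      gen := by
        refine Subgroup.map_injective Γ.subtype_injective ?_
        rw [Subgroup.map_sup, MonoidHom.map_range, MonoidHom.map_zpowers, ← MonoidHom.range_eq_map,
          Subgroup.range_subtype]
        rfl
      sq := by
        obtain ⟨A, hA⟩ := exists_emb hF (k := 2) (g := swp hF * swp hF) (by
          rw [act_mul, swp_zero]
          funext i
          rw [swp, act_mul]
          have h1 : act (blkAt 1 (show 1 + 2 ≤ 3 by omega) (negOne hF)) (std 1) = -std 1 := by
            funext j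
            fin_cases j
            · exact (blk_off (sh 1 (show 1 + 2 ≤ 3 by omega)) _ _ (i := 0) fun a e => by
                have := congrArg Fin.val e
                simp [sh_val] at this
                ).trans (by simp [std])
            · exact (blk_std (sh 1 (show 1 + 2 ≤ 3 by omega)) (negOne hF) 0 0).trans (by simp [negOne, su2, std])
            · exact (blk_std (sh 1 (show 1 + 2 ≤ 3 by omega)) (negOne hF) 1 0).trans (by simp [negOne, su2, std])
          have h2 : act (blkAt 0 (show 0 + 2 ≤ 3 by omega) (rot hF)) (std 1) = -std 0 := by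
            funext j
            fin_cases j
            · exact (blk_std (sh 0 (show 0 + 2 ≤ 3 by omega)) (rot hF) 0 1).trans (by simp [rot, su2, std])
            · exact (blk_std (sh 0 (show 0 + 2 ≤ 3 by omega)) (rot hF) 1 1).trans (by
                simp [rot, su2, std, zero_pow (show q ≠ 0 by omega)])
            · exact (blk_off (sh 0 (show 0 + 2 ≤ 3 by omega)) _ _ (i := 2) fun a e => by
                have := congrArg Fin.val e
                simp [sh_val] at this
                omega).trans (by simp [std])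
          have h2' : act (blkAt 0 (show 0 + 2 ≤ 3 by omega) (rot hF)) (-std 1) = std 0 := by
            rw [act, Matrix.mulVec_neg]
            exact (congrArg Neg.neg h2).trans (neg_neg _)
          rw [h1, h2'])
        refine ⟨blkAt 0 (show 0 + 2 ≤ K + 1 by omega) A, ?_⟩
        rw [← hloJ, hA, map_mul]
      edge := by show hermStd _ hF (std 0) (std 1) = 0; rw [std_orth, if_neg o01]
      move := Subtype.ext (by rw [hsm]; exact hT0)
      trans := fun c hc => by
        obtain ⟨g', hg'⟩ := exists_act_eq hF (n := K + 1 + 1) (k := 2) (by omega) ![std 0, std 1] ![std 0, c.1]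
          (fun i j => by fin_cases i <;> fin_cases j <;> simp [std_orth, o01, Ne.symm o01]) (orth2 c.1 c.2 hc)
        obtain ⟨A, rfl⟩ := exists_emb hF (hg' 0)
        exact ⟨ψE A, ⟨A, rfl⟩, Subtype.ext (by rw [hsm, hθE]; exact hg' 1)⟩
      stab := by
        rintro _ ⟨A, rfl⟩ hA
        obtain ⟨A', rfl⟩ := e1emb A (by
          have := congrArg Subtype.val hA
          rwa [hsm, hθE] at this)
        exact hstab A'
      tri := fun c hc hc1 => by
        obtain ⟨A', hA'⟩ := move2 c.1 c.2 hc hc1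
        -- the relation inside three coordinates
        obtain ⟨d, hd⟩ : ∃ d, d = act (swp hF)⁻¹ (std 2) := ⟨_, rfl⟩
        obtain ⟨B', hB'⟩ := exists_act_eq hF (n := 3) (k := 2) (by omega) ![std 0, std 1] ![std 0, d]
          (fun i j => by fin_cases i <;> fin_cases j <;> simp [std_orth])
          (fun i j => by
            have k1 : hermStd 3 hF d d = 1 := by rw [hd, act_form, std_orth, if_pos rfl]
            have k2 : hermStd 3 hF (std 0) d = 0 := by
              rw [hd, ← act_inv_eq (swp_zero hF), act_form, std_orth, if_neg (by decide)]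
            fin_cases i <;> fin_cases j <;>
              simp [std_orth, k1, k2, (hermStd_isHerm (n := 3) hF).eq_zero_symm k2])
        obtain ⟨AB, rfl⟩ := exists_emb hF (hB' 0)
        obtain ⟨AC, hAC⟩ := exists_emb hF (k := 2)
          (g := (emb 2 AB * swp hF)⁻¹ * ((swp hF)⁻¹ * u₁ * swp hF)) (by
            rw [act_mul, act_mul, act_mul, swp_zero, hu1, ← hd]
            exact act_inv_eq (by rw [act_mul, swp_zero]; exact hB' 1))
        refine ⟨ψE (emb K A') * J u₁, mul_mem ⟨_, rfl⟩ huE, Subtype.ext (by rw [hsm]; exact hA'),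
          t⁻¹ * ψE (emb K A') * t * J (emb 2 AB), mul_mem (hstab A') ⟨_, (hloJ _).symm⟩, J (emb 2 AC),
          ⟨_, (hloJ _).symm⟩, ?_⟩
        rw [hAC, map_mul, map_mul, map_mul, map_inv, map_inv, map_mul, show J (swp hF) = t from rfl]
        group
      closed := by
        rintro ⟨v, hv⟩ hg c₀ hc₀ hc₀v
        have hg' : hermStd _ hF (std 0) v * powHom hF (hermStd _ hF (std 0) v) ≠ 1 := hg
        obtain ⟨α, hα⟩ : ∃ α, α = hermStd _ hF (std 0) v := ⟨_, rfl⟩
        rw [← hα] at hg'
        obtain ⟨w₀, hw₀⟩ : ∃ w, w = v - α • std 0 := ⟨_, rfl⟩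
        have k1 : hermStd _ hF (std 0) w₀ = 0 := by
          rw [hw₀, map_sub, smul_right, std_orth, if_pos rfl, mul_one, hα, sub_self]
        have k2 : hermStd _ hF w₀ w₀ = 1 - α * powHom hF α := by
          have e : hermStd _ hF v (std 0) = powHom hF α := by rw [hα, hB.symm]
          rw [hw₀]
          simp only [map_sub, LinearMap.sub_apply, Herm.smul_left, Herm.smul_right, hv, e, std_orth, if_pos,
            ← hα]
          ring
        obtain ⟨κ, hκ0, hκ⟩ := hB.scale_to (x := w₀) (k2 ▸ sub_ne_zero.2 (Ne.symm hg')) (map_one _) one_ne_zero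
        obtain ⟨β, hβ⟩ : ∃ β, β = κ⁻¹ := ⟨_, rfl⟩
        have k3 : hermStd _ hF (std 0) (κ • w₀) = 0 := by rw [smul_right, k1, mul_zero]
        obtain ⟨g₀, hg₀⟩ := exists_act_eq hF (n := K + 1 + 1) (k := 2) (by omega) ![std 0, std 1]
          ![std 0, κ • w₀] (fun i j => by fin_cases i <;> fin_cases j <;> simp [std_orth, o01, Ne.symm o01])
          (orth2 _ hκ k3)
        obtain ⟨A, rfl⟩ := exists_emb hF (hg₀ 0)
        have hA1 : act (emb (K + 1) A) (std 1) = κ • w₀ := hg₀ 1
        have hab : α * α ^ q + β * β ^ q = 1 := by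
          rw [Herm.IsHerm.smul_self, k2, powHom_apply, powHom_apply] at hκ
          rw [hβ, inv_pow]
          have hκq : κ ^ q ≠ 0 := pow_ne_zero _ hκ0
          field_simp
          linear_combination -hκ
        obtain ⟨P₀, hP₀⟩ : ∃ P₀, P₀ = J (blkAt 0 (by omega) (su2 hF α β hab)) := ⟨_, rfl⟩
        have hP0e : act (θ P₀) (std 0) = α • std 0 + β • std 1 := by
          rw [hP₀, hθJ, blkAt_comp]
          have z0 : sh 0 (show 0 + 2 ≤ K + 1 + 1 by omega) 0 = 0 := Fin.ext (by simp [sh_val])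
          have z1 : sh 0 (show 0 + 2 ≤ K + 1 + 1 by omega) 1 = 1 := Fin.ext (by simp [sh_val])
          funext i
          by_cases hi : ∃ a, sh 0 (show 0 + 2 ≤ K + 1 + 1 by omega) a = i
          · obtain ⟨a, rfl⟩ := hi
            fin_cases a
            · conv_lhs => rw [← z0]
              exact (blk_std _ _ 0 0).trans (by simp [su2, std, z0, o01])
            · conv_lhs => rw [← z0]
              exact (blk_std _ _ 1 0).trans (by simp [su2, std, z1, Ne.symm o01])
          · push Not at hi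
            have n0 : i ≠ 0 := fun e => hi 0 (z0.trans e.symm)
            have n1 : i ≠ 1 := fun e => hi 1 (z1.trans e.symm)
            exact (blk_off _ _ _ hi).trans (by simp [std, n0, n1])
        have hfix0 : ∀ a, a ∈ ψE.range → act (θ a) (std 0) = std 0 := by
          rintro _ ⟨B, rfl⟩; exact act_emb_zero B
        refine ⟨ψE A * P₀ * (ψE A)⁻¹, Subtype.ext ?_, ?_⟩
        · show act (θ _) (std 0) = v
          rw [map_mul, map_mul, act_mul, act_mul, hfix0 _ (inv_mem ⟨A, rfl⟩), hP0e, hθE, act,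
            Matrix.mulVec_add, Matrix.mulVec_smul, Matrix.mulVec_smul]
          change α • act (emb (K + 1) A) (std 0) + β • act (emb (K + 1) A) (std 1) = v
          rw [act_emb_zero, hA1, smul_smul, hβ, inv_mul_cancel₀ hκ0, one_smul, hw₀, add_sub_cancel]
        rintro ⟨c, hc⟩ hce hcv
        obtain ⟨c', hc'⟩ : ∃ c', c' = act (emb (K + 1) A)⁻¹ c := ⟨_, rfl⟩
        have hce' : hermStd _ hF (std 0) c = 0 := hce
        have hcv' : hermStd _ hF c v = 0 := hcv
        have m0 : hermStd _ hF (std 0) c' = 0 := by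
          rw [hc', ← act_inv_eq (act_emb_zero A), act_form]; exact hce'
        have m1 : hermStd _ hF (std 1) c' = 0 := by
          rw [hc', ← act_inv_eq hA1, act_form, Herm.smul_left, hw₀, Herm.sub_left, Herm.smul_left,
            hB.eq_zero_symm hcv', hce']
          ring
        obtain ⟨A'', hA''⟩ := move2 c' (by rw [hc', act_form]; exact hc) m0 m1
        refine ⟨ψE A * (ψE (emb K A'') * J u₁), mul_mem ⟨A, rfl⟩ (mul_mem ⟨_, rfl⟩ huE), Subtype.ext ?_, ?_⟩
        · show act (θ _) (std 1) = c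
          rw [map_mul, act_mul, hA'', hθE, hc', ← act_mul, mul_inv_cancel, act_one]
        · have hcom : (ψE (emb K A''))⁻¹ * P₀ * ψE (emb K A'') = P₀ := by
            rw [hP₀, mul_assoc, (hfar A'' _).eq, inv_mul_cancel_left]
          obtain ⟨AD, hAD⟩ := exists_emb hF (k := 2)
            (g := (u₁ * swp hF)⁻¹ * blkAt 0 (by omega) (su2 hF α β hab) * (u₁ * swp hF)) (by
              rw [act_mul, act_mul, act_mul, swp_zero, hu1, blkAt_fix _ _ (Or.inr (by simp))]
              exact act_inv_eq (by rw [act_mul, swp_zero, hu1]))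
          refine ⟨blkAt 0 (show 0 + 2 ≤ K + 1 by omega) AD, ?_⟩
          rw [← hloJ, hAD, map_mul, map_mul, map_inv, map_mul, ← hP₀]
          show (J u₁ * t)⁻¹ * P₀ * (J u₁ * t) = _
          conv_lhs => rw [← hcom]
          group
      same := fun u' v' a b hg h1 h2 h3 h4 =>
        same hB (by rw [finrank_std]; omega) (fun h => hP (by rw [finrank_std] at h; omega)) hy0 hy1
          u' v' a b hg h1 h2 h3 h4
      step := fun c v w h1 h2 h3 => step hB (by rw [finrank_std]; omega) hy0 hy1 _ c v w h1 h2 h3 }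
  have hinj : Function.Injective θ := C'.injective θ
    (fun x hx => Subtype.ext (by rw [hsm, hx, act_one]))
    (by
      rintro _ ⟨A, rfl⟩ hA
      rw [hθE] at hA
      rw [emb_injective (K + 1) (hA.trans (map_one _).symm), map_one])
  have hsurj : θ.range = ⊤ := gen_top hF (by omega) hq (t := θ t) hT0 _
    (by rintro _ ⟨A, rfl⟩; exact ⟨ψE A, hθE A⟩) ⟨t, rfl⟩
  let eq := MulEquiv.ofBijective θ ⟨hinj, MonoidHom.range_eq_top.1 hsurj⟩
  refine ⟨((MonoidHom.fst G _).comp Γ.subtype).comp eq.symm.toMonoidHom, fun p h x => ?_⟩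
  show (eq.symm (blkAt p h x) : G × Cfsg.SU (K + 1 + 1) F q).1 = C.φ p x
  rcases p with _ | p
  · rw [show blkAt 0 h x = eq (J x) from rfl, eq.symm_apply_apply]
    rfl
  · rw [show blkAt (p + 1) h x = eq (ψE (blkAt p (show p + 3 ≤ K + 1 by omega) x)) from
      (emb_comp (show p + 3 ≤ K + 1 by omega) x).symm, eq.symm_apply_apply]
    exact h₀ p (by omega) x

/-- the homomorphism of the whole group -/
theorem exists_extends (hq : 4 ≤ q) : ∀ (N : ℕ), 3 ≤ N → ∀ C : Chain G F q N, ∃ f, Extends C f := by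
  intro N hN
  induction N, hN using Nat.le_induction with
  | base =>
    intro C
    refine ⟨C.φ 0, fun p h x => ?_⟩
    obtain rfl : p = 0 := by omega
    rw [blkAt_zero]
  | succ N hN ih =>
    intro C
    obtain ⟨f₀, h₀⟩ := ih C.tail
    exact exists_extends_succ hF (by omega) hN (fun _ => params hF hq) C h₀

/-- for `q = 3` one needs the four-dimensional case -/
theorem exists_extends_of_four (hq : 3 ≤ q) (h4 : ∀ C : Chain G F q 4, ∀ N, 4 ≤ N → ∀ (C' : Chain G F q N) (s : ℕ),
    s + 4 ≤ N → (∀ p, C.φ p = C'.φ (p + s)) → ∃ f, Extends C f) :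
    ∀ (N : ℕ), 4 ≤ N → ∀ C : Chain G F q N, ∀ N', N ≤ N' → ∀ (C' : Chain G F q N') (s : ℕ),
      s + N ≤ N' → (∀ p, C.φ p = C'.φ (p + s)) → ∃ f, Extends C f := by
  intro N hN
  induction N, hN using Nat.le_induction with
  | base => exact h4
  | succ N hN ih =>
    intro C N' hN' C' s hs hC
    obtain ⟨f₀, h₀⟩ := ih C.tail N' (by omega) C' (s + 1) (by omega) fun p =>
      (hC (p + 1)).trans (by rw [add_right_comm]; rfl)
    exact exists_extends_succ hF hq (by omega) (fun h => by omega) C h₀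

end CfsgLib.Phan
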