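import Cfsg.Agent.Lib.Recog.Phan.Pair
import Cfsg.Agent.Lib.Classical.SLGroup

/-!
# Two `SU 2`'s generating `SU 3` with commuting tori are a standard pair
-/

set_option autoImplicit false

namespace CfsgLib.Phan

open CfsgLib.Classical CfsgLib.Classical.Herm CfsgLib.Known.SUBounded
open scoped MatrixGroups

universe u w

variable {F : Type u} [Field F] [Fintype F] {q : ℕ} (hF : Fintype.card F = q ^ 2)
include hF

/-- two orthogonal isotropic vectors in three dimensions are dependent -/
theorem iso_dep {p v : Fin 3 → F} (hp0 : p ≠ 0) (hp : hermStd 3 hF p p = 0) (hv : hermStd 3 hF v v = 0)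
    (hpv : hermStd 3 hF p v = 0) : ∃ c : F, v = c • p := by
  have h := hermStd_isHerm (n := 3) hF
  by_contra hc
  push Not at hc
  have hli : LinearIndependent F ![p, v] := by
    rw [LinearIndependent.pair_iff]
    intro a b hab
    rcases eq_or_ne b 0 with hb | hb
    · refine ⟨?_, hb⟩
      rw [hb, zero_smul, add_zero] at hab
      exact (smul_eq_zero.1 hab).resolve_right hp0
    · refine absurd ?_ (hc (-(a / b)))
      rw [add_eq_zero_iff_eq_neg'] at hab
      rw [← one_smul F v, ← inv_mul_cancel₀ hb, mul_smul, hab, smul_neg, ← mul_smul, neg_smul,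
        div_eq_inv_mul]
  have hvp := h.eq_zero_symm hpv
  have := iso_bound h (x := (![] : Fin 0 → (Fin 3 → F))) ⟨fun i => i.elim0, fun i => i.elim0⟩
    (Submodule.span F (Set.range ![p, v])) (fun y hy z hz => by
      obtain ⟨c, rfl⟩ := (Submodule.mem_span_range_iff_exists_fun F).1 hy
      obtain ⟨d, rfl⟩ := (Submodule.mem_span_range_iff_exists_fun F).1 hz
      simp only [Fin.sum_univ_two, Matrix.cons_val_zero, Matrix.cons_val_one,
        map_add, LinearMap.add_apply, Herm.smul_left, Herm.smul_right, hp, hv, hpv, hvp]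
      ring)
    (fun i => i.elim0)
  rw [finrank_span_eq_card hli, Fintype.card_fin, finrank_std] at this
  omega

/-- vectors orthogonal to everything orthogonal to `p` -/
theorem perp_perp {p w : Fin 3 → F} (hp0 : p ≠ 0)
    (hw : ∀ v, hermStd 3 hF p v = 0 → hermStd 3 hF w v = 0) : ∃ c : F, w = c • p := by
  have h := hermStd_isHerm (n := 3) hF
  obtain ⟨y, hy⟩ := h.exists_apply_eq_one hp0
  refine ⟨powHom hF (hermStd 3 hF w y), sub_eq_zero.1 (h.nondeg _ fun v => ?_)⟩
  have := hw (v - hermStd 3 hF p v • y) (by rw [map_sub, Herm.smul_right, hy, mul_one, sub_self])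
  rw [map_sub, Herm.smul_right] at this
  rw [Herm.sub_left, Herm.smul_left, h.invol.invol]
  linear_combination this

omit [Fintype F] hF in
theorem act_smul {n : ℕ} (g : Cfsg.SU n F q) (c : F) (v : Fin n → F) : act g (c • v) = c • act g v :=
  Matrix.mulVec_smul g.1.1 c v

omit [Fintype F] hF in
theorem act_add' {n : ℕ} (g : Cfsg.SU n F q) (v w : Fin n → F) : act g (v + w) = act g v + act g w :=
  Matrix.mulVec_add g.1.1 v w

omit [Fintype F] hF in
theorem act_sub' {n : ℕ} (g : Cfsg.SU n F q) (v w : Fin n → F) : act g (v - w) = act g v - act g w :=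
  Matrix.mulVec_sub g.1.1 v w

/-- an involution in characteristic two -/
theorem exists_centre (h2 : (2 : F) = 0) {s : Cfsg.SU 3 F q} (hs : s * s = 1) (hs1 : s ≠ 1) :
    ∃ p : Fin 3 → F, p ≠ 0 ∧ hermStd 3 hF p p = 0 ∧ (∀ v, act s v = v ↔ hermStd 3 hF p v = 0) ∧
      ∀ v, ∃ c : F, act s v - v = c • p := by
  have h := hermStd_isHerm (n := 3) hF
  obtain ⟨x, hx⟩ : ∃ x, act s x ≠ x := by
    by_contra hc
    push Not at hc
    exact hs1 (SU_ext fun v => by rw [hc, act_one])
  have hss : ∀ v, act s (act s v) = v := fun v => by rw [← act_mul, hs, act_one]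
  have hneg : ∀ v : Fin 3 → F, -v = v := fun v => by
    funext i
    show -v i = v i
    linear_combination -(v i) * h2
  have hfix : ∀ v, act s (act s v - v) = act s v - v := fun v => by
    rw [act_sub', hss, ← neg_sub, hneg]
  have hperp : ∀ v y, act s y = y → hermStd 3 hF (act s v - v) y = 0 := fun v y hy => by
    rw [Herm.sub_left]
    nth_rewrite 1 [← hy]
    rw [act_form, sub_self]
  obtain ⟨p, hp⟩ : ∃ p, p = act s x - x := ⟨_, rfl⟩
  have hp0 : p ≠ 0 := hp ▸ sub_ne_zero.2 hx
  have hpp : hermStd 3 hF p p = 0 := by rw [hp]; exact hperp _ _ (hfix x)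
  have him : ∀ v, ∃ c : F, act s v - v = c • p := fun v =>
    iso_dep hF hp0 hpp (hperp _ _ (hfix v)) (hp ▸ hperp _ _ (hfix v))
  refine ⟨p, hp0, hpp, fun v => ⟨fun hv => hp ▸ hperp x v hv, fun hv => ?_⟩, him⟩
  refine sub_eq_zero.1 (h.nondeg _ fun y => ?_)
  have e1 : hermStd 3 hF (act s v) y = hermStd 3 hF v (act s y) := by
    conv_lhs => rw [← hss y, act_form]
  obtain ⟨c, hc⟩ := him y
  rw [Herm.sub_left, e1, ← map_sub, hc, Herm.smul_right, h.eq_zero_symm hv, mul_zero]

/-- commuting involutions have the same fixed vectors -/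
theorem fix_of_commute (h2 : (2 : F) = 0) {s t : Cfsg.SU 3 F q} (hs : s * s = 1) (hs1 : s ≠ 1) (ht : t * t = 1)
    (hst : Commute s t) {v : Fin 3 → F} (hv : act s v = v) : act t v = v := by
  rcases eq_or_ne t 1 with rfl | ht1
  · exact act_one v
  have h := hermStd_isHerm (n := 3) hF
  obtain ⟨p, hp0, hpp, hp, -⟩ := exists_centre hF h2 hs hs1
  obtain ⟨r, hr0, hrr, hr, -⟩ := exists_centre hF h2 ht ht1
  obtain ⟨c, hc⟩ := perp_perp hF hp0 (w := act t p) fun w hw => by
    have h1 : act s w = w := (hp w).2 hw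
    have h2' : act s (act t w) = act t w := by rw [← act_mul, hst.eq, act_mul, h1]
    have h3 := (hp _).1 h2'
    have h4 : hermStd 3 hF (act t p) w = hermStd 3 hF p (act t w) := by
      conv_lhs => rw [← act_one (q := q) w, ← ht, act_mul, act_form]
    rw [h4, h3]
  have hcc : c * c = 1 := by
    have := congrArg (act t) hc
    rw [← act_mul, ht, act_one, act_smul, hc, smul_smul] at this
    by_contra hne
    exact hp0 ((smul_eq_zero.1 (show (c * c - 1) • p = 0 by rw [sub_smul, ← this, one_smul, sub_self])).resolve_left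
      (sub_ne_zero.2 hne))
  have hc1 : c = 1 := by
    have : (c - 1) * (c - 1) = 0 := by linear_combination hcc + (1 - c) * h2
    exact sub_eq_zero.1 (mul_self_eq_zero.1 this)
  obtain ⟨d, hd⟩ := iso_dep hF hr0 hrr hpp ((hr p).1 (by rw [hc, hc1, one_smul]))
  have hd0 : d ≠ 0 := fun e => hp0 (by rw [hd, e, zero_smul])
  refine (hr v).2 ?_
  have := (hp v).1 hv
  rw [hd, Herm.smul_left] at this
  exact (mul_eq_zero.1 this).resolve_left ((map_ne_zero (powHom hF)).2 hd0)

/-- a copy of `SU 2` fixes a vector of norm one -/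
theorem exists_fixed (hq : 4 ≤ q) (ι : Cfsg.SU 2 F q →* Cfsg.SU 3 F q) (hι : Function.Injective ι) :
    ∃ z, hermStd 3 hF z z = 1 ∧ ∀ x, act (ι x) z = z := by
  classical
  have h := hermStd_isHerm (n := 3) hF
  obtain ⟨e, -⟩ := exists_trace_equiv hF
  have : Fintype (fixedSub (powHom hF)) := Fintype.ofFinite _
  have hK : 4 ≤ Fintype.card (fixedSub (powHom hF)) := by
    rw [← Nat.card_eq_fintype_card, card_fixed_powHom hF]; exact hq
  by_cases h2 : (2 : F) = 0
  · have h2K : (2 : fixedSub (powHom hF)) = 0 := Subtype.ext h2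
    let xm (i j : Fin 2) (hij : i ≠ j) (c : fixedSub (powHom hF)) : Cfsg.SU 3 F q :=
      ι (e (Matrix.SpecialLinearGroup.transvection hij c))
    have hadd : ∀ (i j : Fin 2) (hij : i ≠ j) c d, xm i j hij c * xm i j hij d = xm i j hij (c + d) :=
      fun i j hij c d => by
        simp only [xm, ← map_mul]
        congr 2
        refine Subtype.ext ?_
        show Matrix.transvection i j c * Matrix.transvection i j d = Matrix.transvection i j (c + d)
        exact Matrix.transvection_mul_transvection_same i j hij c d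
    have h01 : (0 : Fin 2) ≠ 1 := by decide
    have h10 : (1 : Fin 2) ≠ 0 := by decide
    have hzero : ∀ (i j : Fin 2) (hij : i ≠ j), xm i j hij 0 = 1 := fun i j hij => by
      have := hadd i j hij 0 0
      rw [add_zero] at this
      simpa using this
    have hne : ∀ (i j : Fin 2) (hij : i ≠ j), xm i j hij 1 ≠ 1 := fun i j hij e' => by
      have h1 := e.injective (hι (e'.trans (by rw [map_one, map_one] : (1 : Cfsg.SU 3 F q) = ι (e 1))))
      have := congrFun (congrFun (congrArg Subtype.val h1) i) j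
      simp [Matrix.SpecialLinearGroup.transvection_coe, hij] at this
    have hsq : ∀ (i j : Fin 2) (hij : i ≠ j) c, xm i j hij c * xm i j hij c = 1 := fun i j hij c => by
      rw [hadd, show c + c = 0 by linear_combination c * h2K, hzero]
    have hcm : ∀ (i j : Fin 2) (hij : i ≠ j) c, Commute (xm i j hij 1) (xm i j hij c) := fun i j hij c => by
      show _ * _ = _ * _
      rw [hadd, hadd, add_comm]
    obtain ⟨p, hp0, hpp, hp, hpim⟩ := exists_centre hF h2 (hsq 0 1 h01 1) (hne 0 1 h01)
    obtain ⟨r, hr0, hrr, hr, hrim⟩ := exists_centre hF h2 (hsq 1 0 h10 1) (hne 1 0 h10)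
    have hpr : hermStd 3 hF p r ≠ 0 := by
      intro h0
      obtain ⟨d, hd⟩ := iso_dep hF hp0 hpp hrr h0
      -- then the two involutions commute
      have hcomm : xm 0 1 h01 1 * xm 1 0 h10 1 = xm 1 0 h10 1 * xm 0 1 h01 1 := by
        refine SU_ext fun v => ?_
        rw [act_mul, act_mul]
        obtain ⟨c, hc⟩ := hrim v
        obtain ⟨c', hc'⟩ := hpim v
        have k1 : act (xm 0 1 h01 1) r = r := (hp r).2 h0
        have k2 : act (xm 1 0 h10 1) p = p := (hr p).2 (h.eq_zero_symm h0)
        have a1 : act (xm 1 0 h10 1) v = v + c • r := by rw [← hc]; abel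
        have a2 : act (xm 0 1 h01 1) v = v + c' • p := by rw [← hc']; abel
        rw [a1, act_add', act_smul, k1, a2, act_add', act_smul, k2, a1]
        abel
      simp only [xm, ← map_mul] at hcomm
      have := congrFun (congrFun (congrArg Subtype.val (e.injective (hι hcomm))) 0) 0
      simp [Matrix.SpecialLinearGroup.transvection_coe, Matrix.transvection, Matrix.mul_apply,
        Fin.sum_univ_two] at this
    obtain ⟨z, hz, hz0⟩ := (Submodule.ne_bot_iff _).1 (LinearMap.ker_ne_bot_of_finrank_lt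
      (f := LinearMap.pi fun i : Fin 2 => hermStd 3 hF (![p, r] i)) (by
        rw [Module.finrank_fin_fun, finrank_std]; omega))
    have hzp : hermStd 3 hF p z = 0 := congrFun (LinearMap.mem_ker.1 hz) 0
    have hzr : hermStd 3 hF r z = 0 := congrFun (LinearMap.mem_ker.1 hz) 1
    have hzz : hermStd 3 hF z z ≠ 0 := fun h0 => by
      obtain ⟨d, hd⟩ := iso_dep hF hp0 hpp h0 hzp
      rw [hd, Herm.smul_right] at hzr
      rcases mul_eq_zero.1 hzr with k | k
      · exact hz0 (by rw [hd, k, zero_smul])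
      · exact hpr (h.eq_zero_symm k)
    obtain ⟨κ, -, hκ⟩ := h.scale_to hzz (map_one _) one_ne_zero
    refine ⟨κ • z, hκ, fun x => ?_⟩
    let S : Subgroup SL(2, fixedSub (powHom hF)) :=
      { carrier := {M | act (ι (e M)) (κ • z) = κ • z}
        one_mem' := by simp [act_one]
        mul_mem' := fun {a b} ha hb => by
          simp only [Set.mem_ofPred_eq] at *
          rw [map_mul, map_mul, act_mul, hb, ha]
        inv_mem' := fun {a} ha => by
          simp only [Set.mem_ofPred_eq] at *
          rw [map_inv, map_inv]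
          exact act_inv_eq ha }
    have hgen : ∀ (i j : Fin 2) (hij : i ≠ j) c, Matrix.SpecialLinearGroup.transvection hij c ∈ S := by
      intro i j hij c
      show act (xm i j hij c) (κ • z) = κ • z
      have h1 : act (xm i j hij 1) (κ • z) = κ • z := by
        fin_cases i <;> fin_cases j
        · exact absurd rfl hij
        · exact (hp _).2 (by rw [Herm.smul_right, hzp, mul_zero])
        · exact (hr _).2 (by rw [Herm.smul_right, hzr, mul_zero])
        · exact absurd rfl hij
      exact fix_of_commute hF h2 (hsq i j hij 1) (hne i j hij) (hsq i j hij c) (hcm i j hij c) h1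
    have := (closure_transvection_eq_top S hgen).ge (Subgroup.mem_top (e.symm x))
    have hS : act (ι (e (e.symm x))) (κ • z) = κ • z := this
    rwa [e.apply_symm_apply] at hS
  · obtain ⟨s, hs⟩ : ∃ s, s = ι (negOne hF) := ⟨_, rfl⟩
    have hq0 : q ≠ 0 := by omega
    have hneg : (-1 : F) ^ q = -1 := by rw [← powHom_apply hF, map_neg, map_one]
    have hn2 : negOne hF * negOne hF = (1 : Cfsg.SU 2 F q) := by
      refine Subtype.ext (Subtype.ext ?_)
      show (negOne hF).1.1 * (negOne hF).1.1 = 1
      ext i j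
      fin_cases i <;> fin_cases j <;> simp [negOne, su2, Matrix.mul_apply, Fin.sum_univ_two, hneg, hq0]
    have hn1 : negOne hF ≠ (1 : Cfsg.SU 2 F q) := fun e' => by
      have := congrArg (fun g : Cfsg.SU 2 F q => g.1.1 0 0) e'
      simp [negOne, su2] at this
      exact h2 (by linear_combination -this)
    have hncent : ∀ x : Cfsg.SU 2 F q, negOne hF * x = x * negOne hF := fun x => by
      refine Subtype.ext (Subtype.ext ?_)
      show (negOne hF).1.1 * x.1.1 = x.1.1 * (negOne hF).1.1
      ext i j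
      fin_cases i <;> fin_cases j <;> simp [negOne, su2, Matrix.mul_apply, Fin.sum_univ_two, hneg, hq0]
    have hss : s * s = 1 := by rw [hs, ← map_mul, hn2, map_one]
    have hs1 : s ≠ 1 := fun e' => hn1 (hι (by rw [← hs, e', map_one]))
    have hs2 : ∀ v, act s (act s v) = v := fun v => by rw [← act_mul, hss, act_one]
    obtain ⟨u, hu0, hu⟩ : ∃ u, u ≠ 0 ∧ act s u = u := by
      by_contra hc
      push Not at hc
      have hm : ∀ v, act s v = (-1 : F) • v := fun v => by
        have h1 : v + act s v = 0 := by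
          by_contra hne
          exact hc _ hne (by rw [act_add', hs2, add_comm])
        rw [neg_one_smul]
        exact eq_neg_of_add_eq_zero_right h1
      have hM : s.1.1 = -1 := by
        refine Matrix.ext_of_mulVec_single fun i => ?_
        rw [Matrix.neg_mulVec, Matrix.one_mulVec]
        exact (hm (Pi.single i 1)).trans (neg_one_smul F _)
      have hd := s.1.2
      rw [hM, Matrix.det_neg, Matrix.det_one, Fintype.card_fin] at hd
      exact h2 (by linear_combination -hd)
    obtain ⟨z, hz, hzs⟩ : ∃ z, hermStd 3 hF z z ≠ 0 ∧ act s z = z := by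
      by_contra hc
      have hc' : ∀ z, act s z = z → hermStd 3 hF z z = 0 := fun z hz => by
        by_contra hne; exact hc ⟨z, hne, hz⟩
      obtain ⟨y, hy⟩ := h.exists_apply_eq_one hu0
      obtain ⟨y', hy'⟩ : ∃ y', y' = (2 : F)⁻¹ • (y + act s y) := ⟨_, rfl⟩
      have hy'f : act s y' = y' := by rw [hy', act_smul, act_add', hs2, add_comm]
      have huy : hermStd 3 hF u y' = 1 := by
        have e1 : hermStd 3 hF u (act s y) = 1 := by
          conv_lhs => rw [← hu, act_form, hy]
        rw [hy', Herm.smul_right, map_add, hy, e1, show (1 : F) + 1 = 2 by norm_num, inv_mul_cancel₀ h2]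
      obtain ⟨a, ha⟩ := h.invol.exists_trace_ne_zero
      have key := h.apply_smul_add 1 a u y'
      have hfix : act s ((1 : F) • u + a • y') = (1 : F) • u + a • y' := by
        rw [act_add', act_smul, act_smul, hu, hy'f]
      rw [hc' _ hfix, hc' u hu, hc' y' hy'f, huy, map_one] at key
      simp only [one_mul, mul_zero, zero_add, mul_one] at key
      exact ha key.symm
    obtain ⟨κ, -, hκ⟩ := h.scale_to hz (map_one _) one_ne_zero
    have hκs : act s (κ • z) = κ • z := by rw [act_smul, hzs]
    refine ⟨κ • z, hκ, ?_⟩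
    obtain ⟨g, hg⟩ := exists_act_eq hF (n := 3) (k := 1) (by omega) ![std 0] ![κ • z]
      (fun i j => by fin_cases i; fin_cases j; simp [std_orth])
      (fun i j => by fin_cases i; fin_cases j; exact hκ.trans (if_pos rfl).symm)
    have hg0 : act g (std 0) = κ • z := hg 0
    obtain ⟨X, hX⟩ := exists_emb hF (g := g⁻¹ * s * g) (by rw [act_mul, act_mul, hg0, hκs, act_inv_eq hg0])
    have hXX : X * X = 1 := emb_injective 2 (by
      rw [map_mul, hX, map_one]
      calc g⁻¹ * s * g * (g⁻¹ * s * g) = g⁻¹ * (s * s) * g := by group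
        _ = 1 := by rw [hss]; group)
    have hX1 : X ≠ 1 := fun e' => hs1 (by
      have : g⁻¹ * s * g = 1 := by rw [← hX, e', map_one]
      calc s = g * (g⁻¹ * s * g) * g⁻¹ := by group
        _ = 1 := by rw [this]; group)
    have hXm : X = negOne hF := by
      obtain ⟨e00, e01, e11⟩ := su2_entries hF X
      have m00 := congrArg (fun k : Cfsg.SU 2 F q => k.1.1 0 0) hXX
      have m10 := congrArg (fun k : Cfsg.SU 2 F q => k.1.1 1 0) hXX
      change (X.1.1 * X.1.1) 0 0 = (1 : Matrix (Fin 2) (Fin 2) F) 0 0 at m00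
      change (X.1.1 * X.1.1) 1 0 = (1 : Matrix (Fin 2) (Fin 2) F) 1 0 at m10
      simp [Matrix.mul_apply, Fin.sum_univ_two, e01, e11] at m00 m10
      have hm10 : X.1.1 1 0 * (X.1.1 0 0 + X.1.1 0 0 ^ q) = 0 := by linear_combination m10
      have hb : X.1.1 1 0 = 0 := by
        rcases mul_eq_zero.1 hm10 with k | k
        · exact k
        · exfalso
          -- then the square would be minus one
          exact h2 (by linear_combination (-1 : F) * m00 - e00 + (X.1.1 0 0) * k)
      rw [hb, zero_pow hq0, mul_zero, neg_zero, add_zero] at m00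
      have h00 : X.1.1 0 0 = -1 := by
        rcases mul_self_eq_one_iff.1 m00 with k | k
        · refine absurd ?_ hX1
          rw [su2_eta hF X]
          refine Subtype.ext (Subtype.ext ?_)
          ext i j
          fin_cases i <;> fin_cases j <;> simp [su2_val, k, hb, hq0]
        · exact k
      rw [su2_eta hF X]
      exact su2_congr hF _ _ h00 hb
    -- so the fixed vectors of `s` form a line
    have hline : ∀ w, act s w = w → ∃ c : F, w = c • (κ • z) := by
      intro w hw
      obtain ⟨w', hw'⟩ : ∃ w', w' = act g⁻¹ w := ⟨_, rfl⟩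
      have h1 : act (emb 2 X) w' = w' := by
        rw [hX, hw', ← act_mul, show g⁻¹ * s * g * g⁻¹ = g⁻¹ * s by group, act_mul, hw]
      refine ⟨w' 0, ?_⟩
      have h3 : w' = w' 0 • std 0 := by
        funext i
        have e1 := congrFun h1 i
        rw [emb_eq, show blkAt 1 (show 1 + 2 ≤ 3 by omega) X = blo X from rfl, hXm] at e1
        simp [act, blo_val, negOne, su2, Matrix.mulVec, dotProduct, Fin.sum_univ_three, hneg, hq0] at e1
        fin_cases i
        · simp [std]
        · simp at e1 ⊢
          have : (2 : F) * w' 1 = 0 := by linear_combination -e1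
          simpa [std] using (mul_eq_zero.1 this).resolve_left h2
        · simp at e1 ⊢
          have : (2 : F) * w' 2 = 0 := by linear_combination -e1
          simpa [std] using (mul_eq_zero.1 this).resolve_left h2
      calc w = act g w' := by rw [hw', ← act_mul, mul_inv_cancel, act_one]
        _ = _ := by conv_lhs => rw [h3, act_smul, hg0]
    have hz0 : κ • z ≠ 0 := fun e' => by rw [e', map_zero] at hκ; exact zero_ne_one hκ
    have hch : ∀ x, ∃ c : F, act (ι x) (κ • z) = c • (κ • z) := fun x => hline _ (by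
      rw [← act_mul, hs, ← map_mul, hncent, map_mul, act_mul, ← hs, hκs])
    choose c hc using hch
    have hcm : ∀ x y, c (x * y) = c x * c y := fun x y => by
      refine smul_left_injective F hz0 ?_
      show c (x * y) • (κ • z) = (c x * c y) • (κ • z)
      rw [← hc, map_mul, act_mul, hc, act_smul, hc, smul_smul, mul_comm]
    have hc0 : c 1 = 1 := smul_left_injective F hz0 (by
      show c 1 • (κ • z) = (1 : F) • (κ • z)
      rw [← hc, map_one, act_one, one_smul])
    let χ : Cfsg.SU 2 F q →* F := { toFun := c, map_one' := hc0, map_mul' := hcm }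
    intro x
    have hle : commutator SL(2, fixedSub (powHom hF)) ≤ (χ.toHomUnits.comp e.toMonoidHom).ker := by
      rw [commutator_def, Subgroup.commutator_le]
      intro a _ b _
      rw [MonoidHom.mem_ker, map_commutatorElement, commutatorElement_eq_one_iff_mul_comm]
      exact mul_comm _ _
    rw [commutator_SL_two_eq_top hK] at hle
    have := congrArg Units.val (MonoidHom.mem_ker.1 (hle (Subgroup.mem_top (e.symm x))))
    rw [MonoidHom.comp_apply, MonoidHom.coe_toHomUnits, MulEquiv.coe_toMonoidHom, e.apply_symm_apply] at this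
    rw [hc, show c x = 1 from this, one_smul]

/-- a nontrivial element of order `q + 1` fixing a vector of norm one fixes only its multiples -/
theorem fixed_line {d : Cfsg.SU 3 F q} (hd : orderOf d = q + 1) {z : Fin 3 → F} (hz : hermStd 3 hF z z = 1)
    (hdz : act d z = z) {w : Fin 3 → F} (hw : act d w = w) : ∃ c : F, w = c • z := by
  classical
  obtain ⟨g, hg⟩ := exists_act_eq hF (n := 3) (k := 1) (by omega) ![std 0] ![z]
    (fun i j => by fin_cases i; fin_cases j; simp [std_orth]) (fun i j => by fin_cases i; fin_cases j; simp [hz])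
  have hg0 : act g (std 0) = z := hg 0
  obtain ⟨X, hX⟩ := exists_emb hF (g := g⁻¹ * d * g) (by rw [act_mul, act_mul, hg0, hdz, act_inv_eq hg0])
  obtain ⟨w', hw'⟩ : ∃ w', w' = act g⁻¹ w := ⟨_, rfl⟩
  have h1 : act (emb 2 X) w' = w' := by
    rw [hX, hw', ← act_mul, show g⁻¹ * d * g * g⁻¹ = g⁻¹ * d by group, act_mul, hw]
  refine ⟨w' 0, ?_⟩
  obtain ⟨w₁, hw₁⟩ : ∃ w₁ : Fin 2 → F, w₁ = Fin.tail w' := ⟨_, rfl⟩
  have hcons : w' = Fin.cons (w' 0) w₁ := by rw [hw₁, Fin.cons_self_tail]
  suffices hz0 : w₁ = 0 by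
    have : w' = w' 0 • std 0 := by
      conv_lhs => rw [hcons, hz0]
      funext i
      cases i using Fin.cases <;> simp [std, Fin.succ_ne_zero]
    calc w = act g w' := by rw [hw', ← act_mul, mul_inv_cancel, act_one]
      _ = _ := by conv_lhs => rw [this, act_smul, hg0]
  by_contra hne
  have hXw : act X w₁ = w₁ := by
    funext i
    have e1 := congrFun h1 i.succ
    rw [act, coe_emb, Known.SpBounded.coe_bs] at e1
    simp [Matrix.mulVec, dotProduct, Fin.sum_univ_succ, Known.SpBounded.pad] at e1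
    simp [act, Matrix.mulVec, dotProduct, Fin.sum_univ_succ, hw₁, Fin.tail]
    exact e1
  have hdet : (X.1.1 - 1).det = 0 := Matrix.exists_mulVec_eq_zero_iff.1 ⟨w₁, hne, by
    rw [Matrix.sub_mulVec, Matrix.one_mulVec]
    exact sub_eq_zero.2 hXw⟩
  have hd1 := X.1.2
  rw [Matrix.det_fin_two] at hd1 hdet
  simp at hdet
  have hN : (X.1.1 - 1) * (X.1.1 - 1) = 0 := by
    ext i j
    fin_cases i <;> fin_cases j <;> simp [Matrix.mul_apply, Fin.sum_univ_two]
    · linear_combination (X.1.1 0 0 - 1) * (hd1 - hdet) - hdet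
    · linear_combination (X.1.1 0 1) * (hd1 - hdet)
    · linear_combination (X.1.1 1 0) * (hd1 - hdet)
    · linear_combination (X.1.1 1 1 - 1) * (hd1 - hdet) - hdet
  obtain ⟨p, hp⟩ := CharP.exists F
  have := hp
  have hpp : p.Prime := CharP.char_is_prime F p
  have : Fact p.Prime := ⟨hpp⟩
  have hXp : X ^ p = 1 := by
    refine Subtype.ext (Subtype.ext ?_)
    show X.1.1 ^ p = 1
    have := add_pow_char_of_commute (R := Matrix (Fin 2) (Fin 2) F) p (Commute.one_left (X.1.1 - 1))
    rw [add_sub_cancel, one_pow] at this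
    rw [this, show (X.1.1 - 1) ^ p = 0 from by
      rw [show p = 2 + (p - 2) by have := hpp.two_le; omega, pow_add, sq, hN, zero_mul], add_zero]
  have hdp : d ^ p = 1 := by
    have : (g⁻¹ * d * g) ^ p = 1 := by rw [← hX, ← map_pow, hXp, map_one]
    have e2 : (MulAut.conj g⁻¹) (d ^ p) = 1 := by
      rw [map_pow]
      simpa using this
    exact (MulAut.conj g⁻¹).injective (e2.trans (map_one _).symm)
  have hdvd := orderOf_dvd_of_pow_eq_one hdp
  rw [hd] at hdvd
  have hq2 := two_le_of_card_sq hF
  rcases hpp.eq_one_or_self_of_dvd _ hdvd with h' | h'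
  · omega
  · obtain ⟨k, -, hk⟩ := FiniteField.card F p
    rw [hF] at hk
    have : p ∣ q := hpp.dvd_of_dvd_pow (show p ∣ q ^ 2 by rw [hk]; exact dvd_pow_self p k.ne_zero)
    have := Nat.le_of_dvd (by omega) this
    omega

/-- copies of `SU 2` fixing the same vector are equal -/
theorem range_eq_of_fix {ι ι' : Cfsg.SU 2 F q →* Cfsg.SU 3 F q} (hι : Function.Injective ι)
    (hι' : Function.Injective ι') {z : Fin 3 → F} (hz : hermStd 3 hF z z = 1) (h : ∀ x, act (ι x) z = z)
    (h' : ∀ x, act (ι' x) z = z) : ι.range = ι'.range := by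
  classical
  obtain ⟨g, hg⟩ := exists_act_eq hF (n := 3) (k := 1) (by omega) ![std 0] ![z]
    (fun i j => by fin_cases i; fin_cases j; simp [std_orth]) (fun i j => by fin_cases i; fin_cases j; simp [hz])
  have hg0 : act g (std 0) = z := hg 0
  have key : ∀ κ : Cfsg.SU 2 F q →* Cfsg.SU 3 F q, Function.Injective κ → (∀ x, act (κ x) z = z) →
      κ.range = ((MulAut.conj g).toMonoidHom.comp (emb 2)).range := by
    intro κ hκ hk
    have hex : ∀ x, ∃ y, g * emb 2 y * g⁻¹ = κ x := fun x => by
      obtain ⟨y, hy⟩ := exists_emb hF (g := g⁻¹ * κ x * g) (by rw [act_mul, act_mul, hg0, hk, act_inv_eq hg0])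
      exact ⟨y, by rw [hy]; group⟩
    choose f hf using hex
    have hfs : Function.Surjective f := Finite.surjective_of_injective fun x y e => hκ (by rw [← hf x, e, hf y])
    refine le_antisymm ?_ ?_
    · rintro _ ⟨x, rfl⟩; exact ⟨f x, hf x⟩
    · rintro _ ⟨y, rfl⟩
      obtain ⟨x, rfl⟩ := hfs y
      exact ⟨x, (hf x).symm⟩
  rw [key ι hι h, key ι' hι' h']

/-- commuting tori give a standard pair -/
theorem standard_of_tori (hq : 4 ≤ q) {G : Type w} [Group G] (U W : Subgroup G)
    (eU : Cfsg.SU 2 F q ≃* U) (eW : Cfsg.SU 2 F q ≃* W) (e : ↥(U ⊔ W) ≃* Cfsg.SU 3 F q)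
    {a b : G} (ha : a ∈ U) (hb : b ∈ W) (hoa : orderOf a = q + 1) (hob : orderOf b = q + 1) (hab : Commute a b) :
    Cfsg.IsStandardUnitaryPair (U ⊔ W) U W F q := by
  classical
  have h := hermStd_isHerm (n := 3) hF
  let ιU : Cfsg.SU 2 F q →* Cfsg.SU 3 F q :=
    (e.toMonoidHom.comp (Subgroup.inclusion le_sup_left)).comp eU.toMonoidHom
  let ιW : Cfsg.SU 2 F q →* Cfsg.SU 3 F q :=
    (e.toMonoidHom.comp (Subgroup.inclusion le_sup_right)).comp eW.toMonoidHom
  have hιU : Function.Injective ιU :=
    (e.injective.comp (Subgroup.inclusion_injective _)).comp eU.injective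
  have hιW : Function.Injective ιW :=
    (e.injective.comp (Subgroup.inclusion_injective _)).comp eW.injective
  obtain ⟨zA, hzA, hA⟩ := exists_fixed hF hq ιU hιU
  obtain ⟨zB, hzB, hB⟩ := exists_fixed hF hq ιW hιW
  let a' : ↥(U ⊔ W) := ⟨a, le_sup_left (α := Subgroup G) ha⟩
  let b' : ↥(U ⊔ W) := ⟨b, le_sup_right (α := Subgroup G) hb⟩
  have fixA : ∀ x : ↥(U ⊔ W), (x : G) ∈ U → act (e x) zA = zA := fun x hx => by
    obtain ⟨y, hy⟩ := eU.surjective ⟨x, hx⟩
    have : x = Subgroup.inclusion le_sup_left (eU y) := by rw [hy]; exact Subtype.ext rfl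
    rw [this]; exact hA y
  have fixB : ∀ x : ↥(U ⊔ W), (x : G) ∈ W → act (e x) zB = zB := fun x hx => by
    obtain ⟨y, hy⟩ := eW.surjective ⟨x, hx⟩
    have : x = Subgroup.inclusion le_sup_right (eW y) := by rw [hy]; exact Subtype.ext rfl
    rw [this]; exact hB y
  have hpar : ¬ ∃ c : F, zA = c • zB := by
    rintro ⟨c, hc⟩
    let S : Subgroup ↥(U ⊔ W) :=
      { carrier := {x | act (e x) zB = zB}
        one_mem' := by simp [act_one]
        mul_mem' := fun {x y} hx hy => by
          simp only [Set.mem_ofPred_eq] at *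
          rw [map_mul, act_mul, hy, hx]
        inv_mem' := fun {x} hx => by
          simp only [Set.mem_ofPred_eq] at *
          rw [map_inv]; exact act_inv_eq hx }
    have hUS : U ⊔ W ≤ S.map (U ⊔ W).subtype := by
      refine sup_le (fun x hx => ?_) (fun x hx => ?_)
      · refine ⟨⟨x, le_sup_left (α := Subgroup G) hx⟩, ?_, rfl⟩
        have h1 := fixA ⟨x, le_sup_left (α := Subgroup G) hx⟩ hx
        rw [hc, act_smul] at h1
        have hc0 : c ≠ 0 := fun e0 => by rw [hc, e0, zero_smul, map_zero] at hzA; exact zero_ne_one hzA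
        exact smul_right_injective _ hc0 h1
      · exact ⟨⟨x, le_sup_right (α := Subgroup G) hx⟩, fixB ⟨x, le_sup_right (α := Subgroup G) hx⟩ hx, rfl⟩
    obtain ⟨g, hg⟩ := exists_act_eq hF (n := 3) (k := 1) (by omega) ![std 0] ![zB]
      (fun i j => by fin_cases i; fin_cases j; simp [std_orth]) (fun i j => by fin_cases i; fin_cases j; simp [hzB])
    have hg0 : act g (std 0) = zB := hg 0
    obtain ⟨⟨x, hx⟩, hxS, hxe⟩ := hUS (e.symm (g * swp hF * g⁻¹)).2
    have hxe' : (⟨x, hx⟩ : ↥(U ⊔ W)) = e.symm (g * swp hF * g⁻¹) := Subtype.ext hxe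
    have h1 : act (g * swp hF * g⁻¹) zB = zB := by
      have h2 : act (e ⟨x, hx⟩) zB = zB := hxS
      rwa [hxe', e.apply_symm_apply] at h2
    rw [act_mul, act_mul, act_inv_eq hg0, swp_zero, ← hg0] at h1
    have h3 := congrArg (act g⁻¹) h1
    rw [← act_mul, ← act_mul, inv_mul_cancel, act_one, act_one] at h3
    have := congrFun h3 0
    simp [std] at this
  have hoA : orderOf (e a') = q + 1 := by
    rw [MulEquiv.orderOf_eq, ← hoa]; exact (Subgroup.orderOf_coe a').symm
  have hoB : orderOf (e b') = q + 1 := by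
    rw [MulEquiv.orderOf_eq, ← hob]; exact (Subgroup.orderOf_coe b').symm
  have hab' : e a' * e b' = e b' * e a' := by
    rw [← map_mul, ← map_mul]
    exact congrArg e (Subtype.ext hab.eq)
  obtain ⟨χ, hχ⟩ := fixed_line hF hoB hzB (fixB b' hb) (w := act (e a') zB) (by
    rw [← act_mul, ← hab', act_mul, fixB b' hb])
  have horth : hermStd 3 hF zA zB = 0 := by
    by_contra hne
    have h1 : hermStd 3 hF (act (e a') zA) (act (e a') zB) = hermStd 3 hF zA zB := act_form hF _ _ _
    rw [fixA a' ha, hχ, Herm.smul_right] at h1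
    have hχ1 : χ = 1 := mul_right_cancel₀ hne (h1.trans (one_mul _).symm)
    rw [hχ1, one_smul] at hχ
    obtain ⟨c, hc⟩ := fixed_line hF hoA hzA (fixA a' ha) hχ
    have hc0 : c ≠ 0 := fun e0 => by rw [hc, e0, zero_smul, map_zero] at hzB; exact zero_ne_one hzB
    exact hpar ⟨c⁻¹, by rw [hc, smul_smul, inv_mul_cancel₀ hc0, one_smul]⟩
  obtain ⟨g, hg⟩ := exists_act_eq hF (n := 3) (k := 2) (by omega) ![std 0, std 2] ![zB, zA]
    (fun i j => by fin_cases i <;> fin_cases j <;> simp [std_orth])
    (fun i j => by fin_cases i <;> fin_cases j <;> simp [hzA, hzB, horth, h.eq_zero_symm horth])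
  let c : MulAut (Cfsg.SU 3 F q) := MulAut.conj g
  refine Or.inl ⟨c.trans e.symm, ?_, ?_⟩
  · rw [suBlock_upper hF]
    have hr : ιU.range = (c.toMonoidHom.comp bup).range := by
      refine range_eq_of_fix hF hιU (c.injective.comp (blk_injective _)) hzA hA fun x => ?_
      show act (g * bup x * g⁻¹) zA = zA
      have hg1 : act g (std 2) = zA := hg 1
      rw [act_mul, act_mul, act_inv_eq hg1, blkAt_fix _ _ (Or.inr (by simp)), hg1]
    rw [← MonoidHom.range_comp]
    refine le_antisymm ?_ fun u hu => ?_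
    · rintro _ ⟨x, rfl⟩
      obtain ⟨y, hy⟩ : c (bup x) ∈ ιU.range := hr ▸ ⟨x, rfl⟩
      show ((e.symm (c (bup x)) : ↥(U ⊔ W)) : G) ∈ U
      rw [← hy]
      simp [ιU]
    · obtain ⟨x, hx⟩ : ιU (eU.symm ⟨u, hu⟩) ∈ (c.toMonoidHom.comp bup).range := hr ▸ ⟨_, rfl⟩
      refine ⟨x, ?_⟩
      show ((e.symm (c (bup x)) : ↥(U ⊔ W)) : G) = u
      rw [show c (bup x) = ιU (eU.symm ⟨u, hu⟩) from hx]
      simp [ιU]
  · rw [suBlock_lower hF]
    have hr : ιW.range = (c.toMonoidHom.comp blo).range := by
      refine range_eq_of_fix hF hιW (c.injective.comp (blk_injective _)) hzB hB fun x => ?_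
      show act (g * blo x * g⁻¹) zB = zB
      have hg1 : act g (std 0) = zB := hg 0
      rw [act_mul, act_mul, act_inv_eq hg1, blkAt_fix _ _ (Or.inl (by simp)), hg1]
    rw [← MonoidHom.range_comp]
    refine le_antisymm ?_ fun u hu => ?_
    · rintro _ ⟨x, rfl⟩
      obtain ⟨y, hy⟩ : c (blo x) ∈ ιW.range := hr ▸ ⟨x, rfl⟩
      show ((e.symm (c (blo x)) : ↥(U ⊔ W)) : G) ∈ W
      rw [← hy]
      simp [ιW]
    · obtain ⟨x, hx⟩ : ιW (eW.symm ⟨u, hu⟩) ∈ (c.toMonoidHom.comp blo).range := hr ▸ ⟨_, rfl⟩
      refine ⟨x, ?_⟩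
      show ((e.symm (c (blo x)) : ↥(U ⊔ W)) : G) = u
      rw [show c (blo x) = ιW (eW.symm ⟨u, hu⟩) from hx]
      simp [ιW]

end CfsgLib.Phan
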