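import Cfsg.Agent.Lib.Recog.Phan.Lift
import Cfsg.Agent.Lib.Recog.Phan.Delta
import Cfsg.Agent.Lib.Recog.Phan.Pick

/-!
# Two commuting involutions of `SU 4` in a common frame, and related block facts
-/

set_option autoImplicit false

namespace CfsgLib.Phan

open CfsgLib.Classical CfsgLib.Classical.Herm CfsgLib.Known.SUBounded

universe u

variable {F : Type u} [Field F] [Fintype F] {q : ℕ} (hF : Fintype.card F = q ^ 2)
include hF

/-- a central element of `SU n`, `n ≥ 3`, is scalar -/
theorem center_scalar (hq : 3 ≤ q) {n : ℕ} (hn : 3 ≤ n) {z : Cfsg.SU n F q}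
    (hz : z ∈ Subgroup.center (Cfsg.SU n F q)) :
    ∃ c : F, (∀ v, act z v = c • v) ∧ c ^ n = 1 ∧ c * c ^ q = 1 := by
  classical
  obtain ⟨a, ha, ha1, -⟩ := exists_dia_ne hF hq
  have hq0 : q ≠ 0 := by omega
  have hd : ∀ i j : Fin n, j ≠ i → act z (std i) j = 0 := by
    intro i j hji
    obtain ⟨k, hki, hkj⟩ := exists_third hn i j
    let f : Fin 2 ↪ Fin n := ⟨![j, k], fun x y e => by
      fin_cases x <;> fin_cases y
      · rfl
      · exact absurd (e : j = k).symm hkj
      · exact absurd (e : k = j) hkj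
      · rfl⟩
    have hfix : act (blk f (dia hF a ha)) (std i) = std i := blk_fix _ _ fun x => by
      fin_cases x
      · exact hji
      · exact hki
    have h1 : act (blk f (dia hF a ha)) (act z (std i)) = act z (std i) := by
      conv_rhs => rw [← hfix, ← act_mul, ← Subgroup.mem_center_iff.1 hz]
      rw [act_mul]
    obtain ⟨w, hw⟩ : ∃ w, w = act z (std i) := ⟨_, rfl⟩
    rw [← hw] at h1 ⊢
    have h2 := congrFun h1 (f 0)
    rw [blk_apply] at h2
    simp only [act, Matrix.mulVec, dotProduct, Fin.sum_univ_two] at h2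
    simp [dia, su2, hq0] at h2
    have h3 : a * w j = w j := h2
    exact (mul_eq_zero.1 (show (a - 1) * w j = 0 by linear_combination h3)).resolve_left (sub_ne_zero.2 ha1)
  have i0 : Fin n := ⟨0, by omega⟩
  obtain ⟨c, hc⟩ : ∃ c, c = act z (std i0) i0 := ⟨_, rfl⟩
  have hdiag : ∀ i, act z (std i) = act z (std i) i • std i := fun i => funext fun j => by
    rcases eq_or_ne j i with rfl | h
    · simp [std]
    · rw [hd i j h, Pi.smul_apply, smul_eq_mul]
      simp [std, h]
  have hcj : ∀ i, act z (std i) i = c := by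
    intro i
    rcases eq_or_ne i i0 with rfl | hne
    · exact hc.symm
    let f : Fin 2 ↪ Fin n := ⟨![i0, i], fun x y e => by
      fin_cases x <;> fin_cases y
      · rfl
      · exact absurd (e : i0 = i).symm hne
      · exact absurd (e : i = i0) hne
      · rfl⟩
    have hr : act (blk f (rot hF)) (std i0) = std i := by
      have := blk_map_std f (rot hF) (b := 0) (c := 1) (by
        funext x; fin_cases x <;> simp [act, std, rot, su2, Matrix.mulVec_single])
      exact this
    have h1 : act z (std i) = c • std i := by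
      rw [← hr, ← act_mul, ← Subgroup.mem_center_iff.1 hz, act_mul, hdiag i0, ← hc, act_smul, hr]
    rw [h1]; simp [std]
  have hM : z.1.1 = c • (1 : Matrix (Fin n) (Fin n) F) := by
    refine Matrix.ext fun r s => ?_
    have e := congrFun (hdiag s) r
    rw [hcj s] at e
    simpa [act, std, Matrix.mulVec_single, Matrix.one_apply, Pi.single_apply, Matrix.smul_apply] using e
  refine ⟨c, fun v => by rw [act, hM, Matrix.smul_mulVec, Matrix.one_mulVec], ?_, ?_⟩
  · have := z.1.2
    rw [hM, Matrix.det_smul, Matrix.det_one, mul_one, Fintype.card_fin] at this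
    exact this
  · have := act_form hF z (std i0) (std i0)
    rw [act, hM, Matrix.smul_mulVec, Matrix.one_mulVec, Herm.smul_left, Herm.smul_right, std_orth,
      if_pos rfl, mul_one, powHom_apply] at this
    linear_combination this

omit hF in
theorem blk_zero_val (x : Cfsg.SU 2 F q) : (blkAt 0 (show 0 + 2 ≤ 4 by omega) x).1.1 =
    !![x.1.1 0 0, x.1.1 0 1, 0, 0; x.1.1 1 0, x.1.1 1 1, 0, 0; 0, 0, 1, 0; 0, 0, 0, 1] := by
  show blkMat _ x.1.1 = _
  ext i j
  set_option maxRecDepth 20000 in fin_cases i <;> fin_cases j <;>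
    simp [blkMat, pm, sh_val, Matrix.mul_apply, Fin.sum_univ_two, Fin.ext_iff, Matrix.one_apply]

omit hF in
theorem blk_one_val (x : Cfsg.SU 2 F q) : (blkAt 1 (show 1 + 2 ≤ 4 by omega) x).1.1 =
    !![1, 0, 0, 0; 0, x.1.1 0 0, x.1.1 0 1, 0; 0, x.1.1 1 0, x.1.1 1 1, 0; 0, 0, 0, 1] := by
  have hp : (pm (sh 1 (show 1 + 2 ≤ 4 by omega)) : Matrix (Fin 4) (Fin 2) F) = !![0, 0; 1, 0; 0, 1; 0, 0] := by
    ext i j
    fin_cases i <;> fin_cases j <;> rfl
  show blkMat _ x.1.1 = _
  rw [blkMat, hp]
  ext i j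
  fin_cases i <;> fin_cases j <;> simp [Matrix.vecMul, dotProduct, Matrix.mul_apply, Fin.sum_univ_two, Matrix.one_apply]

omit hF in
theorem blk_two_val (x : Cfsg.SU 2 F q) : (blkAt 2 (show 2 + 2 ≤ 4 by omega) x).1.1 =
    !![1, 0, 0, 0; 0, 1, 0, 0; 0, 0, x.1.1 0 0, x.1.1 0 1; 0, 0, x.1.1 1 0, x.1.1 1 1] := by
  have hp : (pm (sh 2 (show 2 + 2 ≤ 4 by omega)) : Matrix (Fin 4) (Fin 2) F) = !![0, 0; 0, 0; 1, 0; 0, 1] := by
    ext i j
    fin_cases i <;> fin_cases j <;> rfl
  show blkMat _ x.1.1 = _
  rw [blkMat, hp]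
  ext i j
  fin_cases i <;> fin_cases j <;> simp [Matrix.vecMul, dotProduct, Matrix.mul_apply, Fin.sum_univ_two, Matrix.one_apply]

/-- the diagonal of a split involution -/
def sgn (s : Fin 4 → Bool) : Fin 4 → F := fun i => if s i then -1 else 1

/-- commuting involutions have a common frame -/
theorem exists_common_frame (h2 : (2 : F) ≠ 0) {x y : Cfsg.SU 4 F q} (hx : x * x = 1) (hy : y * y = 1)
    (hxy : x * y = y * x) :
    ∃ g : Cfsg.SU 4 F q, ∃ s t : Fin 4 → Bool, ∀ i,
      act x (act g (std i)) = sgn (F := F) s i • act g (std i) ∧ act y (act g (std i)) = sgn (F := F) t i • act g (std i) := by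
  classical
  have h := hermStd_isHerm (n := 4) hF
  have xx : ∀ v, act x (act x v) = v := fun v => by rw [← act_mul, hx, act_one]
  have yy : ∀ v, act y (act y v) = v := fun v => by rw [← act_mul, hy, act_one]
  have xy : ∀ v, act x (act y v) = act y (act x v) := fun v => by rw [← act_mul, hxy, act_mul]
  let Good4 : (Fin 4 → F) → Prop := fun v =>
    ∃ a b : F, (a = 1 ∨ a = -1) ∧ (b = 1 ∨ b = -1) ∧ act x v = a • v ∧ act y v = b • v
  -- one more vector
  have next' : ∀ (l : ℕ) (v : Fin l → Fin 4 → F), l ≤ 3 →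
      (∀ i j, hermStd 4 hF (v i) (v j) = if i = j then 1 else 0) → (∀ i, Good4 (v i)) →
      ∃ w, hermStd 4 hF w w = 1 ∧ (∀ i, hermStd 4 hF (v i) w = 0) ∧ Good4 w := by
    intro l v hl hv hg
    obtain ⟨w, hw, hvw⟩ := exists_perp h v (x := v) ⟨fun i => by rw [hv]; simp, fun i j hij => by rw [hv, if_neg hij]⟩
      (fun z hz => hz) (by rw [finrank_std]; omega)
    let c : F → F → Fin 4 → F := fun a b => w + a • act x w + b • act y w + (a * b) • act x (act y w)
    have hcx : ∀ a b : F, a * a = 1 → act x (c a b) = a • c a b := fun a b ha => by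
      simp only [c, act_add', act_smul, xx]
      simp only [smul_add, smul_smul, ← mul_assoc, ha, one_mul, one_smul]
      abel
    have hcy : ∀ a b : F, b * b = 1 → act y (c a b) = b • c a b := fun a b hb => by
      have e : act y (act x (act y w)) = act x w := by rw [← xy, yy]
      simp only [c, act_add', act_smul, yy, ← xy, e, smul_add, smul_smul]
      rw [show b * a = a * b by ring, show b * (a * b) = a * (b * b) by ring, hb, mul_one, one_smul]
      abel
    have hperp : ∀ a b i, hermStd 4 hF (v i) (c a b) = 0 := fun a b i => by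
      obtain ⟨α, β, -, -, hα, hβ⟩ := hg i
      have k1 : hermStd 4 hF (v i) (act x w) = 0 := by
        rw [← xx (v i), act_form, hα, Herm.smul_left, hvw, mul_zero]
      have k2 : hermStd 4 hF (v i) (act y w) = 0 := by
        rw [← yy (v i), act_form, hβ, Herm.smul_left, hvw, mul_zero]
      have k3 : hermStd 4 hF (v i) (act x (act y w)) = 0 := by
        rw [← xx (v i), act_form, hα, Herm.smul_left, k2, mul_zero]
      simp only [c, map_add, Herm.smul_right, hvw, k1, k2, k3]
      ring
    obtain ⟨a, b, ha, hb, hne⟩ : ∃ a b : F, (a = 1 ∨ a = -1) ∧ (b = 1 ∨ b = -1) ∧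
        hermStd 4 hF (c a b) (c a b) ≠ 0 := by
      by_contra hc
      push Not at hc
      have e11 := hc 1 1 (Or.inl rfl) (Or.inl rfl)
      have e12 := hc 1 (-1) (Or.inl rfl) (Or.inr rfl)
      have e21 := hc (-1) 1 (Or.inr rfl) (Or.inl rfl)
      have e22 := hc (-1) (-1) (Or.inr rfl) (Or.inr rfl)
      simp only [c, map_add, LinearMap.add_apply, Herm.smul_left, Herm.smul_right, map_mul, map_neg, map_one,
        one_mul, mul_one, neg_mul, mul_neg, neg_neg, act_form, hw] at e11 e12 e21 e22
      have h16 : (2 : F) * (2 * (2 * 2)) = 0 := by linear_combination e11 + e12 + e21 + e22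
      simp [h2] at h16
    have hasq : a * a = 1 := by rcases ha with rfl | rfl <;> ring
    have hbsq : b * b = 1 := by rcases hb with rfl | rfl <;> ring
    obtain ⟨κ, -, hκ⟩ := h.scale_to hne (map_one _) one_ne_zero
    refine ⟨κ • c a b, hκ, fun i => by rw [Herm.smul_right, hperp, mul_zero], a, b, ha, hb, ?_, ?_⟩
    · rw [act_smul, hcx a b hasq, smul_comm]
    · rw [act_smul, hcy a b hbsq, smul_comm]
  obtain ⟨v0, n0, -, g0⟩ := next' 0 ![] (by omega) (fun i => i.elim0) (fun i => i.elim0)
  obtain ⟨v1, n1, o1, g1⟩ := next' 1 ![v0] (by omega) (fun i j => by fin_cases i; fin_cases j; simpa using n0)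
    (fun i => by fin_cases i; exact g0)
  have o01 : hermStd 4 hF v0 v1 = 0 := o1 0
  obtain ⟨v2, n2, o2, g2⟩ := next' 2 ![v0, v1] (by omega)
    (fun i j => by fin_cases i <;> fin_cases j <;> simp [n0, n1, o01, h.eq_zero_symm o01])
    (fun i => by fin_cases i <;> [exact g0; exact g1])
  have o02 : hermStd 4 hF v0 v2 = 0 := o2 0
  have o12 : hermStd 4 hF v1 v2 = 0 := o2 1
  obtain ⟨g, hg⟩ := exists_act_eq hF (n := 4) (k := 3) (by omega) ![std 0, std 1, std 2] ![v0, v1, v2]
    (fun i j => by fin_cases i <;> fin_cases j <;> simp [std_orth])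
    (fun i j => by
      fin_cases i <;> fin_cases j <;>
        simp [n0, n1, n2, o01, o02, o12, h.eq_zero_symm o01, h.eq_zero_symm o02, h.eq_zero_symm o12])
  -- the last vector
  have last : ∀ z : Cfsg.SU 4 F q, z * z = 1 → (∀ i : Fin 4, i ≠ 3 → ∃ a : F, act z (act g (std i)) = a • act g (std i)) →
      ∃ a : F, (a = 1 ∨ a = -1) ∧ act z (act g (std 3)) = a • act g (std 3) := by
    intro z hz hi
    obtain ⟨w, hw⟩ : ∃ w, w = act g⁻¹ (act z (act g (std 3))) := ⟨_, rfl⟩
    have hzi : ∀ v, act z (act z v) = v := fun v => by rw [← act_mul, hz, act_one]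
    have hw0 : ∀ i : Fin 4, i ≠ 3 → w i = 0 := fun i hne => by
      obtain ⟨a, ha⟩ := hi i hne
      rw [← std_left hF i w, ← act_form hF g, hw, ← act_mul, mul_inv_cancel, act_one, ← hzi (act g (std i)),
        act_form, ha, Herm.smul_left, act_form, std_orth, if_neg hne, mul_zero]
    have hwv : w = w 3 • std 3 := funext fun i => by
      rcases eq_or_ne i 3 with rfl | hne
      · simp [std]
      · simp [std, hne, hw0 i hne]
    have hzw : act z (act g (std 3)) = w 3 • act g (std 3) := by
      calc act z (act g (std 3)) = act g w := by rw [hw, ← act_mul g, mul_inv_cancel, act_one]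
        _ = _ := by conv_lhs => rw [hwv, act_smul]
    refine ⟨w 3, mul_self_eq_one_iff.1 ?_, hzw⟩
    have h1 := congrFun (congrArg (act g⁻¹) (hzi (act g (std 3)))) 3
    rw [hzw, act_smul, hzw, smul_smul, act_smul, ← act_mul, inv_mul_cancel, act_one] at h1
    simpa [std] using h1
  have hge : ∀ i : Fin 4, i ≠ 3 → Good4 (act g (std i)) := fun i hne => by
    fin_cases i
    · have e : act g (std 0) = v0 := hg 0
      exact e ▸ g0
    · have e : act g (std 1) = v1 := hg 1
      exact e ▸ g1
    · have e : act g (std 2) = v2 := hg 2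
      exact e ▸ g2
    · exact absurd rfl hne
  obtain ⟨a3, ha3, hx3⟩ := last x hx fun i hne => by obtain ⟨a, b, -, -, e, -⟩ := hge i hne; exact ⟨a, e⟩
  obtain ⟨b3, hb3, hy3⟩ := last y hy fun i hne => by obtain ⟨a, b, -, -, -, e⟩ := hge i hne; exact ⟨b, e⟩
  have hall : ∀ i, ∃ s t : Bool, act x (act g (std i)) = (if s then (-1 : F) else 1) • act g (std i) ∧
      act y (act g (std i)) = (if t then (-1 : F) else 1) • act g (std i) := by
    intro i
    have pick : ∀ a : F, (a = 1 ∨ a = -1) → ∃ s : Bool, a = if s then (-1 : F) else 1 := by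
      rintro a (rfl | rfl)
      · exact ⟨false, rfl⟩
      · exact ⟨true, rfl⟩
    have : ∃ a b : F, (a = 1 ∨ a = -1) ∧ (b = 1 ∨ b = -1) ∧ act x (act g (std i)) = a • act g (std i) ∧
        act y (act g (std i)) = b • act g (std i) := by
      rcases eq_or_ne i 3 with rfl | hne
      · exact ⟨a3, b3, ha3, hb3, hx3, hy3⟩
      · exact hge i hne
    obtain ⟨a, b, ha, hb, e1, e2⟩ := this
    obtain ⟨s, rfl⟩ := pick a ha
    obtain ⟨t, rfl⟩ := pick b hb
    exact ⟨s, t, e1, e2⟩
  choose s t hst using hall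
  exact ⟨g, s, t, hst⟩

theorem act_ext_std {n : ℕ} {g g' : Cfsg.SU n F q} (h : ∀ i, act g (std i) = act g' (std i)) : g = g' :=
  Subtype.ext (Subtype.ext (Matrix.ext fun i j => by
    have := congrFun (h j) i
    simpa [act, std, Matrix.mulVec_single] using this))

/-- an eigen-decomposed element has even sign vector -/
theorem sgn_prod {x g : Cfsg.SU 4 F q} {s : Fin 4 → Bool}
    (h : ∀ i, act x (act g (std i)) = sgn (F := F) s i • act g (std i)) :
    (g⁻¹ * x * g : Cfsg.SU 4 F q).1.1 = Matrix.diagonal (sgn (F := F) s) ∧ ∏ i, sgn (F := F) s i = 1 := by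
  have e : (g⁻¹ * x * g : Cfsg.SU 4 F q).1.1 = Matrix.diagonal (sgn (F := F) s) := by
    refine Matrix.ext fun i j => ?_
    have e1 : act (g⁻¹ * x * g) (std j) = sgn (F := F) s j • std j := by
      rw [act_mul, act_mul, h, act_smul, ← act_mul, inv_mul_cancel, act_one]
    have := congrFun e1 i
    simp [act, std, Matrix.mulVec_single, Pi.single_apply] at this
    rw [Matrix.diagonal_apply]
    rcases eq_or_ne i j with rfl | hne
    · simpa using this
    · simpa [hne] using this
  refine ⟨e, ?_⟩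
  have := (g⁻¹ * x * g : Cfsg.SU 4 F q).1.2
  rwa [e, Matrix.det_diagonal] at this

/-- the frame in which `x` is `(-,-,+,+)` and `y` is `(+,-,-,+)` -/
theorem exists_frame (hq : 3 ≤ q) (h2 : (2 : F) ≠ 0) {x y : Cfsg.SU 4 F q} (hx : x * x = 1) (hy : y * y = 1)
    (hxy : x * y = y * x) (hxc : x ∉ Subgroup.center (Cfsg.SU 4 F q)) (hyc : y ∉ Subgroup.center (Cfsg.SU 4 F q))
    (hxyc : x * y ∉ Subgroup.center (Cfsg.SU 4 F q)) :
    ∃ g : Cfsg.SU 4 F q, g⁻¹ * x * g = blkAt 0 (by omega) (negOne hF) ∧
      g⁻¹ * y * g = blkAt 1 (by omega) (negOne hF) := by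
  classical
  obtain ⟨g, s, t, hst⟩ := exists_common_frame hF h2 hx hy hxy
  have hq0 : q ≠ 0 := by omega
  have hneg : (-1 : F) ^ q = -1 := by rw [← powHom_apply hF, map_neg, map_one]
  have hm1 : (-1 : F) ≠ 1 := fun e => h2 (by linear_combination -e)
  -- nonconstant sign vectors
  have hconst : ∀ (z : Cfsg.SU 4 F q) (r : Fin 4 → Bool), z ∉ Subgroup.center (Cfsg.SU 4 F q) →
      (∀ i, act z (act g (std i)) = sgn (F := F) r i • act g (std i)) → ∃ i, r i ≠ r 0 := by
    intro z r hz hr
    by_contra hc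
    push Not at hc
    refine hz (Subgroup.mem_center_iff.2 fun k => ?_)
    obtain ⟨e, -⟩ := sgn_prod hF hr
    rw [show sgn r = fun _ => sgn r 0 from funext fun i => by simp [sgn, hc i]] at e
    obtain ⟨d, hd⟩ : ∃ d, d = g⁻¹ * z * g := ⟨_, rfl⟩
    rw [← hd] at e
    have hdc : ∀ k, k * d = d * k := fun k => Subtype.ext (Subtype.ext (by
      show k.1.1 * d.1.1 = d.1.1 * k.1.1
      rw [e]
      ext i j
      rw [Matrix.mul_diagonal, Matrix.diagonal_mul, mul_comm]))
    calc k * z = g * ((g⁻¹ * k * g) * d) * g⁻¹ := by rw [hd]; group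
      _ = g * (d * (g⁻¹ * k * g)) * g⁻¹ := by rw [hdc]
      _ = z * k := by rw [hd]; group
  have hxy' : ∀ i, act (x * y) (act g (std i)) = sgn (F := F) (fun i => xor (s i) (t i)) i • act g (std i) := fun i => by
    rw [act_mul, (hst i).2, act_smul, (hst i).1, smul_smul]
    congr 1
    simp only [sgn]
    rcases Bool.eq_false_or_eq_true (s i) with e | e <;> rcases Bool.eq_false_or_eq_true (t i) with e' | e' <;>
      simp [e, e']
  have cs := hconst x s hxc fun i => (hst i).1
  have ct := hconst y t hyc fun i => (hst i).2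
  have cst := hconst (x * y) _ hxyc hxy'
  have parity : ∀ r : Fin 4 → Bool, ∏ i, sgn (F := F) r i = 1 → xor (xor (r 0) (r 1)) (xor (r 2) (r 3)) = false := by
    intro r hr
    simp only [Fin.prod_univ_four, sgn] at hr
    cases h0 : r 0 <;> cases h1 : r 1 <;> cases h2' : r 2 <;> cases h3 : r 3 <;>
      simp [h0, h1, h2', h3, hm1] at hr ⊢
  have ps := parity s (sgn_prod hF fun i => (hst i).1).2
  have pt := parity t (sgn_prod hF fun i => (hst i).2).2
  have comb : ∀ s t : Fin 4 → Bool, (∃ i, s i ≠ s 0) → (∃ i, t i ≠ t 0) → (∃ i, xor (s i) (t i) ≠ xor (s 0) (t 0)) →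
      xor (xor (s 0) (s 1)) (xor (s 2) (s 3)) = false → xor (xor (t 0) (t 1)) (xor (t 2) (t 3)) = false →
      ∃ a b c d : Fin 4, (s a = true ∧ t a = false) ∧ (s b = true ∧ t b = true) ∧ (s c = false ∧ t c = true) ∧
        (s d = false ∧ t d = false) := by decide
  obtain ⟨a, b, c, d, ⟨sa, ta⟩, ⟨sb, tb⟩, ⟨sc, tc⟩, ⟨sd, td⟩⟩ := comb s t cs ct cst ps pt
  obtain ⟨P, hP⟩ := exists_act_eq hF (n := 4) (k := 3) (by omega) ![std 0, std 1, std 2] ![std a, std b, std c]
    (fun i j => by fin_cases i <;> fin_cases j <;> simp [std_orth])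
    (fun i j => by
      have hab : a ≠ b := fun e => by rw [e, tb] at ta; exact Bool.noConfusion ta
      have hbc : b ≠ c := fun e => by rw [e, sc] at sb; exact Bool.noConfusion sb
      have hac : a ≠ c := fun e => by rw [e, sc] at sa; exact Bool.noConfusion sa
      fin_cases i <;> fin_cases j <;> simp [std_orth, hab, hbc, hac, hab.symm, hbc.symm, hac.symm])
  -- the last vector goes to a multiple of the last
  have hP3 : ∃ μ : F, act P (std 3) = μ • std d := by
    refine ⟨act P (std 3) d, funext fun i => ?_⟩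
    rcases eq_or_ne i d with rfl | hne
    · simp [std]
    · have hi : i = a ∨ i = b ∨ i = c := by
        have all : ∀ s t : Fin 4 → Bool, ∀ a b c d i : Fin 4, (s a = true ∧ t a = false) → (s b = true ∧ t b = true) →
            (s c = false ∧ t c = true) → (s d = false ∧ t d = false) → i ≠ d → i = a ∨ i = b ∨ i = c := by
          intro s t a b c d i ha hb hc hd hid
          have hab : a ≠ b := fun e => by rw [e, hb.2] at ha; exact Bool.noConfusion ha.2
          have hbc : b ≠ c := fun e => by rw [e, hc.1] at hb; exact Bool.noConfusion hb.1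
          have hac : a ≠ c := fun e => by rw [e, hc.1] at ha; exact Bool.noConfusion ha.1
          have had : a ≠ d := fun e => by rw [e, hd.1] at ha; exact Bool.noConfusion ha.1
          have hbd : b ≠ d := fun e => by rw [e, hd.1] at hb; exact Bool.noConfusion hb.1
          have hcd : c ≠ d := fun e => by rw [e, hd.2] at hc; exact Bool.noConfusion hc.2
          omega
        exact all s t a b c d i ⟨sa, ta⟩ ⟨sb, tb⟩ ⟨sc, tc⟩ ⟨sd, td⟩ hne
      have key : ∀ j : Fin 4, j ≠ 3 → act P (std j) = std i → act P (std 3) i = 0 := fun j hj e => by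
        rw [← std_left hF i (act P (std 3)), ← e, act_form, std_orth, if_neg hj]
      have : act P (std 3) i = 0 := by
        rcases hi with rfl | rfl | rfl
        · exact key 0 (by decide) (hP 0)
        · exact key 1 (by decide) (hP 1)
        · exact key 2 (by decide) (hP 2)
      rw [this, Pi.smul_apply, smul_eq_mul]
      simp [std, hne]
  obtain ⟨μ, hμ⟩ := hP3
  have img : ∀ (z : Cfsg.SU 4 F q) (r : Fin 4 → Bool), (∀ i, act z (act g (std i)) = sgn (F := F) r i • act g (std i)) →
      ∀ j i : Fin 4, (∃ ν : F, act P (std j) = ν • std i) → act ((g * P)⁻¹ * z * (g * P)) (std j) = sgn (F := F) r i • std j := by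
    rintro z r hr j i ⟨ν, hν⟩
    have e1 : act (g * P) (std j) = ν • act g (std i) := by rw [act_mul, hν, act_smul]
    rw [act_mul, act_mul, e1, act_smul, hr, smul_comm, act_smul, ← e1, ← act_mul, inv_mul_cancel, act_one]
  have hν : ∀ i : Fin 4, ∃ ν : F, act P (std i) = ν • std (![a, b, c, d] i) := fun i => by
    fin_cases i
    · exact ⟨1, by simpa using hP 0⟩
    · exact ⟨1, by simpa using hP 1⟩
    · exact ⟨1, by simpa using hP 2⟩
    · exact ⟨μ, hμ⟩
  refine ⟨g * P, act_ext_std hF fun i => ?_, act_ext_std hF fun i => ?_⟩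
  · rw [img x s (fun i => (hst i).1) i _ (hν i)]
    funext j
    simp only [act, blk_zero_val, negOne, su2_val]
    fin_cases i <;> fin_cases j <;> simp [sgn, sa, sb, sc, sd, std, hneg, hq0]
  · rw [img y t (fun i => (hst i).2) i _ (hν i)]
    funext j
    simp only [act, blk_one_val, negOne, su2_val]
    fin_cases i <;> fin_cases j <;> simp [sgn, ta, tb, tc, td, std, hneg, hq0]

/-- commuting with the block involution means block diagonal -/
theorem entries_of_commute (h2 : (2 : F) ≠ 0) {z y : Cfsg.SU 4 F q} {r : Fin 4 → Bool}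
    (hz : z.1.1 = Matrix.diagonal (sgn (F := F) r)) (hc : Commute z y) {i j : Fin 4} (hij : r i ≠ r j) : y.1.1 i j = 0 := by
  have e := congrFun (congrFun (congrArg (fun k : Cfsg.SU 4 F q => k.1.1) hc.eq) i) j
  change (z.1.1 * y.1.1) i j = (y.1.1 * z.1.1) i j at e
  rw [hz, Matrix.mul_diagonal, Matrix.diagonal_mul] at e
  simp only [sgn] at e
  cases hi : r i <;> cases hj : r j <;> simp [hi, hj] at e hij
  · exact (mul_eq_zero.1 (show (2 : F) * y.1.1 i j = 0 by linear_combination e)).resolve_left h2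
  · exact (mul_eq_zero.1 (show (2 : F) * y.1.1 i j = 0 by linear_combination -e)).resolve_left h2

theorem negOne_diag :
    (blkAt 0 (show 0 + 2 ≤ 4 by omega) (negOne hF)).1.1 = Matrix.diagonal (sgn (F := F) ![true, true, false, false]) := by
  have hq0 : q ≠ 0 := by have := two_le_of_card_sq hF; omega
  have hneg : (-1 : F) ^ q = -1 := by rw [← powHom_apply hF, map_neg, map_one]
  rw [blk_zero_val]
  ext i j
  fin_cases i <;> fin_cases j <;> simp [negOne, su2, sgn, hneg, hq0]

/-- elements fixing the outer two vectors lie in the middle block -/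
theorem exists_middle {y : Cfsg.SU 4 F q} (h0 : act y (std 0) = std 0) (h3 : act y (std 3) = std 3) :
    ∃ A : Cfsg.SU 2 F q, blkAt 1 (by omega) A = y := by
  obtain ⟨z, rfl⟩ := exists_emb hF h0
  have h2 : act z (std 2) = std 2 := by
    have e : (std 3 : Fin 4 → F) = Fin.cons 0 (std 2) := (std_succ (2 : Fin 3))
    rw [e, act_emb_succ] at h3
    exact Fin.cons_right_injective (α := fun _ => F) (0 : F) h3
  have hr : ∀ l, z.1.1 2 l = if l = 2 then 1 else 0 := fun l => by
    have e := act_form hF z (std 2) (std l)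
    rw [h2, std_left hF, std_orth] at e
    rw [show act z (std l) 2 = z.1.1 2 l from by simp [act, std, Matrix.mulVec_single]] at e
    rw [e]; simp only [eq_comm]
  have hcol : ∀ l, z.1.1 l 2 = if l = 2 then 1 else 0 := fun l => by
    have := congrFun h2 l
    simpa [act, std, Matrix.mulVec_single, Pi.single_apply] using this
  have hz : z ∈ Cfsg.suBlock 3 F q {0, 1} := Subgroup.subset_closure fun k hk => by
    obtain rfl : k = 2 := by
      fin_cases k <;> simp at hk ⊢
    refine ⟨by rw [hr, if_pos rfl], fun l hl => ⟨by rw [hr, if_neg hl], by rw [hcol, if_neg hl]⟩⟩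
  rw [suBlock_upper hF] at hz
  obtain ⟨A, rfl⟩ := hz
  exact ⟨A, (emb_comp (show 0 + 2 ≤ 3 by omega) A).symm⟩

end CfsgLib.Phan
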