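import Cfsg.Agent.Lib.Known.SUBounded.Graph
import Cfsg.Agent.Lib.Recog.Phan.Cover

/-!
# The orthogonality graph of the vectors of norm one in dimension at least four
-/

set_option autoImplicit false

namespace CfsgLib.Phan

open CfsgLib.Classical CfsgLib.Classical.Herm CfsgLib.Known.SUBounded

variable {F : Type*} [Field F] {V : Type*} [AddCommGroup V] [Module F V] {σ : F →+* F}
  {B : V →ₛₗ[σ] V →ₗ[F] F}

/-- the span of two vectors of norm one is nondegenerate -/
def Good (B : V →ₛₗ[σ] V →ₗ[F] F) (x y : Sphere B) : Prop := B x.1 y.1 * σ (B x.1 y.1) ≠ 1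

/-- the numbers used for the four-dimensional case -/
structure Params (σ : F →+* F) : Prop where
  out : ∃ n ξ : F, σ n = n ∧ n ≠ 0 ∧ n ≠ 1 ∧ ξ + σ ξ = -1 ∧ ξ * σ ξ ≠ 1 ∧ n + ξ * σ ξ ≠ 1 ∧
    AddSubgroup.closure {c : F | c * σ c * n = 1} = ⊤

variable [Finite F] [FiniteDimensional F V] (h : IsHerm B)
include h

omit [Finite F] [FiniteDimensional F V] in
theorem good_symm (x y : Sphere B) (hg : Good B x y) : Good B y x := by
  intro e
  refine hg ?_
  rw [← h.symm x.1 y.1, h.invol.invol] at e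
  rwa [mul_comm] at e

omit h [Finite F] [FiniteDimensional F V] in
theorem good_of_orth {x y : Sphere B} (hxy : B x.1 y.1 = 0) : Good B x y := by
  simp [Good, hxy]

omit h [Finite F] [FiniteDimensional F V] in
/-- orthogonal projection along pairwise orthogonal anisotropic vectors -/
theorem exists_proj {l : ℕ} {x : Fin l → V} (hx : OrthFam B x) (y : V) :
    ∃ y', (∀ i, B (x i) y' = 0) ∧ ∀ z, (∀ i, B z (x i) = 0) → B z y' = B z y := by
  refine ⟨y - ∑ i, (B (x i) y / B (x i) (x i)) • x i, fun i => ?_, fun z hz => ?_⟩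
  · rw [map_sub, map_sum, Finset.sum_eq_single i (fun j _ hj => by rw [smul_right, hx.2 i j hj.symm, mul_zero])
      (by simp), smul_right, div_mul_cancel₀ _ (hx.1 i), sub_self]
  · rw [map_sub, map_sum, Finset.sum_eq_zero (fun j _ => by rw [smul_right, hz j, mul_zero]), sub_zero]

omit [Finite F] [FiniteDimensional F V] in
/-- a partner of an isotropic vector orthogonal to given vectors -/
theorem exists_partner {k : ℕ} (f : Fin k → V) {r : V} (hr0 : r ≠ 0) (hrr : B r r = 0)
    (hfr : ∀ i, B (f i) r = 0) (hproj : ∀ y, ∃ y', B r y' = B r y ∧ ∀ i, B (f i) y' = 0) :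
    ∃ s, B s s = 0 ∧ B r s = 1 ∧ ∀ i, B (f i) s = 0 := by
  obtain ⟨y0, hy0⟩ := h.exists_apply_eq_one hr0
  obtain ⟨y1, hy1, hy1'⟩ := hproj y0
  rw [hy0] at hy1
  obtain ⟨τ, hτ⟩ := h.invol.exists_trace_eq (μ := -B y1 y1) (by rw [map_neg, h.self_fixed])
  refine ⟨y1 + τ • r, ?_, ?_, fun i => ?_⟩
  · have e : B y1 r = 1 := by rw [← h.symm r y1, hy1, map_one]
    simp only [map_add, LinearMap.add_apply, smul_left, smul_right, hy1, e, hrr]
    linear_combination hτ
  · rw [map_add, smul_right, hy1, hrr, mul_zero, add_zero]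
  · rw [map_add, smul_right, hy1', hfr, mul_zero, add_zero]

omit [Finite F] [FiniteDimensional F V] in
/-- a vector of norm one with a prescribed product with an isotropic vector -/
theorem exists_val {k : ℕ} (f : Fin k → V) {r : V} (hr0 : r ≠ 0) (hrr : B r r = 0)
    (hfr : ∀ i, B (f i) r = 0) (hproj : ∀ y, ∃ y', B r y' = B r y ∧ ∀ i, B (f i) y' = 0) {y : F} (hy : y ≠ 0) :
    ∃ p, B p p = 1 ∧ B r p = y ∧ ∀ i, B (f i) p = 0 := by
  obtain ⟨s, hss, hrs, hfs⟩ := exists_partner h f hr0 hrr hfr hproj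
  obtain ⟨t, ht⟩ := h.invol.exists_trace_eq (μ := (1 : F)) (map_one σ)
  have hσy : σ y ≠ 0 := (map_ne_zero σ).2 hy
  have hsr : B s r = 1 := by rw [← h.symm r s, hrs, map_one]
  refine ⟨(t / σ y) • r + y • s, ?_, ?_, fun i => ?_⟩
  · simp only [map_add, LinearMap.add_apply, smul_left, smul_right, hrs, hsr, hss, hrr, map_div₀, h.invol.invol]
    field_simp
    linear_combination (σ y * y) * ht
  · rw [map_add, smul_right, smul_right, hrr, hrs, mul_zero, zero_add, mul_one]
  · rw [map_add, smul_right, smul_right, hfr, hfs, mul_zero, mul_zero, add_zero]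

omit [Finite F] [FiniteDimensional F V] in
theorem exists_val_orth {l : ℕ} {x : Fin l → V} (hx : OrthFam B x) {r : V} (hr0 : r ≠ 0) (hrr : B r r = 0)
    (hxr : ∀ i, B (x i) r = 0) {y : F} (hy : y ≠ 0) :
    ∃ p, B p p = 1 ∧ B r p = y ∧ ∀ i, B (x i) p = 0 :=
  exists_val h x hr0 hrr hxr (fun z => by
    obtain ⟨z', hz, hz'⟩ := exists_proj hx z
    exact ⟨z', hz' r (fun i => h.eq_zero_symm (hxr i)), hz⟩) hy

omit h [Finite F] [FiniteDimensional F V] in
theorem orth_one {u : V} (hu : B u u ≠ 0) : OrthFam B ![u] :=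
  ⟨fun i => by fin_cases i; exact hu, fun i j hij => absurd (Subsingleton.elim i j) hij⟩

omit [Finite F] [FiniteDimensional F V] in
theorem orth_three {u a b : V} (hu : B u u ≠ 0) (ha : B a a ≠ 0) (hb : B b b ≠ 0) (hua : B u a = 0)
    (hub : B u b = 0) (hab : B a b = 0) : OrthFam B ![u, a, b] :=
  orth_cons h (orth_two h ha hb hab) hu fun i => by
    fin_cases i <;> [exact hua; exact hub]

/-- connectedness -/
theorem conn (h3 : 3 ≤ Module.finrank F V) {y : F} (hy0 : y ≠ 0) (hy1 : y * σ y ≠ 1) (u v : Sphere B) :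
    Relation.ReflTransGen (Orth B) u v := by
  have good : ∀ u v : Sphere B, Good B u v → Relation.ReflTransGen (Orth B) u v := by
    rintro ⟨u, hu⟩ ⟨v, hv⟩ hg
    simp only [Good] at hg
    have h1 : B u (v - B u v • u) = 0 := by rw [map_sub, smul_right, hu, mul_one, sub_self]
    have h2 : B (v - B u v • u) (v - B u v • u) ≠ 0 := by
      intro e
      apply hg
      simp only [map_sub, LinearMap.sub_apply, smul_left, smul_right, hu, hv] at e
      rw [← h.symm u v] at e
      linear_combination -e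
    obtain ⟨c, hc, hfc⟩ := exists_perp h ![u, v - B u v • u] (orth_two h (hu.symm ▸ one_ne_zero) h2 h1)
      (fun z hz => hz) (by omega)
    have hvc : B v c = 0 := by
      rw [show v = (v - B u v • u) + B u v • u by rw [sub_add_cancel], add_left, smul_left]
      have e1 : B (v - B u v • u) c = 0 := hfc 1
      have e2 : B u c = 0 := hfc 0
      rw [e1, e2, mul_zero, add_zero]
    exact .tail (.single (show Orth B ⟨u, hu⟩ ⟨c, hc⟩ from hfc 0)) (h.eq_zero_symm hvc)
  by_cases hg : Good B u v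
  · exact good u v hg
  obtain ⟨u, hu⟩ := u
  obtain ⟨v, hv⟩ := v
  simp only [Good, not_not] at hg
  obtain ⟨r, hr⟩ : ∃ r, r = v - B u v • u := ⟨_, rfl⟩
  have hur : B u r = 0 := by rw [hr, map_sub, smul_right, hu, mul_one, sub_self]
  have hrr : B r r = 0 := by
    rw [hr]
    simp only [map_sub, LinearMap.sub_apply, smul_left, smul_right, hu, hv]
    rw [← h.symm u v]
    linear_combination -hg
  by_cases hr0 : r = 0
  · obtain ⟨c, hc, hfc⟩ := exists_perp h ![u] (orth_one (hu.symm ▸ one_ne_zero)) (fun z hz => hz) (by omega)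
    have huc : B u c = 0 := hfc 0
    have hvu : v = B u v • u := sub_eq_zero.1 (hr ▸ hr0)
    refine .tail (.single (show Orth B ⟨u, hu⟩ ⟨c, hc⟩ from huc)) ?_
    show B c v = 0
    rw [hvu, smul_right, h.eq_zero_symm huc, mul_zero]
  · obtain ⟨w, hw, hrw, hfw⟩ := exists_val_orth h (orth_one (hu.symm ▸ one_ne_zero)) hr0 hrr
      (fun i => by fin_cases i; exact hur) hy0
    have huw : B u w = 0 := hfw 0
    have hvw : B v w = y := by
      rw [show v = r + B u v • u by rw [hr, sub_add_cancel], add_left, smul_left, huw, hrw, mul_zero, add_zero]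
    exact .head (show Orth B ⟨u, hu⟩ ⟨w, hw⟩ from huw)
      (good ⟨w, hw⟩ ⟨v, hv⟩ (good_symm h ⟨v, hv⟩ ⟨w, hw⟩ (by simp only [Good, hvw]; exact hy1)))

omit [FiniteDimensional F V] in
/-- the four-dimensional step -/
theorem same_add (hP : Params σ) {u v : Sphere B} {r : V} (hr0 : r ≠ 0) (hrr : B r r = 0)
    (hur : B u.1 r = 0) (hα : B u.1 v.1 * σ (B u.1 v.1) = 1) (hv : v.1 = B u.1 v.1 • u.1 + r)
    (μ : F) : ∀ a b : Sphere B, B u.1 a.1 = 0 → B r a.1 = 0 → b.1 = a.1 + μ • r → Same (Orth B) (Good B) u v a b := by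
  obtain ⟨u, hu⟩ := u
  obtain ⟨v, hv'⟩ := v
  dsimp only at hur hα hv ⊢
  obtain ⟨α, hαd⟩ : ∃ α, α = B u v := ⟨_, rfl⟩
  rw [← hαd] at hα hv
  obtain ⟨n, ξ, hn, hn0, hn1, hξ, hξ1, hξn, hgen⟩ := hP
  have hru : B r u = 0 := h.eq_zero_symm hur
  have common : ∀ a : V, B u a = 0 → B r a = 0 → B a v = 0 := fun a h1 h2 => by
    rw [hv, map_add, smul_right, h.eq_zero_symm h1, h.eq_zero_symm h2, mul_zero, add_zero]
  have hmem : μ ∈ AddSubgroup.closure {c : F | c * σ c * n = 1} := hgen ▸ AddSubgroup.mem_top μ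
  induction hmem using AddSubgroup.closure_induction with
  | zero =>
    intro a b _ _ hb
    rw [zero_smul, add_zero] at hb
    rw [Subtype.ext hb]
    exact .rfl a
  | neg c _ ih =>
    intro a b ha ha' hb
    refine (ih b a ?_ ?_ ?_).symm
    · rw [hb, map_add, smul_right, ha, hur, mul_zero, add_zero]
    · rw [hb, map_add, smul_right, ha', hrr, mul_zero, add_zero]
    · rw [hb, neg_smul, neg_add_cancel_right]
  | add c c' _ _ ih ih' =>
    intro a b ha ha' hb
    have hm : B (a.1 + c • r) (a.1 + c • r) = 1 := by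
      simp only [map_add, LinearMap.add_apply, smul_left, smul_right, a.2, ha', h.eq_zero_symm ha', hrr]
      ring
    have h1 : B u (a.1 + c • r) = 0 := by rw [map_add, smul_right, ha, hur, mul_zero, add_zero]
    have h2 : B r (a.1 + c • r) = 0 := by rw [map_add, smul_right, ha', hrr, mul_zero, add_zero]
    exact .trans (c := (⟨_, hm⟩ : Sphere B)) h1 (common _ h1 h2) (ih a ⟨_, hm⟩ ha ha' rfl)
      (ih' ⟨_, hm⟩ b h1 h2 (by show b.1 = _; rw [hb, add_smul, add_assoc]))
  | mem c hc =>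
    intro a b ha ha' hb
    obtain ⟨a, hA⟩ := a
    obtain ⟨b, hB⟩ := b
    dsimp only at ha ha' hb
    simp only [Set.mem_ofPred_eq] at hc
    have har : B a r = 0 := h.eq_zero_symm ha'
    have hau : B a u = 0 := h.eq_zero_symm ha
    have hf : OrthFam B ![u, a] := orth_two h (hu.symm ▸ one_ne_zero) (hA.symm ▸ one_ne_zero) ha
    obtain ⟨s, hss, hrs, hfs⟩ := exists_partner h ![u, a] hr0 hrr
      (fun i => by fin_cases i <;> [exact hur; exact har]) (fun z => by
        obtain ⟨z', hz, hz'⟩ := exists_proj hf z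
        exact ⟨z', hz' r (fun i => by fin_cases i <;> [exact hru; exact ha']), hz⟩)
    have hus : B u s = 0 := hfs 0
    have has : B a s = 0 := hfs 1
    have hsu : B s u = 0 := h.eq_zero_symm hus
    have hsa : B s a = 0 := h.eq_zero_symm has
    have hsr : B s r = 1 := by rw [← h.symm r s, hrs, map_one]
    obtain ⟨y, hy⟩ := h.invol.exists_norm_eq hn
    have hy0 : y ≠ 0 := fun e => hn0 (by rw [← hy, e, zero_mul])
    have hσy : σ y ≠ 0 := (map_ne_zero σ).2 hy0
    obtain ⟨t, ht⟩ := h.invol.exists_trace_eq (μ := (1 : F)) (map_one σ)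
    obtain ⟨x, hx⟩ : ∃ x, x = t / σ y := ⟨_, rfl⟩
    obtain ⟨δ, hδ⟩ : ∃ δ, δ = σ ξ / σ y := ⟨_, rfl⟩
    have e1 : σ y * x = t := by rw [hx]; field_simp
    have e1' : σ x * y = σ t := by rw [← e1, map_mul, h.invol.invol, mul_comm]
    have e2 : σ y * δ = σ ξ := by rw [hδ]; field_simp
    have e2' : σ δ * y = ξ := by rw [← h.invol.invol ξ, ← e2, map_mul, h.invol.invol, mul_comm]
    have hp : B (x • r + y • s) (x • r + y • s) = 1 := by
      simp only [map_add, LinearMap.add_apply, smul_left, smul_right, hrr, hss, hrs, hsr]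
      linear_combination e1 + e1' + ht
    obtain ⟨z, hz⟩ : ∃ z, z = -(σ c * y) := ⟨_, rfl⟩
    have hzz : z * σ z = 1 := by
      rw [hz, map_neg, map_mul, h.invol.invol]
      linear_combination (c * σ c) * hy + hc
    have hp' : B (z • a + (x + δ) • r + y • s) (z • a + (x + δ) • r + y • s) = 1 := by
      simp only [map_add, LinearMap.add_apply, smul_left, smul_right, hrr, hss, hrs, hsr, hA, har, ha', has, hsa]
      linear_combination e1 + e1' + e2 + e2' + ht + hzz + hξ
    obtain ⟨τ, hτ⟩ : ∃ τ, τ = c * σ y := ⟨_, rfl⟩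
    obtain ⟨A, hAd⟩ : ∃ A, A = σ y * σ δ := ⟨_, rfl⟩
    obtain ⟨w, hw⟩ : ∃ w, w = A • a + (-(σ x * τ)) • r + (σ y * τ) • s := ⟨_, rfl⟩
    have hAA : A * σ A = ξ * σ ξ := by
      rw [hAd, map_mul, h.invol.invol, h.invol.invol]
      linear_combination (σ y * δ) * e2' + ξ * e2
    have hττ : τ * σ τ = 1 := by
      rw [hτ, map_mul, h.invol.invol]
      linear_combination (c * σ c) * hy + hc
    have hww : B w w = ξ * σ ξ - 1 := by
      rw [hw]
      simp only [map_add, LinearMap.add_apply, smul_left, smul_right, map_neg, map_mul, h.invol.invol, hrr, hss,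
        hrs, hsr, hA, har, ha', has, hsa]
      linear_combination hAA - hττ + (-(τ * σ τ)) * (e1 + e1' + ht)
    have hrw : B r w = σ y * τ := by
      rw [hw]; simp [map_add, hrr, hrs, ha']
    have huw : B u w = 0 := by
      rw [hw]; simp [map_add, hur, hus, ha]
    have hwu : B w u = 0 := h.eq_zero_symm huw
    obtain ⟨γ, hγ⟩ : ∃ γ, γ = -(α * (σ y * τ)) := ⟨_, rfl⟩
    have hγγ : γ * σ γ = n := by
      rw [hγ, map_neg, map_mul, map_mul, h.invol.invol]
      linear_combination (σ y * y * (τ * σ τ)) * hα + (σ y * y) * hττ + hy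
    have hd0 : B (γ • u + w) (γ • u + w) = n + ξ * σ ξ - 1 := by
      simp only [map_add, LinearMap.add_apply, smul_left, smul_right, hu, huw, hwu, hww]
      linear_combination hγγ
    have hd00 : n + ξ * σ ξ - 1 ≠ 0 := sub_ne_zero.2 hξn
    obtain ⟨κ, -, hκ⟩ := h.scale_to (x := γ • u + w) (hd0.symm ▸ hd00) (map_one σ) one_ne_zero
    have hκn : κ * σ κ * (n + ξ * σ ξ - 1) = 1 := by rw [← hd0, ← IsHerm.smul_self, hκ]
    have hvx : ∀ z, B v z = σ α * B u z + B r z := fun z => by rw [hv, add_left, smul_left]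
    refine Same.four (p := (⟨_, hp⟩ : Sphere B)) (p' := (⟨_, hp'⟩ : Sphere B))
      (d := (⟨_, hκ⟩ : Sphere B)) ?_ ?_ ?_ ?_ ?_ ?_ ?_ ?_ ?_ ?_ <;>
      dsimp only [Orth, Good]
    · simp [map_add, hur, hus]
    · simp [map_add, har, has]
    · simp [map_add, hur, hus, ha]
    · rw [hb]
      simp only [map_add, LinearMap.add_apply, smul_left, smul_right, hA, har, has, ha', hrr, hrs, hz]
      ring
    · rw [hw, hγ, hAd]
      simp only [map_add, LinearMap.add_apply, smul_left, smul_right, map_neg, map_mul, h.invol.invol, hur, hus,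
        har, has, hrr, hrs, hsr, hss]
      ring
    · rw [hw, hγ, hAd, hz]
      simp only [map_add, LinearMap.add_apply, smul_left, smul_right, map_neg, map_mul, h.invol.invol, hur, hus,
        ha, har, has, hA, ha', hsa, hrr, hrs, hsr, hss, hτ]
      ring
    · refine h.eq_zero_symm ?_
      rw [hvx, smul_right, smul_right, map_add, map_add, smul_right, smul_right, hu, huw, hru, hrw, hγ]
      linear_combination (-(κ * σ y * τ)) * hα
    · intro e
      refine hn1 ?_
      rw [hv] at e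
      simp only [map_add, LinearMap.add_apply, smul_left, smul_right, h.invol.invol, hru, hsu, hrr,
        hsr, mul_zero, zero_add, add_zero, mul_one] at e
      rw [← hy]
      linear_combination e
    · intro e
      refine hn1 ?_
      rw [hv] at e
      simp only [map_add, LinearMap.add_apply, smul_left, smul_right, h.invol.invol, hau, hru, hsu, har,
        hrr, hsr, mul_zero, zero_add, add_zero, mul_one] at e
      rw [← hy]
      linear_combination e
    · intro e
      rw [smul_right, map_add, smul_right, hu, huw, mul_one, add_zero, map_mul] at e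
      have : κ * σ κ * (ξ * σ ξ - 1) = 0 := by
        linear_combination hκn - e + (κ * σ κ) * hγγ
      rcases mul_eq_zero.1 this with h0 | h0
      · rw [h0, zero_mul] at hκn; exact zero_ne_one hκn
      · exact hξ1 (sub_eq_zero.1 h0)

/-- short closed walks decompose -/
theorem same (h4 : 4 ≤ Module.finrank F V) (hex : Module.finrank F V = 4 → Params σ) {y : F} (hy0 : y ≠ 0)
    (hy1 : y * σ y ≠ 1) (u v a b : Sphere B) (hg : ¬ Good B u v) (h1 : Orth B u a) (h2 : Orth B a v)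
    (h3 : Orth B u b) (h4' : Orth B b v) : Same (Orth B) (Good B) u v a b := by
  obtain ⟨u, hu⟩ := u
  obtain ⟨v, hv⟩ := v
  simp only [Orth] at h1 h2 h3 h4'
  simp only [Good, not_not] at hg
  obtain ⟨α, hαd⟩ : ∃ α, α = B u v := ⟨_, rfl⟩
  rw [← hαd] at hg
  obtain ⟨r, hr⟩ : ∃ r, r = v - α • u := ⟨_, rfl⟩
  have hv_eq : v = α • u + r := by rw [hr, add_sub_cancel]
  have hur : B u r = 0 := by rw [hr, map_sub, smul_right, hu, mul_one, hαd, sub_self]
  have hrr : B r r = 0 := by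
    have e : B v u = σ α := by rw [hαd, h.symm]
    rw [hr]
    simp only [map_sub, LinearMap.sub_apply, smul_left, smul_right, hu, hv, e, ← hαd]
    linear_combination -hg
  have hru : B r u = 0 := h.eq_zero_symm hur
  have common : ∀ c, B u c = 0 → B r c = 0 → B c v = 0 := fun c k1 k2 => by
    rw [hv_eq, map_add, smul_right, h.eq_zero_symm k1, h.eq_zero_symm k2, mul_zero, add_zero]
  have hrc : ∀ c, B u c = 0 → B c v = 0 → B r c = 0 := fun c k1 k2 => by
    rw [hr, sub_left, smul_left, h.eq_zero_symm k2, k1, mul_zero, sub_zero]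
  have ne1 : ∀ {c : V}, B c c = 1 → B c c ≠ 0 := fun hc => hc.symm ▸ one_ne_zero
  -- nondegenerate pairs
  have gram : ∀ a b : Sphere B, B u a.1 = 0 → B r a.1 = 0 → B u b.1 = 0 → B r b.1 = 0 → Good B a b →
      Same (Orth B) (Good B) ⟨u, hu⟩ ⟨v, hv⟩ a b := by
    rintro ⟨a, ha⟩ ⟨b, hb⟩ a1 a2 b1 b2 hab
    simp only [Good] at hab
    dsimp only at a1 a2 b1 b2
    obtain ⟨b', hb'⟩ : ∃ b', b' = b - B a b • a := ⟨_, rfl⟩
    have c1 : B a b' = 0 := by rw [hb', map_sub, smul_right, ha, mul_one, sub_self]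
    have c2 : B b' b' ≠ 0 := by
      intro e
      apply hab
      rw [hb'] at e
      simp only [map_sub, LinearMap.sub_apply, smul_left, smul_right, ha, hb] at e
      rw [← h.symm a b] at e
      linear_combination -e
    have c3 : B u b' = 0 := by rw [hb', map_sub, smul_right, a1, b1, mul_zero, sub_zero]
    have c4 : B r b' = 0 := by rw [hb', map_sub, smul_right, a2, b2, mul_zero, sub_zero]
    have hbp : ∀ p, B a p = 0 → B b' p = 0 → B b p = 0 := fun p k1 k2 => by
      rw [show b = b' + B a b • a by rw [hb', sub_add_cancel], add_left, smul_left, k1, k2, mul_zero, add_zero]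
    have hF := orth_three h (ne1 hu) (ne1 ha) c2 a1 c3 c1
    by_cases hr0 : r = 0
    · obtain ⟨p, hp, hfp⟩ := exists_perp h ![u, a, b'] hF (fun z hz => hz) (by omega)
      exact .trans (c := (⟨p, hp⟩ : Sphere B)) (hfp 0) (common p (hfp 0) (by rw [hr0, zero_left]))
        (.tri (hfp 1)) (Same.symm (.tri (hbp p (hfp 1) (hfp 2))))
    · obtain ⟨p, hp, hrp, hfp⟩ := exists_val_orth h hF hr0 hrr
        (fun i => by fin_cases i <;> [exact hur; exact h.eq_zero_symm a2; exact h.eq_zero_symm c4]) hy0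
      have k0 : B u p = 0 := hfp 0
      have k1 : B a p = 0 := hfp 1
      have hgp : Good B ⟨p, hp⟩ ⟨v, hv⟩ := good_symm h ⟨v, hv⟩ ⟨p, hp⟩ (by
        simp only [Good]
        rw [hv_eq, add_left, smul_left, k0, hrp, mul_zero, zero_add]
        exact hy1)
      exact Same.four (p := (⟨p, hp⟩ : Sphere B)) (p' := (⟨p, hp⟩ : Sphere B)) (d := (⟨a, ha⟩ : Sphere B)) k0 k1 k0 (hbp p k1 (hfp 2)) k1 k1
        (common a a1 a2) hgp hgp (good_of_orth a1)
  obtain ⟨a, ha⟩ := a
  obtain ⟨b, hb⟩ := b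
  dsimp only at h1 h2 h3 h4'
  have a2 : B r a = 0 := hrc a h1 h2
  have b2 : B r b = 0 := hrc b h3 h4'
  by_cases hgab : Good B ⟨a, ha⟩ ⟨b, hb⟩
  · exact gram ⟨a, ha⟩ ⟨b, hb⟩ h1 a2 h3 b2 hgab
  simp only [Good, not_not] at hgab
  obtain ⟨lam, hlam⟩ : ∃ l, l = B a b := ⟨_, rfl⟩
  rw [← hlam] at hgab
  obtain ⟨r0, hr0d⟩ : ∃ r0, r0 = b - lam • a := ⟨_, rfl⟩
  have hb_eq : b = lam • a + r0 := by rw [hr0d, add_sub_cancel]
  have c1 : B a r0 = 0 := by rw [hr0d, map_sub, smul_right, ha, mul_one, hlam, sub_self]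
  have c2 : B r0 r0 = 0 := by
    have e : B b a = σ lam := by rw [hlam, h.symm]
    rw [hr0d]
    simp only [map_sub, LinearMap.sub_apply, smul_left, smul_right, ha, hb, e, ← hlam]
    linear_combination -hgab
  have c3 : B u r0 = 0 := by rw [hr0d, map_sub, smul_right, h1, h3, mul_zero, sub_zero]
  have c4 : B r r0 = 0 := by rw [hr0d, map_sub, smul_right, a2, b2, mul_zero, sub_zero]
  have hf2 := orth_two h (ne1 hu) (ne1 ha) h1
  -- through a vector orthogonal to `a`, making a good pair with `b`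
  have via : ∀ c, B c c = 1 → B u c = 0 → B r c = 0 → B a c = 0 → B r0 c * σ (B r0 c) ≠ 1 →
      Same (Orth B) (Good B) ⟨u, hu⟩ ⟨v, hv⟩ ⟨a, ha⟩ ⟨b, hb⟩ := fun c k0 k1 k2 k3 k4 =>
    .trans (c := (⟨c, k0⟩ : Sphere B)) k1 (common c k1 k2) (.tri k3)
      (gram ⟨c, k0⟩ ⟨b, hb⟩ k1 k2 h3 b2 (good_symm h ⟨b, hb⟩ ⟨c, k0⟩ (by
        simp only [Good]
        rw [hb_eq, add_left, smul_left, k3, mul_zero, zero_add]
        exact k4)))
  by_cases hr0 : r = 0
  · rcases eq_or_ne r0 0 with hz | hz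
    · obtain ⟨c, hc, hfc⟩ := exists_perp h ![u, a] hf2 (fun z hz => hz) (by omega)
      exact via c hc (hfc 0) (by rw [hr0, zero_left]) (hfc 1) (by simp [hz])
    · obtain ⟨c, hc, hr0c, hfc⟩ := exists_val_orth h hf2 hz c2
        (fun i => by fin_cases i <;> [exact c3; exact c1]) hy0
      exact via c hc (hfc 0) (by rw [hr0, zero_left]) (hfc 1) (hr0c.symm ▸ hy1)
  by_cases hpar : ∃ μ : F, r0 = μ • r
  · obtain ⟨μ, hμ⟩ := hpar
    rcases eq_or_ne (Module.finrank F V) 4 with h44 | h45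
    · have hla : B (lam • a) (lam • a) = 1 := by rw [IsHerm.smul_self, hgab, ha, mul_one]
      have k1 : B u (lam • a) = 0 := by rw [smul_right, h1, mul_zero]
      have k2 : B r (lam • a) = 0 := by rw [smul_right, a2, mul_zero]
      obtain ⟨p, hp, hrp, hfp⟩ := exists_val_orth h hf2 hr0 hrr
        (fun i => by fin_cases i <;> [exact hur; exact h.eq_zero_symm a2]) hy0
      have hgp : Good B ⟨p, hp⟩ ⟨v, hv⟩ := good_symm h ⟨v, hv⟩ ⟨p, hp⟩ (by
        simp only [Good]
        rw [hv_eq, add_left, smul_left, show B u p = 0 from hfp 0, hrp, mul_zero, zero_add]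
        exact hy1)
      have hlap : B (lam • a) p = 0 := by rw [smul_left, show B a p = 0 from hfp 1, mul_zero]
      refine .trans (c := (⟨lam • a, hla⟩ : Sphere B)) k1 (common _ k1 k2) (Same.four (p := (⟨p, hp⟩ : Sphere B)) (p' := (⟨p, hp⟩ : Sphere B))
        (d := (⟨a, ha⟩ : Sphere B)) (hfp 0) (hfp 1) (hfp 0) hlap (hfp 1) (hfp 1) h2 hgp hgp (good_of_orth h1)) ?_
      exact same_add h (hex h44) (u := ⟨u, hu⟩) (v := ⟨v, hv⟩) hr0 hrr hur (hαd ▸ hg) (hαd ▸ hv_eq) μ
        ⟨lam • a, hla⟩ ⟨b, hb⟩ k1 k2 (hμ ▸ hb_eq)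
    · obtain ⟨c, hc, hfc⟩ := exists_perp h ![u, a, r] hf2 (fun z hz j => by
        fin_cases j <;> [exact hz 0; exact hz 1]) (by omega)
      exact via c hc (hfc 0) (hfc 2) (hfc 1) (by rw [hμ, smul_left, show B r c = 0 from hfc 2]; simp)
  -- an isotropic line orthogonal to a hyperbolic pair
  obtain ⟨s, hss, hrs, hfs⟩ := exists_partner h ![u, a] hr0 hrr
    (fun i => by fin_cases i <;> [exact hur; exact h.eq_zero_symm a2]) (fun z => by
      obtain ⟨z', k, k'⟩ := exists_proj hf2 z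
      exact ⟨z', k' r (fun i => by fin_cases i <;> [exact hru; exact a2]), k⟩)
  have hsr : B s r = 1 := by rw [← h.symm r s, hrs, map_one]
  have hus : B u s = 0 := hfs 0
  have has : B a s = 0 := hfs 1
  have har : B a r = 0 := h.eq_zero_symm a2
  obtain ⟨R, hR⟩ : ∃ R, R = r0 - B s r0 • r := ⟨_, rfl⟩
  have hR0 : R ≠ 0 := fun e => hpar ⟨B s r0, sub_eq_zero.1 (hR ▸ e)⟩
  have g1 : B u R = 0 := by rw [hR, map_sub, smul_right, c3, hur, mul_zero, sub_zero]
  have g2 : B a R = 0 := by rw [hR, map_sub, smul_right, c1, har, mul_zero, sub_zero]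
  have g3 : B r R = 0 := by rw [hR, map_sub, smul_right, c4, hrr, mul_zero, sub_zero]
  have g4 : B s R = 0 := by rw [hR, map_sub, smul_right, hsr, mul_one, sub_self]
  have g5 : B R R = 0 := by
    rw [hR]; simp [map_sub, c2, c4, hrr, h.eq_zero_symm c4]
  obtain ⟨c, hc, hRc, hfc⟩ := exists_val h ![u, a, r, s] hR0 g5
    (fun i => by fin_cases i <;> [exact g1; exact g2; exact g3; exact g4]) (fun z => by
      obtain ⟨z', k, k'⟩ := exists_proj hf2 z
      have e1 : B R r = 0 := h.eq_zero_symm g3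
      have e2 : B R s = 0 := h.eq_zero_symm g4
      have ku : B u z' = 0 := k 0
      have ka : B a z' = 0 := k 1
      refine ⟨z' - B s z' • r - B r z' • s, ?_, fun i => ?_⟩
      · rw [map_sub, map_sub, smul_right, smul_right, e1, e2, mul_zero, mul_zero, sub_zero, sub_zero,
          k' R (fun i => by fin_cases i <;> [exact h.eq_zero_symm g1; exact h.eq_zero_symm g2])]
      · fin_cases i <;> simp [map_sub, hur, hus, har, has, hrr, hrs, hsr, hss, ku, ka]) hy0
  refine via c hc (hfc 0) (hfc 2) (hfc 1) ?_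
  have : B r0 c = B R c := by rw [hR, sub_left, smul_left, show B r c = 0 from hfc 2, mul_zero, sub_zero]
  rwa [this, hRc]

/-- three steps reduce to two -/
theorem step (h4 : 4 ≤ Module.finrank F V) {y : F} (hy0 : y ≠ 0) (hy1 : y * σ y ≠ 1) (e c v w : Sphere B)
    (h1 : Orth B e c) (_h2 : Orth B c v) (_h3 : Orth B v w) :
    Orth B c w ∨ ∃ d v', Orth B e d ∧ Orth B d w ∧ Orth B d v' ∧ Orth B c v' ∧ Orth B v' w := by
  obtain ⟨e, he⟩ := e
  obtain ⟨c, hc⟩ := c
  obtain ⟨w, hw⟩ := w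
  simp only [Orth] at h1 ⊢
  by_cases hμ : B c w = 0
  · exact Or.inl hμ
  refine Or.inr ?_
  have ne1 : ∀ {c : V}, B c c = 1 → B c c ≠ 0 := fun hc => hc.symm ▸ one_ne_zero
  have hce : B c e = 0 := h.eq_zero_symm h1
  -- it is enough to find `d`
  suffices hd : ∃ d, B d d = 1 ∧ B e d = 0 ∧ B w d = 0 ∧
      (1 - B w c * σ (B w c) - B d c * σ (B d c) ≠ 0 ∨ ∃ κ : F, c = κ • w) by
    obtain ⟨d, hd, hed, hwd, hK⟩ := hd
    obtain ⟨v', hv', k1, k2, k3⟩ : ∃ v', B v' v' = 1 ∧ B c v' = 0 ∧ B w v' = 0 ∧ B d v' = 0 := by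
      rcases hK with hK | ⟨κ, hκ⟩
      · obtain ⟨c', hc'⟩ : ∃ c', c' = c - B w c • w - B d c • d := ⟨_, rfl⟩
        have q1 : B w c' = 0 := by rw [hc']; simp [map_sub, hw, hwd]
        have q2 : B d c' = 0 := by rw [hc']; simp [map_sub, hd, h.eq_zero_symm hwd]
        have q3 : B c' c' = 1 - B w c * σ (B w c) - B d c * σ (B d c) := by
          have q4 : B c' c' = B c c' := by
            nth_rewrite 1 [hc']
            rw [sub_left, sub_left, smul_left, smul_left, q1, q2, mul_zero, mul_zero, sub_zero, sub_zero]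
          rw [q4, hc', map_sub, map_sub, smul_right, smul_right, hc, ← h.symm w c, ← h.symm d c]
        obtain ⟨v', hv', hf⟩ := exists_perp h ![w, d, c']
          (orth_three h (ne1 hw) (ne1 hd) (q3 ▸ hK) hwd q1 q2) (fun z hz => hz) (by omega)
        refine ⟨v', hv', ?_, hf 0, hf 1⟩
        rw [show c = c' + B w c • w + B d c • d by rw [hc']; abel, add_left, add_left, smul_left, smul_left,
          show B c' v' = 0 from hf 2, show B w v' = 0 from hf 0, show B d v' = 0 from hf 1]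
        ring
      · obtain ⟨v', hv', hf⟩ := exists_perp h ![w, d] (orth_two h (ne1 hw) (ne1 hd) hwd) (fun z hz => hz)
          (by omega)
        exact ⟨v', hv', by rw [hκ, smul_left, show B w v' = 0 from hf 0, mul_zero], hf 0, hf 1⟩
    exact ⟨⟨d, hd⟩, ⟨v', hv'⟩, hed, h.eq_zero_symm hwd, k3, k1, h.eq_zero_symm k2⟩
  obtain ⟨θ, hθd⟩ : ∃ θ, θ = B e w := ⟨_, rfl⟩
  obtain ⟨w', hw'⟩ : ∃ w', w' = w - θ • e := ⟨_, rfl⟩
  have hw_eq : w = w' + θ • e := by rw [hw', sub_add_cancel]
  have hew' : B e w' = 0 := by rw [hw', map_sub, smul_right, he, mul_one, hθd, sub_self]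
  have hww' : B w' w' = 1 - θ * σ θ := by
    have e' : B w e = σ θ := by rw [hθd, h.symm]
    rw [hw']
    simp only [map_sub, LinearMap.sub_apply, smul_left, smul_right, he, hw, e', ← hθd]
    ring
  have hwc : B w c = B w' c := by rw [hw_eq, add_left, smul_left, h1, mul_zero, add_zero]
  have hperp : ∀ d, B e d = 0 → B w' d = 0 → B w d = 0 := fun d k1 k2 => by
    rw [hw_eq, add_left, smul_left, k1, k2, mul_zero, add_zero]
  by_cases hdeg : B w' w' = 0
  · have hne : B w' c ≠ 0 := fun e0 => hμ (h.eq_zero_symm (hwc.trans e0))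
    obtain ⟨d₀, hd₀, hf⟩ := exists_perp h ![e, w'] (orth_one (ne1 he)) (fun z hz j => by
      fin_cases j; exact hz 0) (by omega)
    have k1 : B e d₀ = 0 := hf 0
    have k2 : B w' d₀ = 0 := hf 1
    obtain ⟨ν, hν⟩ : ∃ ν : F, 1 - B w c * σ (B w c) - ν * σ ν ≠ 0 := by
      by_cases h0 : 1 - B w c * σ (B w c) = 0
      · exact ⟨1, by rw [h0, map_one]; simp⟩
      · exact ⟨0, by simpa using h0⟩
    obtain ⟨t, ht⟩ : ∃ t, σ t * B w' c = ν - B d₀ c :=
      ⟨σ ((ν - B d₀ c) / B w' c), by rw [h.invol.invol, div_mul_cancel₀ _ hne]⟩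
    refine ⟨d₀ + t • w', ?_, ?_, hperp _ ?_ ?_, Or.inl ?_⟩
    · simp [map_add, hd₀, hdeg, k2, h.eq_zero_symm k2]
    · rw [map_add, smul_right, k1, hew', mul_zero, add_zero]
    · rw [map_add, smul_right, k1, hew', mul_zero, add_zero]
    · rw [map_add, smul_right, k2, hdeg, mul_zero, add_zero]
    · rwa [show B (d₀ + t • w') c = ν by rw [add_left, smul_left, ht, add_sub_cancel]]
  obtain ⟨m, hm⟩ : ∃ m, m = B w' c / B w' w' := ⟨_, rfl⟩
  obtain ⟨cP, hcP⟩ : ∃ cP, cP = c - m • w' := ⟨_, rfl⟩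
  have hc_eq : c = cP + m • w' := by rw [hcP, sub_add_cancel]
  have p1 : B e cP = 0 := by rw [hcP, map_sub, smul_right, h1, hew', mul_zero, sub_zero]
  have p2 : B w' cP = 0 := by rw [hcP, map_sub, smul_right, hm, div_mul_cancel₀ _ hdeg, sub_self]
  have hdc : ∀ d, B w' d = 0 → B d c = B d cP := fun d k => by
    rw [hc_eq, map_add, smul_right, h.eq_zero_symm k, mul_zero, add_zero]
  have hf2 := orth_two h (ne1 he) hdeg hew'
  rcases eq_or_ne cP 0 with hP0 | hP0
  · obtain ⟨d, hd, hf⟩ := exists_perp h ![e, w'] hf2 (fun z hz => hz) (by omega)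
    refine ⟨d, hd, hf 0, hperp d (hf 0) (hf 1), ?_⟩
    rw [hdc d (hf 1), hP0, map_zero]
    by_cases hθ0 : θ = 0
    · refine Or.inr ⟨m, ?_⟩
      rw [hc_eq, hP0, zero_add, hw', hθ0, zero_smul, sub_zero]
    · refine Or.inl ?_
      have hn : m * σ m * (1 - θ * σ θ) = 1 := by
        rw [← hww', ← IsHerm.smul_self, ← hc]; congr <;> rw [hc_eq, hP0, zero_add]
      have hwc' : B w c = m * (1 - θ * σ θ) := by
        rw [hwc, hm, ← hww', div_mul_cancel₀ _ hdeg]
      have hfix : σ (1 - θ * σ θ) = 1 - θ * σ θ := by rw [← hww', h.self_fixed]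
      rw [hwc', map_mul, hfix, zero_mul, sub_zero, show 1 - m * (1 - θ * σ θ) * (σ m * (1 - θ * σ θ)) = θ * σ θ by
        linear_combination -(1 - θ * σ θ) * hn]
      exact mul_ne_zero hθ0 ((map_ne_zero σ).2 hθ0)
  by_cases hPP : B cP cP = 0
  · obtain ⟨ν, hν0, hν⟩ : ∃ ν : F, ν ≠ 0 ∧ 1 - B w c * σ (B w c) - ν * σ ν ≠ 0 := by
      by_cases h0 : 1 - B w c * σ (B w c) - 1 = 0
      · exact ⟨y, hy0, fun e' => hy1 (by linear_combination h0 - e')⟩
      · exact ⟨1, one_ne_zero, by rwa [map_one, one_mul]⟩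
    obtain ⟨d, hd, hPd, hf⟩ := exists_val_orth h hf2 hP0 hPP
      (fun i => by fin_cases i <;> [exact p1; exact p2]) hν0
    refine ⟨d, hd, hf 0, hperp d (hf 0) (hf 1), Or.inl ?_⟩
    rw [hdc d (hf 1), ← h.symm cP d, hPd, h.invol.invol, mul_comm (σ ν) ν]
    exact hν
  by_cases h0 : 1 - B w c * σ (B w c) = 0
  · obtain ⟨κ, -, hκ⟩ := h.scale_to hPP (map_one σ) one_ne_zero
    have k1 : B e (κ • cP) = 0 := by rw [smul_right, p1, mul_zero]
    have k2 : B w' (κ • cP) = 0 := by rw [smul_right, p2, mul_zero]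
    refine ⟨κ • cP, hκ, k1, hperp _ k1 k2, Or.inl ?_⟩
    rw [hdc _ k2, h0, zero_sub, neg_ne_zero, smul_left, map_mul, h.invol.invol, h.self_fixed]
    rw [IsHerm.smul_self] at hκ
    intro e'
    refine hPP ?_
    linear_combination e' - (B cP cP) * hκ
  · obtain ⟨d, hd, hf⟩ := exists_perp h ![e, w', cP]
      (orth_three h (ne1 he) hdeg hPP hew' p1 p2) (fun z hz => hz) (by omega)
    refine ⟨d, hd, hf 0, hperp d (hf 0) (hf 1), Or.inl ?_⟩
    rwa [hdc d (hf 1), ← h.symm cP d, show B cP d = 0 from hf 2, map_zero, zero_mul, sub_zero]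

end CfsgLib.Phan
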