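import Cfsg.Agent.Lib.Recog.Phan.Pair
import Cfsg.Agent.Lib.Known.SL2Presentation

/-!
# Lifting `SU 2` over nine elements through central extensions by `3'`-groups
-/

set_option autoImplicit false

namespace CfsgLib.Phan

open CfsgLib.Classical CfsgLib.Classical.Herm CfsgLib.Known.SUBounded CfsgLib.Known.SLPresentation
open scoped MatrixGroups

universe u w v

variable {F : Type u} [Field F] [Fintype F] {q : ℕ} (hF : Fintype.card F = q ^ 2) (hq : q = 3)
include hF hq

theorem three_eq_zero : (3 : F) = 0 := by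
  obtain ⟨p, hp⟩ := CharP.exists F
  have := hp
  obtain ⟨k, hpp, hk⟩ := FiniteField.card F p
  have hd : p ∣ 3 ^ 2 := by
    rw [show (3 : ℕ) ^ 2 = Fintype.card F by rw [hF, hq], hk]
    exact dvd_pow_self p k.ne_zero
  have hp3 : p = 3 := (Nat.prime_dvd_prime_iff_eq hpp Nat.prime_three).1 (hpp.dvd_of_dvd_pow hd)
  subst hp3
  exact_mod_cast CharP.cast_eq_zero F 3

theorem two_ne_zero_three : (2 : F) ≠ 0 := fun e =>
  one_ne_zero (show (1 : F) = 0 by linear_combination three_eq_zero hF hq - e)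

/-- `negOne` as a matrix -/
theorem negOne_val : (negOne hF : Cfsg.SU 2 F q).1.1 = -1 := by
  have hq0 : q ≠ 0 := by omega
  have hneg : (-1 : F) ^ q = -1 := by rw [← powHom_apply hF, map_neg, map_one]
  ext i j
  fin_cases i <;> fin_cases j <;> simp [negOne, su2, hneg, hq0]

theorem negOne_sq : negOne hF * negOne hF = (1 : Cfsg.SU 2 F q) :=
  Subtype.ext (Subtype.ext (show (negOne hF).1.1 * (negOne hF).1.1 = 1 by rw [negOne_val hF hq]; simp))

theorem negOne_ne_one : negOne hF ≠ (1 : Cfsg.SU 2 F q) := fun e => by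
  have := congrArg (fun k : Cfsg.SU 2 F q => k.1.1 0 0) e
  simp [negOne_val hF hq] at this
  exact two_ne_zero_three hF hq (by linear_combination -this)

omit [Field F] [Fintype F] hF hq in
/-- two lifts of order dividing three agree -/
theorem lift_unique {S : Type v} [Group S] {H : Type w} [Group H] (g : S →* H) (hker : g.ker ≤ Subgroup.center S)
    (hexp : ∀ z ∈ g.ker, z ^ 4 = 1) {a b : S} (ha : a ^ 3 = 1) (hb : b ^ 3 = 1) (h : g a = g b) : a = b := by
  obtain ⟨z, hz⟩ : ∃ z, z = b⁻¹ * a := ⟨_, rfl⟩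
  have hzk : z ∈ g.ker := by rw [MonoidHom.mem_ker, hz, map_mul, map_inv, h, inv_mul_cancel]
  have hc : Commute b z := Subgroup.mem_center_iff.1 (hker hzk) b
  have hab : a = b * z := by rw [hz, mul_inv_cancel_left]
  have h3 : z ^ 3 = 1 := by
    rw [hab, hc.mul_pow, hb, one_mul] at ha
    exact ha
  have h4 := hexp z hzk
  rw [pow_succ, h3, one_mul] at h4
  rw [hab, h4, mul_one]

theorem exists_gens : ∃ T : Set (Cfsg.SU 2 F q), Subgroup.closure T = ⊤ ∧ ∀ x ∈ T, x ^ 3 = 1 := by
  classical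
  obtain ⟨e, -⟩ := exists_trace_equiv hF
  refine ⟨e '' (Set.range upper ∪ Set.range lower), ?_, ?_⟩
  · rw [eq_top_iff]
    intro x _
    obtain ⟨r, a, b, c, hx⟩ := exists_word (e.symm x)
    rw [← e.apply_symm_apply x, hx, map_mul, map_mul, map_mul]
    refine mul_mem ?_ (mul_mem (mul_mem ?_ ?_) ?_) <;> apply Subgroup.subset_closure
    · exact ⟨_, Or.inr ⟨r, rfl⟩, rfl⟩
    · exact ⟨_, Or.inl ⟨a, rfl⟩, rfl⟩
    · exact ⟨_, Or.inr ⟨b, rfl⟩, rfl⟩
    · exact ⟨_, Or.inl ⟨c, rfl⟩, rfl⟩
  · have h3 : ∀ t : fixedSub (powHom hF), t + t + t = 0 := fun t => Subtype.ext (by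
      show (t : F) + t + t = 0
      linear_combination (t : F) * three_eq_zero hF hq)
    rintro _ ⟨x, (⟨t, rfl⟩ | ⟨t, rfl⟩), rfl⟩ <;> rw [← map_pow] <;> refine (congrArg e ?_).trans (map_one e) <;>
      refine Subtype.ext ?_ <;>
      rw [pow_succ, pow_two, Matrix.SpecialLinearGroup.coe_mul, Matrix.SpecialLinearGroup.coe_mul] <;>
      simp [coe_upper, coe_lower, h3]
    all_goals
      ext i j
      fin_cases i <;> fin_cases j <;> simp [Matrix.one_apply]
    all_goals linear_combination (t : F) * three_eq_zero hF hq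

theorem hom_ext_three {S : Type v} [Group S] {H : Type w} [Group H] (g : S →* H) (hker : g.ker ≤ Subgroup.center S)
    (hexp : ∀ z ∈ g.ker, z ^ 4 = 1) {Ψ Ψ' : Cfsg.SU 2 F q →* S} (h : ∀ x, g (Ψ x) = g (Ψ' x)) : Ψ = Ψ' := by
  obtain ⟨T, hT, hT3⟩ := exists_gens hF hq
  refine MonoidHom.eq_of_eqOn_dense hT fun x hx => ?_
  exact lift_unique g hker hexp (by rw [← map_pow, hT3 x hx, map_one])
    (by rw [← map_pow, hT3 x hx, map_one]) (h x)

/-- lifts of commuting images commute -/
theorem commute_three {S : Type v} [Group S] {H : Type w} [Group H] (g : S →* H) (hker : g.ker ≤ Subgroup.center S)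
    (hexp : ∀ z ∈ g.ker, z ^ 4 = 1) {Ψ Ψ' : Cfsg.SU 2 F q →* S} (h : ∀ x y, Commute (g (Ψ x)) (g (Ψ' y))) (x y) :
    Commute (Ψ x) (Ψ' y) := by
  have := hom_ext_three hF hq g hker hexp (Ψ := (MulAut.conj (Ψ x)).toMonoidHom.comp Ψ') (Ψ' := Ψ') fun z => by
    show g (Ψ x * Ψ' z * (Ψ x)⁻¹) = _
    rw [map_mul, map_mul, map_inv, (h x z).eq, mul_inv_cancel_right]
  exact mul_inv_eq_iff_eq_mul.1 (DFunLike.congr_fun this y :)

/-- homomorphisms into the multiplicative monoid of a field of characteristic three are trivial -/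
theorem hom_field_one (χ : Cfsg.SU 2 F q →* F) (x : Cfsg.SU 2 F q) : χ x = 1 := by
  obtain ⟨T, hT, hT3⟩ := exists_gens hF hq
  have h : χ.toHomUnits = 1 := MonoidHom.eq_of_eqOn_dense hT fun y hy => Units.ext (by
    have h1 : χ y ^ 3 = 1 := by rw [← map_pow, hT3 y hy, map_one]
    have h2 : (χ y - 1) ^ 3 = 0 := by
      linear_combination h1 + (-(χ y) ^ 2 + χ y) * three_eq_zero hF hq
    rw [MonoidHom.coe_toHomUnits, MonoidHom.one_apply, Units.val_one]
    exact sub_eq_zero.1 ((pow_eq_zero_iff (by norm_num : (3 : ℕ) ≠ 0)).1 h2))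
  simpa using congrArg Units.val (DFunLike.congr_fun h x)

/-- the lift -/
theorem exists_lift {S : Type v} [Group S] {H : Type w} [Group H] (g : S →* H) (hsurj : Function.Surjective g)
    (hker : g.ker ≤ Subgroup.center S) (hexp : ∀ z ∈ g.ker, z ^ 4 = 1) {ψ : Cfsg.SU 2 F q →* H}
    (hψ : Function.Injective ψ) : ∃ Ψ : Cfsg.SU 2 F q →* S, ∀ x, g (Ψ x) = ψ x := by
  classical
  obtain ⟨e, -⟩ := exists_trace_equiv hF
  let ψ' : SL(2, fixedSub (powHom hF)) →* H := ψ.comp e.toMonoidHom
  have hψ' : Function.Injective ψ' := hψ.comp e.injective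
  have hlift : ∀ h : H, h ^ 3 = 1 → ∃ a : S, a ^ 3 = 1 ∧ g a = h := by
    intro h hh
    obtain ⟨s, hs⟩ := hsurj h
    refine ⟨s ^ 4, ?_, ?_⟩
    · rw [← pow_mul, pow_mul' s 4 3]
      exact hexp _ (by rw [MonoidHom.mem_ker, map_pow, hs, hh])
    · rw [map_pow, hs, pow_succ, hh, one_mul]
  have h3 : ∀ t : fixedSub (powHom hF), t + t + t = 0 := fun t => Subtype.ext (by
    show (t : F) + t + t = 0
    linear_combination (t : F) * three_eq_zero hF hq)
  have hu : ∀ t : fixedSub (powHom hF), upper t ^ 3 = 1 := fun t => by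
    refine Subtype.ext ?_
    rw [pow_succ, pow_two, Matrix.SpecialLinearGroup.coe_mul, Matrix.SpecialLinearGroup.coe_mul]
    simp [coe_upper, h3]
    ext i j
    fin_cases i <;> fin_cases j <;> simp
    all_goals linear_combination (t : F) * three_eq_zero hF hq
  have hl : ∀ t : fixedSub (powHom hF), lower t ^ 3 = 1 := fun t => by
    refine Subtype.ext ?_
    rw [pow_succ, pow_two, Matrix.SpecialLinearGroup.coe_mul, Matrix.SpecialLinearGroup.coe_mul]
    simp [coe_lower, h3]
    ext i j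
    fin_cases i <;> fin_cases j <;> simp
  choose X hX3 hXg using fun t => hlift (ψ' (upper t)) (by rw [← map_pow, hu, map_one])
  choose Y hY3 hYg using fun t => hlift (ψ' (lower t)) (by rw [← map_pow, hl, map_one])
  have hcube : ∀ (W a : S), a ^ 3 = 1 → (W * a * W⁻¹) ^ 3 = 1 := fun W a ha => by
    rw [← MulAut.conj_apply, ← map_pow, ha, map_one]
  have hadd : ∀ t s, X t * X s = X (t + s) := fun t s => by
    have hc : Commute (X t) (X s) := mul_inv_eq_iff_eq_mul.1
      (lift_unique g hker hexp (hcube _ _ (hX3 s)) (hX3 s) (by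
        rw [map_mul, map_mul, map_inv, hXg, hXg, mul_inv_eq_iff_eq_mul, ← map_mul, ← map_mul]
        refine congrArg ψ' (Subtype.ext ?_)
        simp [coe_upper, add_comm]))
    refine lift_unique g hker hexp (by rw [hc.mul_pow, hX3, hX3, one_mul]) (hX3 _) ?_
    rw [map_mul, hXg, hXg, hXg, ← map_mul]
    refine congrArg ψ' (Subtype.ext ?_)
    simp [coe_upper, add_comm]
  have hadd' : ∀ t s, Y t * Y s = Y (t + s) := fun t s => by
    have hc : Commute (Y t) (Y s) := mul_inv_eq_iff_eq_mul.1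
      (lift_unique g hker hexp (hcube _ _ (hY3 s)) (hY3 s) (by
        rw [map_mul, map_mul, map_inv, hYg, hYg, mul_inv_eq_iff_eq_mul, ← map_mul, ← map_mul]
        refine congrArg ψ' (Subtype.ext ?_)
        simp [coe_lower, add_comm]))
    refine lift_unique g hker hexp (by rw [hc.mul_pow, hY3, hY3, one_mul]) (hY3 _) ?_
    rw [map_mul, hYg, hYg, hYg, ← map_mul]
    refine congrArg ψ' (Subtype.ext ?_)
    simp [coe_lower, add_comm]
  have hpm : ∀ t : fixedSub (powHom hF), t ≠ 0 → t = 1 ∨ t = -1 := fun t ht => by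
    have h1 : (t : F) ^ 3 = t :=
      (congrArg (fun n : ℕ => (t : F) ^ n) hq).symm.trans (mem_fixedSub.1 t.2 :)
    have h2 : t * ((t - 1) * (t + 1)) = 0 := Subtype.ext (by push_cast; linear_combination h1)
    exact ((mul_eq_zero.1 ((mul_eq_zero.1 h2).resolve_left ht))).imp sub_eq_zero.1 eq_neg_of_add_eq_zero_left
  have hxc : ∀ t u : fixedSub (powHom hF), t ≠ 0 →
      (X t * Y (-t⁻¹) * X t) * X u * (X t * Y (-t⁻¹) * X t)⁻¹ = Y (-(t⁻¹ ^ 2 * u)) := fun t u ht => by
    refine lift_unique g hker hexp (hcube _ _ (hX3 u)) (hY3 _) ?_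
    simp only [map_mul, map_inv, hXg, hYg]
    rw [mul_inv_eq_iff_eq_mul]
    simp only [← map_mul]
    refine congrArg ψ' (Subtype.ext ?_)
    simp only [Matrix.SpecialLinearGroup.coe_mul, coe_upper, coe_lower]
    ext i j
    rcases hpm t ht with rfl | rfl <;>
      fin_cases i <;> fin_cases j <;> simp [Matrix.mul_apply, Fin.sum_univ_two]
  have hyc : ∀ t u : fixedSub (powHom hF), t ≠ 0 →
      (Y t * X (-t⁻¹) * Y t) * Y u * (Y t * X (-t⁻¹) * Y t)⁻¹ = X (-(t⁻¹ ^ 2 * u)) := fun t u ht => by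
    refine lift_unique g hker hexp (hcube _ _ (hY3 u)) (hX3 _) ?_
    simp only [map_mul, map_inv, hXg, hYg]
    rw [mul_inv_eq_iff_eq_mul]
    simp only [← map_mul]
    refine congrArg ψ' (Subtype.ext ?_)
    simp only [Matrix.SpecialLinearGroup.coe_mul, coe_upper, coe_lower]
    ext i j
    rcases hpm t ht with rfl | rfl <;>
      fin_cases i <;> fin_cases j <;> simp [Matrix.mul_apply, Fin.sum_univ_two]
  let P : Subgroup S := Subgroup.closure (Set.range X ∪ Set.range Y)
  have hP : ∀ s : P, g s ∈ ψ'.range := by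
    have : P ≤ ψ'.range.comap g := (Subgroup.closure_le _).2 (by
      rintro _ (⟨t, rfl⟩ | ⟨t, rfl⟩)
      · exact ⟨upper t, (hXg t).symm⟩
      · exact ⟨lower t, (hYg t).symm⟩)
    exact fun s => this s.2
  let f : P →* SL(2, fixedSub (powHom hF)) :=
    (MonoidHom.ofInjective hψ').symm.toMonoidHom.comp ((g.comp P.subtype).codRestrict ψ'.range hP)
  have hf : ∀ s : P, ψ' (f s) = g s := fun s =>
    congrArg Subtype.val ((MonoidHom.ofInjective hψ').apply_symm_apply ⟨g s, hP s⟩)
  let R : Rel1 (fixedSub (powHom hF)) P :=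
    { x := fun t => ⟨X t, Subgroup.subset_closure (Or.inl ⟨t, rfl⟩)⟩
      y := fun t => ⟨Y t, Subgroup.subset_closure (Or.inr ⟨t, rfl⟩)⟩
      f := f
      x_add := fun t s => Subtype.ext (hadd t s)
      y_add := fun t s => Subtype.ext (hadd' t s)
      x_conj := fun t s ht => Subtype.ext (hxc t s ht)
      y_conj := fun t s ht => Subtype.ext (hyc t s ht)
      fx := fun t => hψ' ((hf _).trans (hXg t))
      fy := fun t => hψ' ((hf _).trans (hYg t))
      gen := by
        refine Subgroup.map_injective P.subtype_injective ?_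
        rw [MonoidHom.map_closure, Set.image_union, ← Set.range_comp, ← Set.range_comp,
          ← MonoidHom.range_eq_map, Subgroup.range_subtype]
        rfl }
  have : Finite (fixedSub (powHom hF)) := inferInstance
  let eq := MulEquiv.ofBijective R.f ⟨R.injective, R.surjective⟩
  refine ⟨(P.subtype.comp eq.symm.toMonoidHom).comp e.symm.toMonoidHom, fun x => ?_⟩
  show g ((eq.symm (e.symm x) : P) : S) = ψ x
  rw [← hf, show f (eq.symm (e.symm x)) = e.symm x from eq.apply_symm_apply _]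
  exact congrArg ψ (e.apply_symm_apply x)

/-- a homomorphism not killing minus one is injective -/
theorem injective_of_negOne {X : Type v} [Group X] (A : Cfsg.SU 2 F q →* X) (hA : A (negOne hF) ≠ 1) :
    Function.Injective A := by
  classical
  have h2 := two_ne_zero_three hF hq
  have hq0 : q ≠ 0 := by omega
  have hsq : ∀ x : Cfsg.SU 2 F q, x.1.1 * x.1.1 = Matrix.trace x.1.1 • x.1.1 - 1 := by
    intro x
    have hd := x.1.2
    rw [Matrix.det_fin_two] at hd
    ext i j
    fin_cases i <;> fin_cases j <;> simp [Matrix.mul_apply, Fin.sum_univ_two, Matrix.trace_fin_two]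
    · linear_combination -hd
    · ring
    · ring
    · linear_combination -hd
  have hfix : ∀ x : Cfsg.SU 2 F q, Matrix.trace x.1.1 ^ 3 = Matrix.trace x.1.1 := by
    intro x
    rw [Matrix.trace_fin_two, (su2_entries hF x).2.2, ← hq, ← powHom_apply hF, map_add, powHom_apply, powHom_apply]
    have := (powHom_isInvol hF).invol (x.1.1 0 0)
    rw [powHom_apply, powHom_apply] at this
    rw [this, add_comm]
  have h0 : ∀ x : Cfsg.SU 2 F q, Matrix.trace x.1.1 = 0 → A x ≠ 1 := fun x ht e => by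
    refine hA ?_
    have : negOne hF = x * x := by
      refine Subtype.ext (Subtype.ext ?_)
      show (negOne hF).1.1 = x.1.1 * x.1.1
      rw [negOne_val hF hq, hsq, ht, zero_smul, zero_sub]
    rw [this, map_mul, e, one_mul]
  refine (injective_iff_map_eq_one A).2 fun x hx => ?_
  obtain ⟨t, ht⟩ : ∃ t, t = Matrix.trace x.1.1 := ⟨_, rfl⟩
  have ht3 : t * ((t - 1) * (t + 1)) = 0 := by
    have := hfix x
    rw [← ht] at this
    linear_combination this
  rcases mul_eq_zero.1 ht3 with h | h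
  · exact absurd hx (h0 x (ht ▸ h))
  rcases mul_eq_zero.1 h with h | h
  · refine absurd ?_ hA
    have h1 : t = 1 := sub_eq_zero.1 h
    have : negOne hF = x * (x * x) := by
      refine Subtype.ext (Subtype.ext ?_)
      show (negOne hF).1.1 = x.1.1 * (x.1.1 * x.1.1)
      rw [negOne_val hF hq, hsq, ← ht, h1, one_smul, Matrix.mul_sub, Matrix.mul_one, hsq, ← ht, h1, one_smul]
      abel
    rw [this, map_mul, map_mul, hx, one_mul, one_mul]
  have htm : t = -1 := eq_neg_of_add_eq_zero_left h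
  obtain ⟨i, hi, -, hii⟩ := exists_dia_ne hF (show 3 ≤ q by omega)
  have hi2 : i * i = -1 := by
    rw [hq] at hi hii
    have h4 : (i * i - 1) * (i * i + 1) = 0 := by linear_combination hi
    rcases mul_eq_zero.1 h4 with k | k
    · exact absurd (show i = i ^ 3 by linear_combination -i * k) hii
    · exact eq_neg_of_add_eq_zero_left k
  have hi3 : i ^ q = -i := by rw [hq]; linear_combination i * hi2
  -- otherwise a commutator has trace zero
  have key : ∀ y : Cfsg.SU 2 F q, Matrix.trace y.1.1 = 0 → Matrix.trace (x * y).1.1 = 0 := by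
    intro y hy
    by_contra hz
    obtain ⟨z, hzd⟩ : ∃ z, z = Matrix.trace (x * y).1.1 := ⟨_, rfl⟩
    rw [← hzd] at hz
    refine h0 (x * y * x⁻¹ * y⁻¹) ?_ (by rw [map_mul, map_mul, map_mul, map_inv, map_inv, hx]; group)
    have hxi : (x⁻¹ : Cfsg.SU 2 F q).1.1 = Matrix.trace x.1.1 • 1 - x.1.1 := by
      show ((x⁻¹ : Cfsg.SU 2 F q).1 : Matrix (Fin 2) (Fin 2) F) = _
      rw [Subgroup.coe_inv, Matrix.SpecialLinearGroup.coe_inv, Matrix.adjugate_fin_two]
      ext a b
      fin_cases a <;> fin_cases b <;> simp [Matrix.trace_fin_two]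
    have hyi : (y⁻¹ : Cfsg.SU 2 F q).1.1 = -y.1.1 := by
      show ((y⁻¹ : Cfsg.SU 2 F q).1 : Matrix (Fin 2) (Fin 2) F) = _
      rw [Subgroup.coe_inv, Matrix.SpecialLinearGroup.coe_inv, Matrix.adjugate_fin_two]
      rw [Matrix.trace_fin_two] at hy
      ext a b
      fin_cases a <;> fin_cases b <;> simp <;> linear_combination hy
    have hxy := hsq (x * y)
    rw [← hzd, show (x * y).1.1 = x.1.1 * y.1.1 from rfl] at hxy
    show Matrix.trace (x.1.1 * y.1.1 * (x⁻¹ : Cfsg.SU 2 F q).1.1 * (y⁻¹ : Cfsg.SU 2 F q).1.1) = 0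
    have e : x.1.1 * y.1.1 * (x⁻¹ : Cfsg.SU 2 F q).1.1 * (y⁻¹ : Cfsg.SU 2 F q).1.1 =
        -(t • (x.1.1 * (y.1.1 * y.1.1))) + (x.1.1 * y.1.1) * (x.1.1 * y.1.1) := by
      rw [hxi, hyi, ← ht, Matrix.mul_sub, Matrix.mul_smul, Matrix.mul_one, Matrix.mul_neg, Matrix.sub_mul,
        Matrix.smul_mul, Matrix.mul_assoc x.1.1 y.1.1 y.1.1, Matrix.mul_assoc (x.1.1 * y.1.1) x.1.1 y.1.1]
      abel
    rw [e, hxy, hsq y, hy, zero_smul, zero_sub, Matrix.mul_neg, Matrix.mul_one, smul_neg, neg_neg,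
      Matrix.trace_add, Matrix.trace_sub, Matrix.trace_smul, Matrix.trace_smul, ← ht, Matrix.trace_one,
      Fintype.card_fin, show Matrix.trace (x.1.1 * y.1.1) = z from hzd.symm, smul_eq_mul, smul_eq_mul]
    have hz3 := hfix (x * y)
    rw [← hzd] at hz3
    have hz2 : z * z = 1 :=
      mul_left_cancel₀ hz (show z * (z * z) = z * 1 by linear_combination hz3)
    rw [htm]
    push_cast
    linear_combination hz2
  obtain ⟨e00, e01, e11⟩ := su2_entries hF x
  have k1 := key (rot hF) (by simp [rot, su2, Matrix.trace_fin_two, hq0])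
  have k2 := key (dia hF i hi) (by simp [dia, su2, Matrix.trace_fin_two, hi3])
  have k3 := key (su2 hF 0 i (by rw [zero_mul, zero_add, hi])) (by simp [su2, Matrix.trace_fin_two, hq0])
  change Matrix.trace (x.1.1 * _) = 0 at k1
  change Matrix.trace (x.1.1 * _) = 0 at k2
  change Matrix.trace (x.1.1 * _) = 0 at k3
  simp [rot, dia, su2, Matrix.trace_fin_two, Matrix.mul_apply, Fin.sum_univ_two, e01, e11, hq0, hi3] at k1 k2 k3
  have hi0 : i ≠ 0 := fun e => by rw [e] at hi; simp at hi
  have hb : x.1.1 1 0 = 0 := by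
    have h22 : (2 * i) * x.1.1 1 0 = 0 := by
        linear_combination k3 - i * k1
    exact (mul_eq_zero.1 h22).resolve_left (mul_ne_zero h2 hi0)
  have hr : x.1.1 0 0 ^ q = x.1.1 0 0 := by
    refine sub_eq_zero.1 ((mul_eq_zero.1 (show i * (x.1.1 0 0 ^ q - x.1.1 0 0) = 0 by
      first | linear_combination k2 | linear_combination -k2)).resolve_left hi0)
  have ha : x.1.1 0 0 = 1 := by
    rw [Matrix.trace_fin_two, e11, hr, htm] at ht
    linear_combination ht + x.1.1 0 0 * three_eq_zero hF hq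
  rw [su2_eta hF x]
  refine Subtype.ext (Subtype.ext ?_)
  ext a b
  fin_cases a <;> fin_cases b <;> simp [su2_val, ha, hb, hq0]

end CfsgLib.Phan
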