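import Cfsg.Agent.Lib.Recog.Phan.Emb
import Cfsg.Agent.Lib.Classical.Unitary.Two
import Cfsg.Agent.Lib.Known.AutPSL.Classify
import Cfsg.Agent.Lib.Classical.PSLTwoSimple

/-!
# Automorphisms of `SU 2` that fix the diagonal torus
-/

set_option autoImplicit false

namespace CfsgLib.Phan

open CfsgLib.Classical CfsgLib.Classical.Herm CfsgLib.Known.SUBounded
open scoped MatrixGroups

variable {F : Type*} [Field F] [Fintype F] {q : ℕ} (hF : Fintype.card F = q ^ 2)
include hF

omit hF [Fintype F] in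
/-- a homomorphism to matrices with values in `SU` -/
theorem exists_toSU {K : Type*} [Field K] {n : ℕ} (φ : Matrix (Fin 2) (Fin 2) K →* Matrix (Fin n) (Fin n) F)
    (hd : ∀ M : SL(2, K), (φ M.1).det = 1)
    (hp : ∀ M : SL(2, K), ∀ u v : Fin n → F,
      Cfsg.hermForm n F q ((φ M.1).mulVec u) ((φ M.1).mulVec v) = Cfsg.hermForm n F q u v) :
    ∃ Φ : SL(2, K) →* Cfsg.SU n F q, ∀ M, (Φ M).1.1 = φ M.1 :=
  ⟨{ toFun := fun M => ⟨⟨φ M.1, hd M⟩, hp M⟩
     map_one' := Subtype.ext (Subtype.ext (map_one φ))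
     map_mul' := fun M N => Subtype.ext (Subtype.ext (map_mul φ M.1 N.1)) }, fun _ => rfl⟩

/-- `SL 2` over the fixed field, with equal traces -/
theorem exists_trace_equiv :
    ∃ e : SL(2, fixedSub (powHom hF)) ≃* Cfsg.SU 2 F q, ∀ M : SL(2, fixedSub (powHom hF)),
      Matrix.trace (e M).1.1 = ((Matrix.trace M.1 : fixedSub (powHom hF)) : F) := by
  classical
  have h := hermStd_isHerm (n := 2) hF
  obtain ⟨b, θ, -, hθ, h00, h11, h01⟩ := h.exists_skew_basis finrank_std
  let φ : Matrix (Fin 2) (Fin 2) (fixedSub (powHom hF)) →* Matrix (Fin 2) (Fin 2) F :=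
    { toFun := fun M => LinearMap.toMatrix' (ofSL2 (powHom hF) b M)
      map_one' := by rw [map_one]; exact LinearMap.toMatrix'_one
      map_mul' := fun M N => by rw [map_mul, LinearMap.toMatrix'_mul] }
  have hφv : ∀ M v, (φ M).mulVec v = ofSL2 _ b M v := fun M v =>
    LinearMap.toMatrix'_mulVec (ofSL2 _ b M) v
  have hdet : ∀ M, (φ M).det = ((Matrix.det M : fixedSub (powHom hF)) : F) := fun M => by
    show (LinearMap.toMatrix' (ofSL2 _ b M)).det = _
    rw [LinearMap.det_toMatrix', ofSL2, MonoidHom.comp_apply]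
    show LinearMap.det (Matrix.toLin b b _) = _
    rw [LinearMap.det_toLin]
    exact (RingHom.map_det (fixedSub (powHom hF)).subtype M).symm
  have htr : ∀ M, Matrix.trace (φ M) = ((Matrix.trace M : fixedSub (powHom hF)) : F) := fun M => by
    have e1 := LinearMap.trace_eq_matrix_trace F (Pi.basisFun F (Fin 2)) (ofSL2 _ b M)
    have e2 := LinearMap.trace_eq_matrix_trace F b (ofSL2 _ b M)
    rw [LinearMap.toMatrix_eq_toMatrix'] at e1
    show Matrix.trace (LinearMap.toMatrix' (ofSL2 _ b M)) = _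
    rw [← e1, e2, show LinearMap.toMatrix b b (ofSL2 _ b M) = (fixedSub (powHom hF)).subtype.mapMatrix M from
      LinearMap.toMatrix_toLin b b _, Matrix.trace, Matrix.trace]
    simp
  have hinj : Function.Injective φ := fun M N e => by
    have e0 : LinearMap.toMatrix' (ofSL2 (powHom hF) b M) = LinearMap.toMatrix' (ofSL2 (powHom hF) b N) := e
    have e' := LinearEquiv.injective _ e0
    exact Matrix.map_injective Subtype.val_injective ((Matrix.toLinAlgEquiv b).injective e')
  have hpres : ∀ M : SL(2, fixedSub (powHom hF)), ∀ u v : Fin 2 → F,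
      Cfsg.hermForm 2 F q ((φ M.1).mulVec u) ((φ M.1).mulVec v) = Cfsg.hermForm 2 F q u v := fun M u v => by
    have := h.ofSL2_preserves hθ h00 h11 h01 M.2 v u
    rw [hermStd_apply, hermStd_apply] at this
    rw [hφv M.1 u, hφv M.1 v]
    exact this
  obtain ⟨Φ, hΦ⟩ := exists_toSU φ (fun M : SL(2, fixedSub (powHom hF)) => by rw [hdet, M.2]; rfl) hpres
  have hΦinj : Function.Injective Φ := fun M N e => Subtype.ext (hinj (by rw [← hΦ, ← hΦ, e]))
  have : Fintype (fixedSub (powHom hF)) := Fintype.ofFinite _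
  obtain ⟨e⟩ := nonempty_su_two_equiv (K := fixedSub (powHom hF)) hF
    (by rw [← Nat.card_eq_fintype_card, card_fixed_powHom hF])
  have hcard : Nat.card SL(2, fixedSub (powHom hF)) = Nat.card (Cfsg.SU 2 F q) :=
    (Nat.card_congr e.toEquiv).symm
  refine ⟨MulEquiv.ofBijective Φ ((Nat.bijective_iff_injective_and_card _).2 ⟨hΦinj, hcard⟩), fun M => ?_⟩
  rw [MulEquiv.ofBijective_apply, hΦ]
  exact htr M.1

omit hF in
/-- an automorphism of a subfield extends -/
theorem exists_extend_ringEquiv (K : Subfield F) (τ : K ≃+* K) : ∃ σ : F ≃+* F, ∀ x : K, σ x = τ x := by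
  obtain ⟨p, hp⟩ := CharP.exists F
  have := hp
  have : Fact p.Prime := ⟨CharP.char_is_prime F p⟩
  let _ : CharP K p := charP_of_injective_ringHom (f := K.subtype.comp (RingHom.id K)) Subtype.val_injective p |>
    fun _ => (RingHom.charP_iff K.subtype Subtype.val_injective p).2 hp
  let _ : Algebra (ZMod p) F := ZMod.algebra F p
  let _ : Algebra (ZMod p) K := ZMod.algebra K p
  have : @IsScalarTower (ZMod p) K F Algebra.toSMul Algebra.toSMul Algebra.toSMul := IsScalarTower.of_algebraMap_eq' (RingHom.ext_zmod _ _)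
  have : Normal (ZMod p) F := by
    have : IsGalois (ZMod p) F := inferInstance
    infer_instance
  let τ' : K ≃ₐ[ZMod p] K :=
    AlgEquiv.ofRingEquiv (f := τ) fun x => by
      have := RingHom.ext_zmod (τ.toRingHom.comp (algebraMap (ZMod p) K)) (algebraMap (ZMod p) K)
      exact RingHom.congr_fun this x
  exact ⟨(τ'.liftNormal F).toRingEquiv, fun x => AlgEquiv.liftNormal_commutes τ' F x⟩

/-- automorphisms act semilinearly on traces -/
theorem exists_trace_semilinear (hq : 4 ≤ q) (β : MulAut (Cfsg.SU 2 F q)) :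
    ∃ σ : F ≃+* F, ∀ x, Matrix.trace (β x).1.1 = σ (Matrix.trace x.1.1) := by
  classical
  obtain ⟨e, he⟩ := exists_trace_equiv hF
  have : Fintype (fixedSub (powHom hF)) := Fintype.ofFinite _
  have hK : 4 ≤ Fintype.card (fixedSub (powHom hF)) := by
    rw [← Nat.card_eq_fintype_card, card_fixed_powHom hF]; exact hq
  let β' : MulAut SL(2, fixedSub (powHom hF)) := (e.trans β).trans e.symm
  let β'' : MulAut (Known.AutPSL.PSL 2 (fixedSub (powHom hF))) :=
    QuotientGroup.congr _ _ β' (Known.AutPSL.map_center_eq _)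
  obtain ⟨g, τ, hg | ⟨h3, -⟩⟩ := Known.AutPSL.exists_eq_semilin le_rfl β''
  swap
  · omega
  have hz : ∀ s, ∃ z ∈ Subgroup.center SL(2, fixedSub (powHom hF)), β' s = Known.AutPSL.slConjHom g τ s * z := by
    intro s
    have := congrArg (fun f : MulAut _ => f (Known.AutPSL.proj 2 _ s)) hg
    have e1 : β'' (Known.AutPSL.proj 2 _ s) = Known.AutPSL.proj 2 _ (β' s) := rfl
    simp only [e1, Known.AutPSL.semilin_proj] at this
    exact ⟨_, QuotientGroup.eq.1 this.symm, (mul_inv_cancel_left _ _).symm⟩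
  choose c hc1 hc2 using hz
  have hcm : ∀ s t, c (s * t) = c s * c t := fun s t => by
    have h1 := hc2 (s * t)
    rw [map_mul, map_mul, hc2 s, hc2 t] at h1
    have h2 := Subgroup.mem_center_iff.1 (hc1 s) (Known.AutPSL.slConjHom g τ t)
    refine mul_left_cancel (a := Known.AutPSL.slConjHom g τ s * Known.AutPSL.slConjHom g τ t) ?_
    rw [← h1]
    simp only [mul_assoc]
    rw [← mul_assoc (Known.AutPSL.slConjHom g τ t) (c s), h2, mul_assoc]
  let χ : SL(2, fixedSub (powHom hF)) →* Subgroup.center SL(2, fixedSub (powHom hF)) :=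
    MonoidHom.mk' (fun s => ⟨c s, hc1 s⟩) fun s t => Subtype.ext (hcm s t)
  have hχ : ∀ s, c s = 1 := fun s => by
    have hle : commutator SL(2, fixedSub (powHom hF)) ≤ χ.ker := by
      rw [commutator_def, Subgroup.commutator_le]
      intro a _ b _
      rw [MonoidHom.mem_ker, map_commutatorElement, commutatorElement_eq_one_iff_mul_comm]
      exact Subtype.ext ((Subgroup.mem_center_iff.1 (hc1 a) (c b)).symm)
    rw [commutator_SL_two_eq_top hK] at hle
    exact congrArg Subtype.val (MonoidHom.mem_ker.1 (hle (Subgroup.mem_top s)))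
  obtain ⟨σ, hσ⟩ := exists_extend_ringEquiv (fixedSub (powHom hF)) τ
  refine ⟨σ, fun x => ?_⟩
  have hx : β x = e (β' (e.symm x)) := by simp [β']
  rw [hx, he, ← e.apply_symm_apply x, he, e.symm_apply_apply, hσ, hc2, hχ, mul_one]
  congr 1
  rw [Known.AutPSL.coe_slConjHom, Matrix.trace_mul_comm, ← mul_assoc, Units.inv_mul, one_mul]
  exact (AddMonoidHom.map_trace τ.toRingHom.toAddMonoidHom _).symm

theorem su2_congr {a b a' b' : F} (h : a * a ^ q + b * b ^ q = 1) (h' : a' * a' ^ q + b' * b' ^ q = 1)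
    (ha : a = a') (hb : b = b') : su2 hF a b h = su2 hF a' b' h' := by
  subst ha hb; rfl

theorem su2_mul_00 (a b c d : F) (h : a * a ^ q + b * b ^ q = 1) (h' : c * c ^ q + d * d ^ q = 1) :
    (su2 hF a b h * su2 hF c d h').1.1 0 0 = a * c - b ^ q * d := by
  show ((su2 hF a b h).1.1 * (su2 hF c d h').1.1) 0 0 = _
  simp [su2_val, Matrix.mul_apply, Fin.sum_univ_two, sub_eq_add_neg]

omit hF [Fintype F] in
theorem diag_norm {a : F} (ha : a * a ^ q = 1) : a * a ^ q + 0 * (0 : F) ^ q = 1 := by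
  rw [zero_mul, add_zero, ha]

/-- the diagonal element -/
def dia (a : F) (ha : a * a ^ q = 1) : Cfsg.SU 2 F q := su2 hF a 0 (diag_norm ha)

omit hF in
/-- diagonal -/
def IsDia (x : Cfsg.SU 2 F q) : Prop := x.1.1 1 0 = 0

theorem isDia_dia (a : F) (ha : a * a ^ q = 1) : IsDia (dia hF a ha) := rfl

/-- automorphisms fixing the torus are monomial semilinear -/
theorem exists_semi_of_trace (hq : 3 ≤ q) (α : MulAut (Cfsg.SU 2 F q)) (hα : ∀ x, IsDia x → IsDia (α x))
    (htrace : ∃ σ : F ≃+* F, ∀ x, Matrix.trace (α x).1.1 = σ (Matrix.trace x.1.1)) :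
    ∃ (σ : F ≃+* F) (l : F), l * l ^ q = 1 ∧
      ∀ x, (α x).1.1 0 0 = σ (x.1.1 0 0) ∧ (α x).1.1 1 0 = l * σ (x.1.1 1 0) := by
  classical
  have hq0 : q ≠ 0 := by omega
  have hinv : ∀ x : F, (x ^ q) ^ q = x := fun x => by
    have := (powHom_isInvol hF).invol x
    rwa [powHom_apply, powHom_apply] at this
  obtain ⟨σ₀, hσ₀⟩ := htrace
  have htr : ∀ x : Cfsg.SU 2 F q, Matrix.trace x.1.1 = x.1.1 0 0 + (x.1.1 0 0) ^ q := fun x => by
    rw [Matrix.trace_fin_two, (su2_entries hF x).2.2]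
  -- the torus
  let T : Subgroup (Cfsg.SU 2 F q) :=
    { carrier := {x | IsDia x}
      one_mem' := by simp [IsDia]
      mul_mem' := fun {x y} hx hy => by
        simp only [Set.mem_ofPred_eq, IsDia] at *
        show (x.1.1 * y.1.1) 1 0 = 0
        simp [Matrix.mul_apply, Fin.sum_univ_two, hx, hy]
      inv_mem' := fun {x} hx => by
        simp only [Set.mem_ofPred_eq, IsDia] at *
        show (x⁻¹ : Cfsg.SU 2 F q).1.1 1 0 = 0
        simp [Matrix.SpecialLinearGroup.coe_inv, Matrix.adjugate_fin_two, hx] }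
  let c00 : T →* F :=
    { toFun := fun x => x.1.1.1 0 0
      map_one' := by simp
      map_mul' := fun x y => by
        have hy : y.1.1.1 1 0 = 0 := y.2
        show (x.1.1.1 * y.1.1.1) 0 0 = _
        simp [Matrix.mul_apply, Fin.sum_univ_two, hy] }
  have hc00 : Function.Injective c00 := fun x y e => Subtype.ext (by
    rw [su2_eta hF x.1, su2_eta hF y.1]
    exact su2_congr hF _ _ e ((x.2 : x.1.1.1 1 0 = 0).trans (y.2 : y.1.1.1 1 0 = 0).symm))
  have : IsCyclic T := isCyclic_of_injective_ringHom c00 hc00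
  obtain ⟨g, hg⟩ := IsCyclic.exists_generator (α := T)
  have hnorm : ∀ x : Cfsg.SU 2 F q, IsDia x → x.1.1 0 0 * (x.1.1 0 0) ^ q = 1 := fun x hx => by
    have := (su2_entries hF x).1
    rwa [show x.1.1 1 0 = 0 from hx, zero_mul, add_zero] at this
  obtain ⟨a₀, ha₀⟩ : ∃ a, a = g.1.1.1 0 0 := ⟨_, rfl⟩
  have hne : a₀ ≠ a₀ ^ q := by
    intro e
    obtain ⟨s, hs⟩ := exists_fixed_ne hF (by omega)
    obtain ⟨θ, hθ0, hθ⟩ := (powHom_isInvol hF).exists_skew
    -- all norm one elements would be fixed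
    have hall : ∀ a : F, a * a ^ q = 1 → a ^ q = a := fun a ha => by
      obtain ⟨k, hk⟩ := Subgroup.mem_zpowers_iff.1 (hg ⟨dia hF a ha, isDia_dia hF a ha⟩)
      have h1 : a = a₀ ^ k := by
        have := congrArg c00 hk
        have h2 : c00 ⟨dia hF a ha, isDia_dia hF a ha⟩ = a := by simp [c00, dia, su2]
        rw [h2] at this
        have h3 : c00 (g ^ k) = (c00 g) ^ k := by
          have hu : IsUnit (c00 g) := (Group.isUnit g).map c00
          obtain ⟨u, hu⟩ := hu
          have := map_zpow (c00.toHomUnits) g k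
          have e1 := congrArg Units.val this
          rw [MonoidHom.coe_toHomUnits, Units.val_zpow_eq_zpow_val, MonoidHom.coe_toHomUnits] at e1
          exact e1
        rw [← this, h3, ha₀]
        rfl
      rw [h1, ← powHom_apply hF, map_zpow₀, powHom_apply, ← e]
    have h1 : Nat.card {a : F // a * powHom hF a = 1} = q + 1 := by
      have := (powHom_isInvol hF).card_norm_fibre (μ := (1 : F)) one_ne_zero (map_one _)
      rwa [card_fixed_powHom hF] at this
    have h2 : Nat.card {a : F // a * powHom hF a = 1} ≤ Nat.card (fixedSub (powHom hF)) :=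
      Nat.card_le_card_of_injective (fun a => (⟨a.1, hall a.1 a.2⟩ : fixedSub (powHom hF))) fun a b e =>
        Subtype.ext (congrArg (fun z : fixedSub (powHom hF) => (z : F)) e)
    rw [card_fixed_powHom hF] at h2
    omega
  have hg2 : IsDia g.1 := g.2
  obtain ⟨a₁, ha₁⟩ : ∃ a, a = (α g.1).1.1 0 0 := ⟨_, rfl⟩
  have hcase : a₁ = σ₀ a₀ ∨ a₁ = σ₀ (a₀ ^ q) := by
    have h1 := hσ₀ g.1
    rw [htr, htr, ← ha₁, ← ha₀, map_add] at h1
    have n1 := hnorm _ (hα _ hg2)
    rw [← ha₁] at n1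
    have n0 := congrArg σ₀ (hnorm _ hg2)
    rw [← ha₀, map_mul, map_one] at n0
    have : (a₁ - σ₀ a₀) * (a₁ - σ₀ (a₀ ^ q)) = 0 := by linear_combination a₁ * h1 - n1 + n0
    exact (mul_eq_zero.1 this).imp sub_eq_zero.1 sub_eq_zero.1
  obtain ⟨σ, hσ, hσa⟩ : ∃ σ : F ≃+* F, (∀ x, Matrix.trace (α x).1.1 = σ (Matrix.trace x.1.1)) ∧ a₁ = σ a₀ := by
    rcases hcase with h | h
    · exact ⟨σ₀, hσ₀, h⟩
    · refine ⟨(RingEquiv.ofBijective (powHom hF) ⟨(powHom hF).injective,
        Finite.surjective_of_injective (powHom hF).injective⟩).trans σ₀, fun x => ?_, h⟩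
      rw [hσ₀, htr]
      show σ₀ _ = σ₀ (powHom hF (x.1.1 0 0 + (x.1.1 0 0) ^ q))
      rw [map_add (powHom hF), powHom_apply, powHom_apply, hinv, add_comm]
  have hαdia : ∀ x : Cfsg.SU 2 F q, IsDia x → (α x).1.1 0 0 = σ (x.1.1 0 0) := by
    intro x hx
    obtain ⟨k, hk⟩ := Subgroup.mem_zpowers_iff.1 (hg ⟨x, hx⟩)
    obtain ⟨m, hm⟩ : ∃ m : ℕ, g ^ m = (⟨x, hx⟩ : T) := by
      have : (⟨x, hx⟩ : T) ∈ Submonoid.powers g :=
        mem_powers_iff_mem_zpowers.2 (Subgroup.mem_zpowers_iff.2 ⟨k, hk⟩)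
      exact Submonoid.mem_powers_iff _ _ |>.1 this
    have e1 : x.1.1 0 0 = a₀ ^ m := by
      have := congrArg c00 hm
      rw [map_pow] at this
      rw [ha₀]
      exact this.symm
    have e2 : ∀ j : ℕ, ∀ h : IsDia (α (g.1 ^ j)), (α (g.1 ^ j)).1.1 0 0 = a₁ ^ j := fun j h => by
      have := map_pow c00 (⟨α g.1, hα _ hg2⟩ : T) j
      rw [map_pow α]
      rw [ha₁]
      exact this
    have hxg : g.1 ^ m = x := by
      have := congrArg Subtype.val hm
      simpa using this
    rw [← hxg, e2 m (by rw [hxg]; exact hα x hx), hxg, e1, map_pow, hσa]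
  -- a skew-linear equation with two independent solutions
  have key : ∀ z : F, (∀ c : F, c * c ^ q = 1 → z * σ c + (z * σ c) ^ q = 0) → z = 0 := by
    intro z hz
    have h1 := hz 1 (by simp)
    have h2 := hz a₀ (by rw [ha₀]; exact hnorm _ hg2)
    rw [map_one, mul_one] at h1
    rw [mul_pow, ← map_pow σ] at h2
    have : z * (σ a₀ - σ (a₀ ^ q)) = 0 := by linear_combination h2 - σ (a₀ ^ q) * h1
    exact (mul_eq_zero.1 this).resolve_right (sub_ne_zero.2 fun e => hne (σ.injective e))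
  have hsplit : ∀ u v : F, u + u ^ q = v + v ^ q → (u - v) + (u - v) ^ q = 0 := fun u v h => by
    rw [← powHom_apply hF (u - v), map_sub, powHom_apply, powHom_apply]
    linear_combination h
  have h00 : ∀ x, (α x).1.1 0 0 = σ (x.1.1 0 0) := fun x => by
    refine sub_eq_zero.1 (key _ fun c hc => ?_)
    have h1 := hσ (x * dia hF c hc)
    rw [map_mul, htr, htr, map_add, map_pow] at h1
    have hd : IsDia (α (dia hF c hc)) := hα _ (isDia_dia hF c hc)
    have e1 : (α x * α (dia hF c hc)).1.1 0 0 = (α x).1.1 0 0 * σ c := by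
      show ((α x).1.1 * (α (dia hF c hc)).1.1) 0 0 = _
      rw [Matrix.mul_apply, Fin.sum_univ_two, show (α (dia hF c hc)).1.1 1 0 = 0 from hd,
        hαdia _ (isDia_dia hF c hc)]
      simp [dia, su2]
    have e2 : (x * dia hF c hc).1.1 0 0 = x.1.1 0 0 * c := by
      show (x.1.1 * (dia hF c hc).1.1) 0 0 = _
      simp [Matrix.mul_apply, Fin.sum_univ_two, dia, su2]
    rw [e1, e2, map_mul] at h1
    rw [sub_mul]
    exact hsplit _ _ h1
  obtain ⟨l, hl⟩ : ∃ l, l = (α (rot hF)).1.1 1 0 := ⟨_, rfl⟩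
  have hl1 : l * l ^ q = 1 := by
    have := (su2_entries hF (α (rot hF))).1
    rw [h00, ← hl] at this
    simpa [rot, su2, hq0] using this
  refine ⟨σ, l, hl1, fun x => ⟨h00 x, ?_⟩⟩
  obtain ⟨w, hw⟩ : ∃ w, w = (α x).1.1 1 0 := ⟨_, rfl⟩
  suffices hz : w ^ q * l - σ ((x.1.1 1 0) ^ q) = 0 by
    have h1 := congrArg (powHom hF) (sub_eq_zero.1 hz)
    rw [powHom_apply, powHom_apply, mul_pow, hinv, ← map_pow σ, hinv] at h1
    rw [← hw]
    linear_combination l * h1 - w * hl1
  refine key _ fun c hc => ?_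
  have h1 := h00 (x * (rot hF * dia hF c hc))
  obtain ⟨-, k01, -⟩ := su2_entries hF (α x)
  obtain ⟨-, k01', -⟩ := su2_entries hF x
  have hd : IsDia (α (dia hF c hc)) := hα _ (isDia_dia hF c hc)
  have hr : (α (rot hF)).1.1 0 0 = 0 := by rw [h00]; simp [rot, su2]
  have r1 : ∀ y z : Cfsg.SU 2 F q, (y * z).1.1 0 0 = y.1.1 0 0 * z.1.1 0 0 + y.1.1 0 1 * z.1.1 1 0 :=
    fun y z => by show (y.1.1 * z.1.1) 0 0 = _; rw [Matrix.mul_apply, Fin.sum_univ_two]
  have r2 : ∀ y z : Cfsg.SU 2 F q, (y * z).1.1 1 0 = y.1.1 1 0 * z.1.1 0 0 + y.1.1 1 1 * z.1.1 1 0 :=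
    fun y z => by show (y.1.1 * z.1.1) 1 0 = _; rw [Matrix.mul_apply, Fin.sum_univ_two]
  rw [map_mul, map_mul, r1, r1, r1, r1, r2, r2, hr, show (α (dia hF c hc)).1.1 1 0 = 0 from hd,
    hαdia _ (isDia_dia hF c hc), k01, k01', h00, ← hl, ← hw] at h1
  simp [rot, dia, su2, hq0] at h1
  have h2 : w ^ q * l * σ c - σ ((x.1.1 1 0) ^ q) * σ c = 0 := by
    rw [map_pow σ]; linear_combination h1
  rw [sub_mul, h2]
  simp [hq0]

/-- for three elements in the fixed field the traces are kept -/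
theorem trace_three (hq : q = 3) (α : MulAut (Cfsg.SU 2 F q)) (hα : ∀ x, IsDia x → IsDia (α x)) :
    ∀ x, Matrix.trace (α x).1.1 = Matrix.trace x.1.1 := by
  classical
  have h3 : (3 : F) = 0 := by
    obtain ⟨p, hp⟩ := CharP.exists F
    have := hp
    obtain ⟨k, hpp, hk⟩ := FiniteField.card F p
    have hd : p ∣ 3 ^ 2 := by
      rw [show (3 : ℕ) ^ 2 = Fintype.card F by rw [hF, hq], hk]
      exact dvd_pow_self p k.ne_zero
    have hp3 : p = 3 := (Nat.prime_dvd_prime_iff_eq hpp Nat.prime_three).1 (hpp.dvd_of_dvd_pow hd)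
    subst hp3
    exact_mod_cast CharP.cast_eq_zero F 3
  have h2 : (2 : F) ≠ 0 := fun e => one_ne_zero (show (1 : F) = 0 by linear_combination h3 - e)
  have htfix : ∀ x : Cfsg.SU 2 F q,
      Matrix.trace x.1.1 = 0 ∨ Matrix.trace x.1.1 = 1 ∨ Matrix.trace x.1.1 = -1 := by
    intro x
    obtain ⟨t, ht⟩ : ∃ t, t = Matrix.trace x.1.1 := ⟨_, rfl⟩
    have hfix : powHom hF t = t := by
      rw [ht, Matrix.trace_fin_two, (su2_entries hF x).2.2, map_add, powHom_apply, powHom_apply]
      have := (powHom_isInvol hF).invol (x.1.1 0 0)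
      rw [powHom_apply, powHom_apply] at this
      rw [this, add_comm]
    rw [powHom_apply, hq] at hfix
    have h0 : t * ((t - 1) * (t + 1)) = 0 := by linear_combination hfix
    rw [← ht]
    rcases mul_eq_zero.1 h0 with h | h
    · exact Or.inl h
    · exact Or.inr ((mul_eq_zero.1 h).imp sub_eq_zero.1 eq_neg_of_add_eq_zero_left)
  have hsq : ∀ x : Cfsg.SU 2 F q, x.1.1 * x.1.1 = Matrix.trace x.1.1 • x.1.1 - 1 := by
    intro x
    have hd := x.1.2
    rw [Matrix.det_fin_two] at hd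
    ext i j
    fin_cases i <;> fin_cases j <;> simp [Matrix.mul_apply, Fin.sum_univ_two, Matrix.trace_fin_two]
    · linear_combination -hd
    · ring
    · ring
    · linear_combination -hd
  obtain ⟨n, hn⟩ : ∃ n : Cfsg.SU 2 F q, n = negOne hF := ⟨_, rfl⟩
  have hq0 : q ≠ 0 := by omega
  have hneg : (-1 : F) ^ q = -1 := by rw [← powHom_apply hF, map_neg, map_one]
  have hnM : n.1.1 = -1 := by
    rw [hn]
    ext i j
    fin_cases i <;> fin_cases j <;> simp [negOne, su2, hneg, hq0]
  have hαn : α n = n := by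
    have hd : IsDia (α n) := hα n (by simp [IsDia, hnM])
    have hnn : n * n = 1 := Subtype.ext (Subtype.ext (show n.1.1 * n.1.1 = 1 by rw [hnM]; simp))
    have h1 : α n * α n = 1 := by rw [← map_mul, hnn, map_one]
    have e00 := congrArg (fun k : Cfsg.SU 2 F q => k.1.1 0 0) h1
    change ((α n).1.1 * (α n).1.1) 0 0 = (1 : Matrix (Fin 2) (Fin 2) F) 0 0 at e00
    simp [Matrix.mul_apply, Fin.sum_univ_two, show (α n).1.1 1 0 = 0 from hd] at e00
    rcases mul_self_eq_one_iff.1 e00 with h | h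
    · refine absurd ?_ h2
      have : α n = 1 := by
        rw [su2_eta hF (α n)]
        refine Subtype.ext (Subtype.ext ?_)
        ext i j
        fin_cases i <;> fin_cases j <;> simp [su2_val, h, show (α n).1.1 1 0 = 0 from hd, hq0]
      have hn1 : n = 1 := α.injective (this.trans (map_one α).symm)
      have e : (-1 : F) = 1 := by
        have := congrArg (fun k : Cfsg.SU 2 F q => k.1.1 0 0) hn1
        simpa [hnM] using this
      linear_combination -e
    · rw [su2_eta hF (α n)]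
      exact (su2_congr hF _ _ h hd).trans hn.symm
  have h0iff : ∀ x : Cfsg.SU 2 F q, x * x = n ↔ Matrix.trace x.1.1 = 0 := fun x => by
    constructor
    · intro e
      have e' : x.1.1 * x.1.1 = -1 := (congrArg (fun k : Cfsg.SU 2 F q => k.1.1) e).trans hnM
      rw [hsq] at e'
      by_contra ht
      have hx0 : x.1.1 = 0 := (smul_eq_zero.1 (show Matrix.trace x.1.1 • x.1.1 = 0 by
        rw [sub_eq_iff_eq_add, neg_add_cancel] at e'; exact e')).resolve_left ht
      have hd := x.1.2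
      rw [hx0] at hd
      simp at hd
    · intro e
      refine Subtype.ext (Subtype.ext ?_)
      show x.1.1 * x.1.1 = n.1.1
      rw [hsq, e, zero_smul, zero_sub, hnM]
  have hcube : ∀ x : Cfsg.SU 2 F q, x.1.1 * (x.1.1 * x.1.1) =
      (Matrix.trace x.1.1 * Matrix.trace x.1.1 - 1) • x.1.1 - Matrix.trace x.1.1 • 1 := fun x => by
    rw [hsq, Matrix.mul_sub, Matrix.mul_smul, hsq, Matrix.mul_one, smul_sub, smul_smul, sub_smul, one_smul]
    abel
  have hm1iff : ∀ x : Cfsg.SU 2 F q, x * (x * x) = 1 ↔ Matrix.trace x.1.1 = -1 := fun x => by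
    constructor
    · intro e
      have e' : x.1.1 * (x.1.1 * x.1.1) = 1 := congrArg (fun k : Cfsg.SU 2 F q => k.1.1) e
      rw [hcube] at e'
      have a00 := congrFun (congrFun e' 0) 0
      have a11 := congrFun (congrFun e' 1) 1
      simp at a00 a11
      rcases htfix x with ht | ht | ht
      · rw [ht] at a00 a11
        simp at a00 a11
        have ht' := ht
        rw [Matrix.trace_fin_two] at ht'
        exact absurd (show (2 : F) = 0 by linear_combination -a00 - a11 - ht') h2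
      · rw [ht] at a00
        simp at a00
        exact absurd (show (2 : F) = 0 by linear_combination -a00) h2
      · exact ht
    · intro e
      refine Subtype.ext (Subtype.ext ?_)
      show x.1.1 * (x.1.1 * x.1.1) = 1
      rw [hcube, e]
      simp
  intro x
  have k0 : Matrix.trace (α x).1.1 = 0 ↔ Matrix.trace x.1.1 = 0 := by
    rw [← h0iff, ← h0iff, ← map_mul]
    nth_rewrite 1 [← hαn]
    exact α.injective.eq_iff
  have km : Matrix.trace (α x).1.1 = -1 ↔ Matrix.trace x.1.1 = -1 := by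
    rw [← hm1iff, ← hm1iff, ← map_mul, ← map_mul]
    nth_rewrite 1 [← map_one α]
    exact α.injective.eq_iff
  rcases htfix x with h | h | h
  · rw [h, k0.2 h]
  · rw [h]
    rcases htfix (α x) with h' | h' | h'
    · exact absurd (h.symm.trans (k0.1 h')) one_ne_zero
    · exact h'
    · exact absurd (show (2 : F) = 0 by linear_combination h.symm.trans (km.1 h')) h2
  · rw [h, km.2 h]

/-- automorphisms fixing the torus are monomial semilinear -/
theorem exists_semi (hq : 3 ≤ q) (α : MulAut (Cfsg.SU 2 F q)) (hα : ∀ x, IsDia x → IsDia (α x)) :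
    ∃ (σ : F ≃+* F) (l : F), l * l ^ q = 1 ∧
      ∀ x, (α x).1.1 0 0 = σ (x.1.1 0 0) ∧ (α x).1.1 1 0 = l * σ (x.1.1 1 0) := by
  refine exists_semi_of_trace hF hq α hα ?_
  rcases Nat.lt_or_ge q 4 with h | h
  · exact ⟨RingEquiv.refl F, trace_three hF (by omega) α hα⟩
  · exact exists_trace_semilinear hF h α

end CfsgLib.Phan
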