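import Cfsg.Prelude.Def_PhanSystems
import Cfsg.Agent.Lib.Recog.Phan.Torus
import Cfsg.Agent.Lib.Recog.Phan.Extend

/-!
# Standard pairs and their adjustment along a chain
-/

set_option autoImplicit false

namespace CfsgLib.Phan

open CfsgLib.Classical CfsgLib.Classical.Herm CfsgLib.Known.SUBounded

universe u w

variable {F : Type u} [Field F] {q : ℕ} {G : Type w} [Group G]

/-- the upper block -/
abbrev bup : Cfsg.SU 2 F q →* Cfsg.SU 3 F q := blkAt 0 (by omega)

/-- the lower block -/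
abbrev blo : Cfsg.SU 2 F q →* Cfsg.SU 3 F q := blkAt 1 (by omega)

theorem bup_val (x : Cfsg.SU 2 F q) :
    (bup x).1.1 = !![x.1.1 0 0, x.1.1 0 1, 0; x.1.1 1 0, x.1.1 1 1, 0; 0, 0, 1] := by
  show blkMat _ x.1.1 = _
  ext i j
  fin_cases i <;> fin_cases j <;>
    simp [blkMat, pm, sh_val, Matrix.mul_apply, Fin.sum_univ_two, Fin.ext_iff, Matrix.one_apply]

theorem blo_val (x : Cfsg.SU 2 F q) :
    (blo x).1.1 = !![1, 0, 0; 0, x.1.1 0 0, x.1.1 0 1; 0, x.1.1 1 0, x.1.1 1 1] := by
  rw [show blo x = emb 2 x from (emb_eq x).symm]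
  show Known.SpBounded.pad 1 x.1.1 = _
  ext i j
  fin_cases i <;> fin_cases j <;> rfl

/-- a homomorphism of `SU 3` carrying the two blocks onto `A` and `B`, with central kernel -/
structure Edge (φ : Cfsg.SU 3 F q →* G) (V A B : Subgroup G) : Prop where
  range : φ.range = V
  up : (φ.comp bup).range = A
  lo : (φ.comp blo).range = B
  ker : φ.ker ≤ Subgroup.center (Cfsg.SU 3 F q)

variable [Fintype F] (hF : Fintype.card F = q ^ 2)
include hF

theorem suBlock_upper : Cfsg.suBlock 3 F q {0, 1} = (bup : Cfsg.SU 2 F q →* _).range := by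
  refine le_antisymm ((Subgroup.closure_le _).2 fun A hA => ?_) ?_
  · obtain ⟨h22, hoff⟩ := hA 2 (by simp)
    obtain ⟨r20, c02⟩ := hoff 0 (by decide)
    obtain ⟨r21, c12⟩ := hoff 1 (by decide)
    obtain ⟨M, hM⟩ : ∃ M : Matrix (Fin 2) (Fin 2) F, M = !![A.1.1 0 0, A.1.1 0 1; A.1.1 1 0, A.1.1 1 1] := ⟨_, rfl⟩
    have hd : M.det = 1 := by
      have := A.1.2
      rw [Matrix.det_fin_three, h22, r20, c02, r21, c12] at this
      rw [hM, Matrix.det_fin_two_of]
      linear_combination this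
    have hq : q ≠ 0 := by have := two_le_of_card_sq hF; omega
    refine ⟨⟨⟨M, hd⟩, fun u v => ?_⟩, Subtype.ext (Subtype.ext ?_)⟩
    · have h1 := A.2 ![u 0, u 1, 0] ![v 0, v 1, 0]
      change Cfsg.hermForm 3 F q (A.1.1.mulVec _) (A.1.1.mulVec _) = _ at h1
      show Cfsg.hermForm 2 F q (M.mulVec u) (M.mulVec v) = _
      simp [Cfsg.hermForm, Fin.sum_univ_three, Fin.sum_univ_two, Matrix.mulVec, dotProduct, hM, r20, r21, hq]
        at h1 ⊢
      exact h1
    · rw [bup_val]
      ext i j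
      fin_cases i <;> fin_cases j <;> simp [hM, h22, r20, c02, r21, c12]
  · rintro _ ⟨x, rfl⟩
    refine Subgroup.subset_closure fun k hk => ?_
    rw [bup_val]
    fin_cases k <;> simp at hk
    exact ⟨by simp, fun l hl => by fin_cases l <;> simp at hl ⊢⟩

theorem suBlock_lower : Cfsg.suBlock 3 F q {1, 2} = (blo : Cfsg.SU 2 F q →* _).range := by
  refine le_antisymm ((Subgroup.closure_le _).2 fun A hA => ?_) ?_
  · obtain ⟨h00, hoff⟩ := hA 0 (by simp)
    obtain ⟨x, hx⟩ := exists_emb hF (k := 2) (g := A) (by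
      funext i
      fin_cases i
      · simpa [act, std, Matrix.mulVec_single] using h00
      · simpa [act, std, Matrix.mulVec_single] using (hoff 1 (by decide)).2
      · simpa [act, std, Matrix.mulVec_single] using (hoff 2 (by decide)).2)
    exact ⟨x, by rw [← hx, emb_eq]⟩
  · rintro _ ⟨x, rfl⟩
    refine Subgroup.subset_closure fun k hk => ?_
    rw [blo_val]
    fin_cases k <;> simp at hk
    exact ⟨by simp, fun l hl => by fin_cases l <;> simp at hl ⊢⟩

/-- standard pairs come from homomorphisms -/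
theorem exists_edge {V A B : Subgroup G} (h : Cfsg.IsStandardUnitaryPair V A B F q) :
    ∃ φ : Cfsg.SU 3 F q →* G, Edge φ V A B := by
  rcases h with ⟨e, hA, hB⟩ | ⟨e, hA, hB⟩
  · refine ⟨V.subtype.comp e.toMonoidHom, ?_, ?_, ?_, ?_⟩
    · rw [MonoidHom.range_comp, MonoidHom.range_eq_top.2 e.surjective, ← MonoidHom.range_eq_map,
        Subgroup.range_subtype]
    · rw [MonoidHom.range_comp, ← suBlock_upper hF, hA]
    · rw [MonoidHom.range_comp, ← suBlock_lower hF, hB]
    · intro x hx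
      have : e x = 1 := Subtype.ext hx
      rw [show x = 1 from e.injective (this.trans (map_one e).symm)]
      exact one_mem _
  · refine ⟨V.subtype.comp (e.toMonoidHom.comp (QuotientGroup.mk' _)), ?_, ?_, ?_, ?_⟩
    · rw [MonoidHom.range_comp, MonoidHom.range_eq_top.2 (e.surjective.comp (QuotientGroup.mk'_surjective _)),
        ← MonoidHom.range_eq_map, Subgroup.range_subtype]
    · rw [MonoidHom.range_comp, ← suBlock_upper hF, hA]
    · rw [MonoidHom.range_comp, ← suBlock_lower hF, hB]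
    · intro x hx
      have : e (QuotientGroup.mk' _ x) = 1 := Subtype.ext hx
      exact (QuotientGroup.eq_one_iff x).1 (e.injective (this.trans (map_one e).symm))

theorem exists_dia_ne (hq : 3 ≤ q) : ∃ a : F, a * a ^ q = 1 ∧ a ≠ 1 ∧ a ≠ a ^ q := by
  classical
  by_contra hc
  push Not at hc
  have h1 : Nat.card {a : F // a * powHom hF a = 1} = q + 1 := by
    have := (powHom_isInvol hF).card_norm_fibre (μ := (1 : F)) one_ne_zero (map_one _)
    rwa [card_fixed_powHom hF] at this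
  rw [Nat.card_eq_fintype_card, Fintype.card_subtype] at h1
  have hsub : (Finset.univ.filter fun a : F => a * powHom hF a = 1) ⊆ {1, -1} := fun a ha => by
    rw [Finset.mem_filter, powHom_apply] at ha
    rw [Finset.mem_insert, Finset.mem_singleton]
    by_cases h0 : a = 1
    · exact Or.inl h0
    · right
      have h2 := hc a ha.2 h0
      have h3 : (a - 1) * (a + 1) = 0 := by linear_combination ha.2 + a * h2
      exact eq_neg_of_add_eq_zero_left ((mul_eq_zero.1 h3).resolve_left (sub_ne_zero.2 h0))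
  have h2 := Finset.card_le_card hsub
  have h3 : ({1, -1} : Finset F).card ≤ 2 := Finset.card_le_two
  omega

/-- a central element of `SU 3` is scalar on the coordinate vectors -/
theorem center_std (hq : 3 ≤ q) {z : Cfsg.SU 3 F q} (hz : z ∈ Subgroup.center (Cfsg.SU 3 F q)) (i : Fin 3) :
    ∃ c : F, act z (std i) = c • std i := by
  obtain ⟨a, ha, ha1, -⟩ := exists_dia_ne hF hq
  have key : ∀ g : Cfsg.SU 3 F q, act g (act z (std i)) = act z (act g (std i)) := fun g => by
    rw [← act_mul, ← act_mul, Subgroup.mem_center_iff.1 hz g]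
  refine ⟨act z (std i) i, funext fun j => ?_⟩
  obtain ⟨v, hv⟩ : ∃ v, v = act z (std i) := ⟨_, rfl⟩
  rw [← hv] at key ⊢
  have hb : a ^ q ≠ 1 := fun e => ha1 (by rw [e, mul_one] at ha; exact ha)
  have e1 : ∀ (g : Cfsg.SU 3 F q) (k : Fin 3), act g (std i) = std i → act g v k = v k := fun g k hg => by
    rw [key g, hg, ← hv]
  have hkill : ∀ b : F, b ≠ 1 → ∀ w : F, b * w = w → w = 0 := fun b hb w hw =>
    (mul_eq_zero.1 (show (b - 1) * w = 0 by linear_combination hw)).resolve_left (sub_ne_zero.2 hb)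
  fin_cases i
  · have hg : act (blo (dia hF a ha)) (std 0) = std 0 := blkAt_fix _ _ (Or.inl (by simp))
    have k1 := e1 _ 1 hg
    have k2 := e1 _ 2 hg
    simp [act, blo_val, dia, su2, Matrix.mulVec, dotProduct, Fin.sum_univ_three, show q ≠ 0 by omega] at k1 k2
    fin_cases j
    · simp [std]
    · simpa [std] using hkill a ha1 _ k1
    · simpa [std] using hkill _ hb _ k2
  · have hg : act (bup (dia hF a ha) * (blo (dia hF a ha))) (std 1) = std 1 := by
      funext k
      fin_cases k <;>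
        simp [act_mul, act, bup_val, blo_val, dia, su2, Matrix.mulVec, dotProduct, Fin.sum_univ_three, std,
          show q ≠ 0 by omega]
      linear_combination ha
    have k1 := e1 _ 0 hg
    have k2 := e1 _ 2 hg
    simp [act_mul, act, bup_val, blo_val, dia, su2, Matrix.mulVec, dotProduct, Fin.sum_univ_three,
      show q ≠ 0 by omega] at k1 k2
    fin_cases j
    · simpa [std] using hkill a ha1 _ k1
    · simp [std]
    · simpa [std] using hkill _ hb _ k2
  · have hg : act (bup (dia hF a ha)) (std 2) = std 2 := blkAt_fix _ _ (Or.inr (by simp))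
    have k1 := e1 _ 0 hg
    have k2 := e1 _ 1 hg
    simp [act, bup_val, dia, su2, Matrix.mulVec, dotProduct, Fin.sum_univ_three, show q ≠ 0 by omega] at k1 k2
    fin_cases j
    · simpa [std] using hkill a ha1 _ k1
    · simpa [std] using hkill _ hb _ k2
    · simp [std]

theorem Edge.injective (hq : 3 ≤ q) {φ : Cfsg.SU 3 F q →* G} {V A B : Subgroup G} (h : Edge φ V A B) :
    Function.Injective (φ.comp bup) ∧ Function.Injective (φ.comp blo) := by
  have hq0 : q ≠ 0 := by omega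
  refine ⟨(injective_iff_map_eq_one _).2 fun x hx => ?_, (injective_iff_map_eq_one _).2 fun x hx => ?_⟩
  · have hz := h.ker (show bup x ∈ φ.ker from hx)
    obtain ⟨c, hc⟩ := center_std hF hq hz 0
    have h2 := Subgroup.mem_center_iff.1 hz (blo (rot hF))
    have h10 := congrFun hc 1
    have h11 := congrArg (fun g : Cfsg.SU 3 F q => g.1.1 1 2) h2
    change ((blo (rot hF)).1.1 * (bup x).1.1) 1 2 = ((bup x).1.1 * (blo (rot hF)).1.1) 1 2 at h11
    simp [act, std, Matrix.mulVec_single, bup_val] at h10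
    simp [bup_val, blo_val, rot, su2, Matrix.mul_apply, Fin.sum_univ_three, hq0] at h11
    obtain ⟨-, -, e11⟩ := su2_entries hF x
    rw [e11] at h11
    have h00 : x.1.1 0 0 = 1 := by
      have e := congrArg (powHom hF) h11
      rw [map_one, powHom_apply] at e
      have := (powHom_isInvol hF).invol (x.1.1 0 0)
      rw [powHom_apply, powHom_apply] at this
      exact this.symm.trans e.symm
    rw [su2_eta hF x]
    refine Subtype.ext (Subtype.ext ?_)
    ext i j
    fin_cases i <;> fin_cases j <;> simp [su2_val, h00, h10, hq0]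
  · have hz := h.ker (show blo x ∈ φ.ker from hx)
    obtain ⟨c, hc⟩ := center_std hF hq hz 1
    have h2 := Subgroup.mem_center_iff.1 hz (bup (rot hF))
    have h10 := congrFun hc 2
    have h11 := congrArg (fun g : Cfsg.SU 3 F q => g.1.1 1 0) h2
    change ((bup (rot hF)).1.1 * (blo x).1.1) 1 0 = ((blo x).1.1 * (bup (rot hF)).1.1) 1 0 at h11
    simp [act, std, Matrix.mulVec_single, blo_val] at h10
    simp [bup_val, blo_val, rot, su2, Matrix.mul_apply, Fin.sum_univ_three, hq0] at h11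
    rw [su2_eta hF x]
    refine Subtype.ext (Subtype.ext ?_)
    ext i j
    fin_cases i <;> fin_cases j <;> simp [su2_val, ← h11, h10, hq0]

omit [Fintype F] hF in
theorem Edge.left_le {φ : Cfsg.SU 3 F q →* G} {V A B : Subgroup G} (h : Edge φ V A B) : A ≤ V ∧ B ≤ V := by
  constructor
  · rw [← h.up, ← h.range]; rintro _ ⟨x, rfl⟩; exact ⟨bup x, rfl⟩
  · rw [← h.lo, ← h.range]; rintro _ ⟨x, rfl⟩; exact ⟨blo x, rfl⟩

/-- conjugation of the upper block by a diagonal element of the lower -/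
theorem blo_bup {a : F} (ha : a * a ^ q = 1) (x : Cfsg.SU 2 F q) :
    ∃ x' : Cfsg.SU 2 F q, x'.1.1 0 0 = x.1.1 0 0 ∧ x'.1.1 1 0 = a * x.1.1 1 0 ∧
      blo (dia hF a ha) * bup x = bup x' * blo (dia hF a ha) := by
  obtain ⟨h00, h01, h11⟩ := su2_entries hF x
  have hq0 : q ≠ 0 := by have := two_le_of_card_sq hF; omega
  refine ⟨su2 hF (x.1.1 0 0) (a * x.1.1 1 0) (by rw [mul_pow]; linear_combination h00 + (x.1.1 1 0 * (x.1.1 1 0) ^ q) * ha),
    rfl, rfl, Subtype.ext (Subtype.ext ?_)⟩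
  show (blo (dia hF a ha)).1.1 * (bup x).1.1 = (bup _).1.1 * (blo (dia hF a ha)).1.1
  rw [bup_val, bup_val, blo_val]
  ext i j
  fin_cases i <;> fin_cases j <;>
    simp [dia, su2, Matrix.mul_apply, Fin.sum_univ_three, hq0, h01, h11, mul_pow, mul_comm] <;>
    linear_combination (-((x.1.1 1 0) ^ q)) * ha

/-- `g` maps `W` into itself -/
def Nrm (W : Subgroup G) (g : G) : Prop := ∀ u ∈ W, g * u * g⁻¹ ∈ W

theorem Edge.nrm_dia {φ : Cfsg.SU 3 F q →* G} {V A B : Subgroup G} (h : Edge φ V A B) {x : Cfsg.SU 2 F q}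
    (hx : IsDia x) : Nrm A (φ (blo x)) := by
  rw [← h.up]
  rintro _ ⟨z, rfl⟩
  have ha := (su2_entries hF x).1
  rw [show x.1.1 1 0 = 0 from hx, zero_mul, add_zero] at ha
  obtain ⟨z', -, -, hz'⟩ := blo_bup hF ha z
  refine ⟨z', ?_⟩
  have e : x = dia hF (x.1.1 0 0) ha := by
    conv_lhs => rw [su2_eta hF x]
    exact su2_congr hF _ _ rfl hx
  rw [e, MonoidHom.comp_apply, MonoidHom.comp_apply, ← map_inv, ← map_mul, ← map_mul, hz', mul_inv_cancel_right]

theorem Edge.isDia_of_nrm (hq : 3 ≤ q) {φ : Cfsg.SU 3 F q →* G} {V A B : Subgroup G} (h : Edge φ V A B)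
    {x : Cfsg.SU 2 F q} (hx : Nrm A (φ (blo x))) : IsDia x := by
  have hq0 : q ≠ 0 := by omega
  obtain ⟨y', hy'⟩ : φ (blo x) * φ (bup (rot hF)) * (φ (blo x))⁻¹ ∈ (φ.comp bup).range :=
    h.up.symm ▸ hx _ (h.up ▸ ⟨rot hF, rfl⟩)
  obtain ⟨g, hg⟩ : ∃ g, g = (bup y')⁻¹ * (blo x * bup (rot hF) * (blo x)⁻¹) := ⟨_, rfl⟩
  have hgk : g ∈ φ.ker := by
    rw [MonoidHom.mem_ker, hg, map_mul, map_inv, map_mul, map_mul, map_inv, ← hy', MonoidHom.comp_apply,
      inv_mul_cancel]
  obtain ⟨c, hc⟩ := center_std hF hq (h.ker hgk) 2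
  obtain ⟨v, hv⟩ : ∃ v, v = act (blo x)⁻¹ (std 2) := ⟨_, rfl⟩
  have hsmul : ∀ (k : Cfsg.SU 3 F q) (s : F) (w : Fin 3 → F), act k (s • w) = s • act k w :=
    fun k s w => Matrix.mulVec_smul k.1.1 s w
  have h2 : act (bup (rot hF)) v = c • v := by
    have e : bup (rot hF) * (blo x)⁻¹ = (blo x)⁻¹ * (bup y' * g) := by rw [hg]; group
    rw [hv, ← act_mul, e, act_mul, act_mul, hc, hsmul, blkAt_fix _ _ (Or.inr (by simp)), hsmul]
  have hv0 : v 0 = 0 := by
    rw [hv, ← map_inv]
    exact (blk_off (sh 1 (show 1 + 2 ≤ 3 by omega)) x⁻¹ (std 2) (i := 0) fun a e => by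
      have := congrArg Fin.val e
      simp [sh_val] at this).trans (by simp [std])
  have hv1 := congrFun h2 0
  simp [act, bup_val, rot, su2, Matrix.mulVec, dotProduct, Fin.sum_univ_three, hv0, hq0] at hv1
  have h3 : (x⁻¹ : Cfsg.SU 2 F q).1.1 0 1 = 0 := by
    have := congrFun hv 1
    rw [hv1, ← map_inv] at this
    simp [act, blo_val, std, Matrix.mulVec_single] at this
    simpa [Matrix.adjugate_fin_two] using this
  simp [Matrix.SpecialLinearGroup.coe_inv, Matrix.adjugate_fin_two] at h3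
  obtain ⟨-, h01, -⟩ := su2_entries hF x
  rw [h01, neg_eq_zero] at h3
  exact pow_eq_zero_iff hq0 |>.1 h3

/-- the automorphism of `SU 3` made of a field automorphism and a diagonal matrix -/
theorem exists_delta (σ : F ≃+* F) {l : F} (hl : l * l ^ q = 1) :
    ∃ δ : MulAut (Cfsg.SU 3 F q),
      (∀ x x' : Cfsg.SU 2 F q, x'.1.1 0 0 = σ (x.1.1 0 0) → x'.1.1 1 0 = l * σ (x.1.1 1 0) →
        δ (bup x) = bup x') ∧
      (∀ x, ∃ x', δ (blo x) = blo x') := by
  classical
  have hl0 : l ≠ 0 := left_ne_zero_of_mul_eq_one hl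
  have hσq : ∀ a : F, σ (a ^ q) = σ a ^ q := fun a => map_pow σ a q
  obtain ⟨d, hd⟩ : ∃ d : Fin 3 → F, d = ![1, l, 1] := ⟨_, rfl⟩
  have hd0 : ∀ i, d i ≠ 0 := fun i => by subst hd; fin_cases i <;> simp [hl0]
  have hdn : ∀ i, d i * d i ^ q = 1 := fun i => by subst hd; fin_cases i <;> simp [hl]
  let tw : Matrix (Fin 3) (Fin 3) F → Matrix (Fin 3) (Fin 3) F := fun M =>
    Matrix.of fun i j => d i * σ (M i j) / d j
  have hmul : ∀ M N, tw (M * N) = tw M * tw N := fun M N => by
    ext i j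
    simp only [tw, Matrix.of_apply, Matrix.mul_apply, map_sum, map_mul, Finset.mul_sum, Finset.sum_div]
    refine Finset.sum_congr rfl fun k _ => ?_
    field_simp [hd0 k]
  have hdet : ∀ M, (tw M).det = σ M.det := fun M => by
    simp only [Matrix.det_fin_three, tw, Matrix.of_apply, map_add, map_sub, map_mul]
    field_simp [hd0 0, hd0 1, hd0 2]
  have hvec : ∀ M (u : Fin 3 → F), (tw M).mulVec (fun i => d i * σ (u i)) = fun i => d i * σ (M.mulVec u i) := by
    intro M u
    funext i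
    simp only [Matrix.mulVec, dotProduct, tw, Matrix.of_apply, map_sum, map_mul, Finset.mul_sum]
    refine Finset.sum_congr rfl fun k _ => ?_
    field_simp [hd0 k]
  have hform : ∀ u v : Fin 3 → F, Cfsg.hermForm 3 F q (fun i => d i * σ (u i)) (fun i => d i * σ (v i)) =
      σ (Cfsg.hermForm 3 F q u v) := fun u v => by
    simp only [Cfsg.hermForm, map_sum, map_mul, hσq]
    refine Finset.sum_congr rfl fun i _ => ?_
    rw [mul_pow, mul_mul_mul_comm, hdn i, one_mul]
  have hmem : ∀ g : Cfsg.SU 3 F q, ∀ u v, Cfsg.hermForm 3 F q ((tw g.1.1).mulVec u) ((tw g.1.1).mulVec v) =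
      Cfsg.hermForm 3 F q u v := by
    intro g u v
    obtain ⟨u', rfl⟩ : ∃ u', u = fun i => d i * σ (u' i) :=
      ⟨fun i => σ.symm (u i / d i), funext fun i => by rw [σ.apply_symm_apply, mul_div_cancel₀ _ (hd0 i)]⟩
    obtain ⟨v', rfl⟩ : ∃ v', v = fun i => d i * σ (v' i) :=
      ⟨fun i => σ.symm (v i / d i), funext fun i => by rw [σ.apply_symm_apply, mul_div_cancel₀ _ (hd0 i)]⟩
    rw [hvec, hvec, hform, hform]
    exact congrArg σ (g.2 u' v')
  let δ₀ : Cfsg.SU 3 F q →* Cfsg.SU 3 F q :=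
    MonoidHom.mk' (fun g => ⟨⟨tw g.1.1, by rw [hdet, g.1.2, map_one]⟩, hmem g⟩)
      fun g h => Subtype.ext (Subtype.ext (hmul g.1.1 h.1.1))
  have hinj : Function.Injective δ₀ := fun g h e => by
    refine Subtype.ext (Subtype.ext (Matrix.ext fun i j => ?_))
    have := congrFun (congrFun (congrArg (fun k : Cfsg.SU 3 F q => k.1.1) e) i) j
    change d i * σ (g.1.1 i j) / d j = d i * σ (h.1.1 i j) / d j at this
    field_simp [hd0 j] at this
    exact σ.injective (mul_left_cancel₀ (hd0 i) this) |> fun x => x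
  refine ⟨MulEquiv.ofBijective δ₀ ⟨hinj, Finite.surjective_of_injective hinj⟩, fun x x' h0 h1 => ?_, fun x => ?_⟩
  · obtain ⟨-, a01, a11⟩ := su2_entries hF x
    obtain ⟨-, b01, b11⟩ := su2_entries hF x'
    refine Subtype.ext (Subtype.ext ?_)
    show tw (bup x).1.1 = (bup x').1.1
    rw [bup_val, bup_val]
    ext i j
    fin_cases i <;> fin_cases j <;>
      simp [tw, hd, a01, a11, b01, b11, h0, h1, hσq, mul_pow, hl0]
    rw [div_eq_iff hl0]
    linear_combination (σ (x.1.1 1 0) ^ q) * hl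
  · obtain ⟨n0, a01, a11⟩ := su2_entries hF x
    refine ⟨su2 hF (σ (x.1.1 0 0)) (σ (x.1.1 1 0) / l) ?_, ?_⟩
    · have := congrArg σ n0
      simp only [map_add, map_mul, hσq, map_one] at this
      rw [div_pow, div_mul_div_comm, hl, div_one]
      exact this
    · refine Subtype.ext (Subtype.ext ?_)
      show tw (blo x).1.1 = (blo _).1.1
      rw [blo_val, blo_val]
      ext i j
      fin_cases i <;> fin_cases j <;>
        simp [tw, hd, a01, a11, su2_val, hσq, div_pow, hl0]
      rw [eq_div_iff (pow_ne_zero _ hl0)]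
      linear_combination (σ (x.1.1 1 0) ^ q) * hl

/-- the next edge adjusted to the previous one -/
theorem exists_adjust (hq : 3 ≤ q) {φ φ' : Cfsg.SU 3 F q →* G} {V V' A B C : Subgroup G} (h : Edge φ V A B)
    (h' : Edge φ' V' B C) (hAC : ∀ x ∈ A, ∀ y ∈ C, Commute x y) :
    ∃ φ'' : Cfsg.SU 3 F q →* G, Edge φ'' V' B C ∧ ∀ x, φ (blo x) = φ'' (bup x) := by
  classical
  obtain ⟨-, hlo⟩ := h.injective hF (by omega)
  obtain ⟨hup', -⟩ := h'.injective hF (by omega)
  have hex : ∀ x, ∃ y, φ' (bup y) = φ (blo x) := fun x => by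
    have : φ (blo x) ∈ (φ'.comp bup).range := by
      rw [h'.up, ← h.lo]; exact ⟨x, rfl⟩
    exact this
  choose f hf using hex
  let α₀ : Cfsg.SU 2 F q →* Cfsg.SU 2 F q := MonoidHom.mk' f fun x y => hup' (by
    show φ' (bup (f (x * y))) = φ' (bup (f x * f y))
    rw [map_mul bup, map_mul φ', hf, hf, hf, map_mul, map_mul])
  have hα₀ : Function.Injective α₀ := fun x y e => hlo (by
    show φ (blo x) = φ (blo y)
    rw [← hf x, ← hf y]
    exact congrArg (fun z => φ' (bup z)) e)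
  let α : MulAut (Cfsg.SU 2 F q) := MulEquiv.ofBijective α₀ ⟨hα₀, Finite.surjective_of_injective hα₀⟩
  have hα : ∀ x, φ' (bup (α x)) = φ (blo x) := hf
  have hdia : ∀ x, IsDia x → IsDia (α x) := by
    intro x hx
    by_contra hb
    obtain ⟨a, ha, -, hane⟩ := exists_dia_ne hF (by omega)
    obtain ⟨y', e0, e1, hyy⟩ := blo_bup hF ha (α x)
    obtain ⟨z, hz⟩ : ∃ z, α z = y' := α.surjective y'
    -- the conjugate still normalises `A`
    have hτ : φ' (blo (dia hF a ha)) ∈ C := h'.lo ▸ ⟨_, rfl⟩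
    have hy : φ' (bup y') = φ' (blo (dia hF a ha)) * φ (blo x) * (φ' (blo (dia hF a ha)))⁻¹ := by
      rw [← hα, ← map_mul, hyy, map_mul, mul_inv_cancel_right]
    have hn : Nrm A (φ (blo z)) := fun u hu => by
      have e := (hAC u hu _ hτ).eq
      rw [← hα, hz, hy]
      have e' : φ' (blo (dia hF a ha)) * φ (blo x) * (φ' (blo (dia hF a ha)))⁻¹ * u *
          (φ' (blo (dia hF a ha)) * φ (blo x) * (φ' (blo (dia hF a ha)))⁻¹)⁻¹ =
          φ' (blo (dia hF a ha)) * (φ (blo x) * ((φ' (blo (dia hF a ha)))⁻¹ * (u * φ' (blo (dia hF a ha)))) *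
            (φ (blo x))⁻¹) * (φ' (blo (dia hF a ha)))⁻¹ := by group
      rw [e', e, inv_mul_cancel_left]
      have hw := h.nrm_dia hF hx u hu
      rw [← (hAC _ hw _ hτ).eq, mul_inv_cancel_right]
      exact hw
    have hzd := h.isDia_of_nrm hF (by omega) hn
    have hcomm : Commute x z := by
      refine Subtype.ext (Subtype.ext ?_)
      obtain ⟨-, x01, -⟩ := su2_entries hF x
      obtain ⟨-, z01, -⟩ := su2_entries hF z
      show x.1.1 * z.1.1 = z.1.1 * x.1.1
      have hq0 : q ≠ 0 := by omega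
      ext i j
      fin_cases i <;> fin_cases j <;>
        simp [Matrix.mul_apply, Fin.sum_univ_two, show x.1.1 1 0 = 0 from hx, show z.1.1 1 0 = 0 from hzd,
          x01, z01, hq0, mul_comm]
    have h00 := congrArg (fun g : Cfsg.SU 2 F q => g.1.1 0 0) (hcomm.map α.toMonoidHom).eq
    change ((α x).1.1 * (α z).1.1) 0 0 = ((α z).1.1 * (α x).1.1) 0 0 at h00
    rw [hz] at h00
    obtain ⟨-, k01, -⟩ := su2_entries hF (α x)
    obtain ⟨-, k01', -⟩ := su2_entries hF y'
    rw [Matrix.mul_apply, Matrix.mul_apply, Fin.sum_univ_two, Fin.sum_univ_two, k01, k01', e0, e1, mul_pow] at h00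
    refine hane ?_
    have : (α x).1.1 1 0 * ((α x).1.1 1 0) ^ q * (a - a ^ q) = 0 := by linear_combination -h00
    rcases mul_eq_zero.1 this with h1 | h1
    · exact absurd ((mul_eq_zero.1 h1).elim id fun e => (pow_eq_zero_iff (by omega : q ≠ 0)).1 e) hb
    · exact sub_eq_zero.1 h1
  obtain ⟨σ, l, hl, hσ⟩ := exists_semi hF hq α hdia
  obtain ⟨δ, hδu, hδl⟩ := exists_delta hF σ hl
  have hδu' : ∀ x, δ (bup x) = bup (α x) := fun x => hδu x (α x) (hσ x).1 (hσ x).2
  refine ⟨φ'.comp δ.toMonoidHom, ⟨?_, ?_, ?_, ?_⟩, fun x => ?_⟩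
  · rw [MonoidHom.range_comp, MonoidHom.range_eq_top.2 δ.surjective, ← MonoidHom.range_eq_map, h'.range]
  · rw [← h'.up]
    refine le_antisymm ?_ ?_
    · rintro _ ⟨x, rfl⟩; exact ⟨α x, congrArg φ' (hδu' x).symm⟩
    · rintro _ ⟨x, rfl⟩
      obtain ⟨y, rfl⟩ := α.surjective x
      exact ⟨y, congrArg φ' (hδu' y)⟩
  · rw [← h'.lo]
    choose g hg using hδl
    have hg' : Function.Surjective g := Finite.surjective_of_injective fun x y e => by
      refine blk_injective (F := F) (q := q) (sh 1 (show 1 + 2 ≤ 3 by omega)) (δ.injective ?_)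
      show δ (blo x) = δ (blo y)
      rw [hg, hg, e]
    refine le_antisymm ?_ ?_
    · rintro _ ⟨x, rfl⟩; exact ⟨g x, congrArg φ' (hg x).symm⟩
    · rintro _ ⟨x, rfl⟩
      obtain ⟨y, rfl⟩ := hg' x
      exact ⟨y, congrArg φ' (hg y)⟩
  · intro x hx
    have h1 : δ x ∈ Subgroup.center _ := h'.ker hx
    rw [Subgroup.mem_center_iff] at h1 ⊢
    exact fun g => δ.injective (by rw [map_mul, map_mul, h1])
  · show φ (blo x) = φ' (δ (bup x))
    rw [hδu', hα]

/-- the edges can be chosen coherently -/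
theorem exists_coherent (hq : 3 ≤ q) (U : ℕ → Subgroup G) (V : ℕ → Subgroup G) (m : ℕ)
    (hV : ∀ p < m, Cfsg.IsStandardUnitaryPair (V p) (U p) (U (p + 1)) F q)
    (hfar : ∀ p r, p + 2 ≤ r → r ≤ m → ∀ x ∈ U p, ∀ y ∈ U r, Commute x y) :
    ∃ Φ : ℕ → (Cfsg.SU 3 F q →* G), (∀ p < m, Edge (Φ p) (V p) (U p) (U (p + 1))) ∧
      ∀ p, p + 1 < m → ∀ x, Φ p (blo x) = Φ (p + 1) (bup x) := by
  classical
  induction m with
  | zero => exact ⟨fun _ => 1, fun p hp => absurd hp (by omega), fun p hp => absurd hp (by omega)⟩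
  | succ m ih =>
    obtain ⟨Φ, hΦ, hglue⟩ := ih (fun p hp => hV p (by omega)) (fun p r h1 h2 => hfar p r h1 (by omega))
    obtain ⟨φ', hφ'⟩ := exists_edge hF (hV m (by omega))
    have key : ∃ φ'', Edge φ'' (V m) (U m) (U (m + 1)) ∧ ∀ p, p + 1 = m → ∀ x, Φ p (blo x) = φ'' (bup x) := by
      rcases m with _ | m
      · exact ⟨φ', hφ', fun p hp => absurd hp (by omega)⟩
      · obtain ⟨φ'', h1, h2⟩ := exists_adjust hF hq (hΦ m (by omega)) hφ' (fun x hx y hy =>
          hfar m (m + 1 + 1) (by omega) (by omega) x hx y hy)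
        refine ⟨φ'', h1, fun p hp => ?_⟩
        obtain rfl : p = m := by omega
        exact h2
    obtain ⟨φ'', h1, h2⟩ := key
    refine ⟨fun p => if p = m then φ'' else Φ p, fun p hp => ?_, fun p hp x => ?_⟩
    · dsimp only
      split_ifs with h
      · subst h; exact h1
      · exact hΦ p (by omega)
    · dsimp only
      rw [if_neg (show p ≠ m by omega)]
      split_ifs with h
      · exact h2 p h x
      · exact hglue p (by omega) x

/-- the theorem of Phan in sequence form -/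
theorem exists_hom_of_system (hq : 4 ≤ q) (U : ℕ → Subgroup G) (V : ℕ → Subgroup G) (m : ℕ) (hm : 1 ≤ m)
    (hV : ∀ p < m, Cfsg.IsStandardUnitaryPair (V p) (U p) (U (p + 1)) F q)
    (hfar : ∀ p r, p + 2 ≤ r → r ≤ m → ∀ x ∈ U p, ∀ y ∈ U r, Commute x y) :
    ∃ f : Cfsg.SU (m + 2) F q →* G, ∀ p < m, V p ⊔ U p ⊔ U (p + 1) ≤ f.range := by
  classical
  obtain ⟨Φ, hΦ, hglue⟩ := exists_coherent hF (by omega) U V m hV hfar
  obtain ⟨Ψ, hΨ⟩ : ∃ Ψ : ℕ → (Cfsg.SU 2 F q →* G),
      Ψ = fun p => if p < m then (Φ p).comp bup else (Φ (p - 1)).comp blo := ⟨_, rfl⟩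
  have hlo : ∀ p, p < m → ∀ x, Φ p (blo x) = Ψ (p + 1) x := fun p hp x => by
    subst hΨ
    dsimp only
    split_ifs with h
    · exact hglue p h x
    · rfl
  have hmem : ∀ p, p ≤ m → ∀ x, Ψ p x ∈ U p := fun p hp x => by
    rcases Nat.lt_or_ge p m with h | h
    · subst hΨ
      dsimp only
      rw [if_pos h, ← (hΦ p h).up]
      exact ⟨x, rfl⟩
    · obtain ⟨j, rfl⟩ : ∃ j, p = j + 1 := ⟨p - 1, by omega⟩
      rw [← hlo j (by omega) x, ← (hΦ j (by omega)).lo]
      exact ⟨x, rfl⟩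
  let C : Chain G F q (m + 2) :=
    { φ := Φ
      ψ := Ψ
      up := fun p hp x => by
        subst hΨ
        dsimp only
        rw [if_pos (show p < m by omega)]
        rfl
      lo := fun p hp x => hlo p (by omega) x
      far := fun p r h1 h2 x y => hfar p r h1 (by omega) _ (hmem p (by omega) x) _ (hmem r (by omega) y) }
  obtain ⟨f, hf⟩ := exists_extends hF hq (m + 2) (by omega) C
  refine ⟨f, fun p hp => ?_⟩
  have hV' : V p ≤ f.range := by
    rw [← (hΦ p hp).range]
    rintro _ ⟨x, rfl⟩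
    exact ⟨blkAt p (by omega) x, hf p (by omega) x⟩
  obtain ⟨hA, hB⟩ := (hΦ p hp).left_le
  exact sup_le (sup_le hV' (hA.trans hV')) (hB.trans hV')

end CfsgLib.Phan
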