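import Cfsg.Agent.Lib.Recog.Phan.Frame
import Cfsg.Agent.Lib.Classical.Unitary.MatrixStructure

/-!
# A window of four coordinates over the field with nine elements
-/

set_option autoImplicit false

namespace CfsgLib.Phan

open CfsgLib.Classical CfsgLib.Classical.Herm CfsgLib.Known.SUBounded

universe u w v

/-- the cyclic permutation of three coordinates -/
def cyc (F : Type u) [Field F] (q : ℕ) : Cfsg.SU 3 F q :=
  ⟨⟨!![0, 0, 1; 1, 0, 0; 0, 1, 0], by simp [Matrix.det_fin_three]⟩, fun u v => by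
    show Cfsg.hermForm 3 F q ((!![0, 0, 1; 1, 0, 0; 0, 1, 0] : Matrix (Fin 3) (Fin 3) F).mulVec u)
      ((!![0, 0, 1; 1, 0, 0; 0, 1, 0] : Matrix (Fin 3) (Fin 3) F).mulVec v) = _
    simp [Cfsg.hermForm, Matrix.mulVec, dotProduct, Fin.sum_univ_three]
    ring⟩

variable {F : Type u} [Field F] {q : ℕ}

theorem cyc_bup (x : Cfsg.SU 2 F q) : cyc F q * bup x * (cyc F q)⁻¹ = blo x := by
  rw [mul_inv_eq_iff_eq_mul]
  refine Subtype.ext (Subtype.ext ?_)
  show (cyc F q).1.1 * (bup x).1.1 = (blo x).1.1 * (cyc F q).1.1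
  rw [bup_val, blo_val]
  ext i j
  fin_cases i <;> fin_cases j <;> simp [cyc, Matrix.mul_apply, Fin.sum_univ_three]

variable [Fintype F] (hF : Fintype.card F = q ^ 2)
include hF

theorem dia_negOne : dia hF (-1) (show (-1 : F) * (-1) ^ q = 1 by
    rw [← powHom_apply hF, map_neg, map_one]; ring) = negOne hF := rfl

/-- multiplication of the lower left entry by a norm-one scalar, as induced by conjugation -/
theorem exists_twist {a : F} (ha : a * a ^ q = 1) :
    ∃ τ : Cfsg.SU 2 F q →* Cfsg.SU 2 F q, ∀ x, (τ x).1.1 0 0 = x.1.1 0 0 ∧ (τ x).1.1 1 0 = a * x.1.1 1 0 ∧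
      blo (dia hF a ha) * bup x = bup (τ x) * blo (dia hF a ha) := by
  choose t h0 h1 ht using fun x => blo_bup hF ha x
  refine ⟨MonoidHom.mk' t fun x y => blk_injective (F := F) (q := q) (sh 0 (show 0 + 2 ≤ 3 by omega)) ?_,
    fun x => ⟨h0 x, h1 x, ht x⟩⟩
  show bup (t (x * y)) = bup (t x * t y)
  have e : ∀ z, bup (t z) = blo (dia hF a ha) * bup z * (blo (dia hF a ha))⁻¹ := fun z => by
    rw [ht z, mul_inv_cancel_right]
  rw [map_mul bup, e, e, e, map_mul]
  group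

theorem twist_dia {a : F} {τ : Cfsg.SU 2 F q →* Cfsg.SU 2 F q}
    (hτ : ∀ x, (τ x).1.1 0 0 = x.1.1 0 0 ∧ (τ x).1.1 1 0 = a * x.1.1 1 0) {x : Cfsg.SU 2 F q} (hx : IsDia x) :
    τ x = x := by
  rw [su2_eta hF (τ x)]
  refine (su2_congr hF _ _ (hτ x).1 ?_).trans (su2_eta hF x).symm
  rw [(hτ x).2, show x.1.1 1 0 = 0 from hx, mul_zero]

/-- an element with a lower left entry zero is diagonal -/
theorem eq_dia {x : Cfsg.SU 2 F q} (hx : IsDia x) :
    ∃ (a : F) (ha : a * a ^ q = 1), a = x.1.1 0 0 ∧ x = dia hF a ha := by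
  have ha := (su2_entries hF x).1
  rw [show x.1.1 1 0 = 0 from hx, zero_mul, add_zero] at ha
  refine ⟨_, ha, rfl, ?_⟩
  conv_lhs => rw [su2_eta hF x]
  exact su2_congr hF _ _ rfl hx

variable (hq : q = 3)
include hq

theorem ker_le_center {H : Type w} [Group H] (g : Cfsg.SU 4 F q →* H)
    (hne : ∃ a b : Cfsg.SU 4 F q, ¬ Commute (g a) (g b)) : g.ker ≤ Subgroup.center (Cfsg.SU 4 F q) := by
  have := Herm.isSimpleGroup_PSU' hF 4 (by omega) (by omega)
  let π := QuotientGroup.mk' (Subgroup.center (Cfsg.SU 4 F q))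
  have hn : (g.ker.map π).Normal := Subgroup.Normal.map inferInstance π (QuotientGroup.mk'_surjective _)
  rcases hn.eq_bot_or_eq_top with h | h
  · intro z hz
    have : π z ∈ g.ker.map π := ⟨z, hz, rfl⟩
    rw [h, Subgroup.mem_bot] at this
    exact (QuotientGroup.eq_one_iff z).1 this
  · obtain ⟨a, b, hab⟩ := hne
    refine absurd ?_ hab
    obtain ⟨k, hk, hk'⟩ : π a ∈ g.ker.map π := h ▸ Subgroup.mem_top _
    have hz : k⁻¹ * a ∈ Subgroup.center (Cfsg.SU 4 F q) := QuotientGroup.eq.1 hk'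
    have e : g a = g (k⁻¹ * a) := by rw [map_mul, map_inv, MonoidHom.mem_ker.1 hk, inv_one, one_mul]
    rw [e]
    exact (show Commute (k⁻¹ * a) b from (Subgroup.mem_center_iff.1 hz b).symm).map g

theorem center_pow_four {z : Cfsg.SU 4 F q} (hz : z ∈ Subgroup.center (Cfsg.SU 4 F q)) : z ^ 4 = 1 := by
  obtain ⟨c, hc, hc4, -⟩ := center_scalar hF (by omega) (by omega) hz
  refine SU_ext fun v => ?_
  rw [pow_succ, pow_succ, pow_two, act_mul, act_mul, act_mul, hc, hc, hc, hc, act_one]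
  simp only [smul_smul]
  rw [show c * (c * (c * c)) = c ^ 4 by ring, hc4, one_smul]

theorem center_three {z : Cfsg.SU 3 F q} (hz : z ∈ Subgroup.center (Cfsg.SU 3 F q)) : z = 1 := by
  obtain ⟨c, hc, hc3, hcq⟩ := center_scalar hF (by omega) (by omega) hz
  refine SU_ext fun v => ?_
  rw [hq, hc3, mul_one] at hcq
  rw [hc, act_one, hcq, one_smul]

theorem injective_three {H : Type w} [Group H] {φ : Cfsg.SU 3 F q →* H}
    (hk : φ.ker ≤ Subgroup.center (Cfsg.SU 3 F q)) : Function.Injective φ :=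
  (injective_iff_map_eq_one φ).2 fun _ hz => center_three hF hq (hk hz)

/-- a homomorphism into the centraliser of everything is trivial -/
theorem eq_one_of_commute (B : Cfsg.SU 2 F q →* Cfsg.SU 2 F q) (h : ∀ x y, Commute (B x) y) (x : Cfsg.SU 2 F q) :
    B x = 1 := by
  obtain ⟨a, ha, -, hne⟩ := exists_dia_ne hF (show 3 ≤ q by omega)
  have hq0 : q ≠ 0 := by omega
  have hd : ∀ x, (B x).1.1 1 0 = 0 := fun x => by
    have e := congrArg (fun k : Cfsg.SU 2 F q => k.1.1 1 0) (h x (dia hF a ha)).eq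
    change ((B x).1.1 * (dia hF a ha).1.1) 1 0 = ((dia hF a ha).1.1 * (B x).1.1) 1 0 at e
    simp [Matrix.mul_apply, Fin.sum_univ_two, dia, su2, hq0] at e
    exact (mul_eq_zero.1 (show (a - a ^ q) * (B x).1.1 1 0 = 0 by linear_combination e)).resolve_left
      (sub_ne_zero.2 hne)
  let χ : Cfsg.SU 2 F q →* F :=
    { toFun := fun x => (B x).1.1 0 0
      map_one' := by simp
      map_mul' := fun x y => by
        show (B (x * y)).1.1 0 0 = _
        rw [map_mul]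
        show ((B x).1.1 * (B y).1.1) 0 0 = _
        rw [Matrix.mul_apply, Fin.sum_univ_two, hd y, mul_zero, add_zero] }
  rw [su2_eta hF (B x)]
  refine (su2_congr hF _ (diag_norm (show (1 : F) * 1 ^ q = 1 by simp)) (hom_field_one hF hq χ x) (hd x)).trans ?_
  refine Subtype.ext (Subtype.ext ?_)
  ext i j
  fin_cases i <;> fin_cases j <;> simp [su2_val, hq0]

set_option maxHeartbeats 800000 in
/-- splitting along the first block involution -/
theorem exists_blocks (Ψ : Cfsg.SU 2 F q →* Cfsg.SU 4 F q)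
    (hc : ∀ x, Commute (blkAt 0 (show 0 + 2 ≤ 4 by omega) (negOne hF)) (Ψ x)) :
    ∃ A B : Cfsg.SU 2 F q →* Cfsg.SU 2 F q, ∀ x,
      Ψ x = blkAt 0 (show 0 + 2 ≤ 4 by omega) (A x) * blkAt 2 (show 2 + 2 ≤ 4 by omega) (B x) := by
  have hq0 : q ≠ 0 := by omega
  have hz : ∀ x (i j : Fin 4), (![true, true, false, false] : Fin 4 → Bool) i ≠ ![true, true, false, false] j →
      (Ψ x).1.1 i j = 0 := fun x i j hij =>
    entries_of_commute hF (two_ne_zero_three hF hq) (negOne_diag hF) (hc x) hij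
  have z02 := fun x => hz x 0 2 (by decide)
  have z03 := fun x => hz x 0 3 (by decide)
  have z12 := fun x => hz x 1 2 (by decide)
  have z13 := fun x => hz x 1 3 (by decide)
  have z20 := fun x => hz x 2 0 (by decide)
  have z30 := fun x => hz x 3 0 (by decide)
  have z21 := fun x => hz x 2 1 (by decide)
  have z31 := fun x => hz x 3 1 (by decide)
  have hmul : ∀ x y i j, (Ψ (x * y)).1.1 i j = ∑ k, (Ψ x).1.1 i k * (Ψ y).1.1 k j := fun x y i j => by
    rw [map_mul]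
    exact Matrix.mul_apply
  let top : Cfsg.SU 2 F q →* Matrix (Fin 2) (Fin 2) F :=
    { toFun := fun x => !![(Ψ x).1.1 0 0, (Ψ x).1.1 0 1; (Ψ x).1.1 1 0, (Ψ x).1.1 1 1]
      map_one' := by
        ext i j
        fin_cases i <;> fin_cases j <;> simp
      map_mul' := fun x y => by
        ext i j
        fin_cases i <;> fin_cases j <;>
          simp [Matrix.mul_apply, Fin.sum_univ_two, Fin.sum_univ_four, hmul, z02, z03, z12, z13] }
  let bot : Cfsg.SU 2 F q →* Matrix (Fin 2) (Fin 2) F :=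
    { toFun := fun x => !![(Ψ x).1.1 2 2, (Ψ x).1.1 2 3; (Ψ x).1.1 3 2, (Ψ x).1.1 3 3]
      map_one' := by
        ext i j
        fin_cases i <;> fin_cases j <;> simp
      map_mul' := fun x y => by
        ext i j
        fin_cases i <;> fin_cases j <;>
          simp [Matrix.mul_apply, Fin.sum_univ_two, Fin.sum_univ_four, hmul, z20, z30, z21, z31] }
  have hdet : ∀ (M : Cfsg.SU 2 F q →* Matrix (Fin 2) (Fin 2) F) x, (M x).det = 1 := fun M x =>
    hom_field_one hF hq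
      { toFun := fun x => (M x).det
        map_one' := by rw [map_one, Matrix.det_one]
        map_mul' := fun x y => by rw [map_mul, Matrix.det_mul] } x
  have ptop : ∀ x (u v : Fin 2 → F),
      Cfsg.hermForm 2 F q ((top x).mulVec u) ((top x).mulVec v) = Cfsg.hermForm 2 F q u v := fun x u v => by
    have e := (Ψ x).2 ![u 0, u 1, 0, 0] ![v 0, v 1, 0, 0]
    change Cfsg.hermForm 4 F q ((Ψ x).1.1.mulVec _) ((Ψ x).1.1.mulVec _) = _ at e
    simp [Cfsg.hermForm, Matrix.mulVec, dotProduct, Fin.sum_univ_four, z20, z30, z21, z31, hq0] at e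
    simp [top, Cfsg.hermForm, Matrix.mulVec, dotProduct, Fin.sum_univ_two]
    exact e
  have pbot : ∀ x (u v : Fin 2 → F),
      Cfsg.hermForm 2 F q ((bot x).mulVec u) ((bot x).mulVec v) = Cfsg.hermForm 2 F q u v := fun x u v => by
    have e := (Ψ x).2 ![0, 0, u 0, u 1] ![0, 0, v 0, v 1]
    change Cfsg.hermForm 4 F q ((Ψ x).1.1.mulVec _) ((Ψ x).1.1.mulVec _) = _ at e
    simp [Cfsg.hermForm, Matrix.mulVec, dotProduct, Fin.sum_univ_four, z02, z03, z12, z13, hq0] at e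
    simp [bot, Cfsg.hermForm, Matrix.mulVec, dotProduct, Fin.sum_univ_two]
    exact e
  let A : Cfsg.SU 2 F q →* Cfsg.SU 2 F q :=
    MonoidHom.mk' (fun x => ⟨⟨top x, hdet top x⟩, ptop x⟩) fun x y =>
      Subtype.ext (Subtype.ext (map_mul top x y))
  let B : Cfsg.SU 2 F q →* Cfsg.SU 2 F q :=
    MonoidHom.mk' (fun x => ⟨⟨bot x, hdet bot x⟩, pbot x⟩) fun x y =>
      Subtype.ext (Subtype.ext (map_mul bot x y))
  refine ⟨A, B, fun x => Subtype.ext (Subtype.ext ?_)⟩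
  show (Ψ x).1.1 = (blkAt 0 _ (A x)).1.1 * (blkAt 2 _ (B x)).1.1
  rw [blk_zero_val, blk_two_val]
  ext i j
  fin_cases i <;> fin_cases j <;>
    simp [A, B, top, bot, Matrix.mul_apply, Fin.sum_univ_four, z02, z03, z12, z13, z20, z30, z21, z31]

/-- lifts of the three blocks are blocks -/
theorem exists_alphas {H : Type w} [Group H] (g : Cfsg.SU 4 F q →* H)
    (hker : g.ker ≤ Subgroup.center (Cfsg.SU 4 F q)) (hexp : ∀ z ∈ g.ker, z ^ 4 = 1)
    {φ : Cfsg.SU 3 F q →* H} (hsurj : Function.Surjective g) (Ψ₀ Ψ₁ Ψ₂ : Cfsg.SU 2 F q →* Cfsg.SU 4 F q)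
    (hinj : Function.Injective Ψ₁ ∧ Function.Injective Ψ₂)
    (hu : ∀ x, g (Ψ₀ x) = φ (bup x)) (hl : ∀ x, g (Ψ₁ x) = φ (blo x))
    (hfar : ∀ x y, Commute (g (Ψ₀ x)) (g (Ψ₂ y)))
    (h0 : Ψ₀ (negOne hF) = blkAt 0 (by omega) (negOne hF))
    (h1 : Ψ₁ (negOne hF) = blkAt 1 (by omega) (negOne hF)) :
    ∃ α₀ α₁ α₂ : MulAut (Cfsg.SU 2 F q), ∀ x,
      Ψ₀ x = blkAt 0 (by omega) (α₀ x) ∧ Ψ₁ x = blkAt 1 (by omega) (α₁ x) ∧ Ψ₂ x = blkAt 2 (by omega) (α₂ x) := by
  classical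
  have hn : ∀ x : Cfsg.SU 2 F q, Commute (negOne hF) x := fun x =>
    Subtype.ext (Subtype.ext (show (negOne hF).1.1 * x.1.1 = x.1.1 * (negOne hF).1.1 by
      rw [negOne_val hF hq]; simp))
  have hc : ∀ x y, Commute (Ψ₀ x) (Ψ₂ y) := commute_three hF hq g hker hexp hfar
  obtain ⟨A, B, hAB⟩ := exists_blocks hF hq Ψ₀ fun x => h0 ▸ (hn x).map Ψ₀
  obtain ⟨A₂, B₂, hAB₂⟩ := exists_blocks hF hq Ψ₂ fun x => h0 ▸ hc _ x
  have hcc := fun x y => (hc x y).eq
  -- compare blocks of products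
  have hblocks : ∀ a b a' b' : Cfsg.SU 2 F q,
      blkAt 0 (show 0 + 2 ≤ 4 by omega) a * blkAt 2 (show 2 + 2 ≤ 4 by omega) b =
        blkAt 0 (show 0 + 2 ≤ 4 by omega) a' * blkAt 2 (show 2 + 2 ≤ 4 by omega) b' → a = a' ∧ b = b' := by
    intro a b a' b' e
    have e' := congrArg (fun k : Cfsg.SU 4 F q => k.1.1) e
    change (blkAt 0 _ a).1.1 * (blkAt 2 _ b).1.1 = (blkAt 0 _ a').1.1 * (blkAt 2 _ b').1.1 at e'
    rw [blk_zero_val, blk_two_val, blk_zero_val, blk_two_val] at e'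
    have f := fun i j => congrFun (congrFun e' i) j
    constructor <;> refine Subtype.ext (Subtype.ext ?_) <;> ext i j <;> fin_cases i <;> fin_cases j
    · simpa [Matrix.mul_apply, Fin.sum_univ_four] using f 0 0
    · simpa [Matrix.mul_apply, Fin.sum_univ_four] using f 0 1
    · simpa [Matrix.mul_apply, Fin.sum_univ_four] using f 1 0
    · simpa [Matrix.mul_apply, Fin.sum_univ_four] using f 1 1
    · simpa [Matrix.mul_apply, Fin.sum_univ_four] using f 2 2
    · simpa [Matrix.mul_apply, Fin.sum_univ_four] using f 2 3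
    · simpa [Matrix.mul_apply, Fin.sum_univ_four] using f 3 2
    · simpa [Matrix.mul_apply, Fin.sum_univ_four] using f 3 3
  have hcomm : ∀ x y, Commute (A x) (A₂ y) ∧ Commute (B x) (B₂ y) := by
    intro x y
    have e := hcc x y
    rw [hAB, hAB₂] at e
    have c1 : ∀ a b : Cfsg.SU 2 F q, Commute (blkAt 0 (show 0 + 2 ≤ 4 by omega) a)
        (blkAt 2 (show 2 + 2 ≤ 4 by omega) b) := fun a b => blkAt_commute _ _ (Or.inl (by omega)) a b
    rw [(c1 _ _).symm.mul_mul_mul_comm, (c1 _ _).symm.mul_mul_mul_comm, ← map_mul, ← map_mul, ← map_mul,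
      ← map_mul] at e
    exact hblocks _ _ _ _ e
  have hAn : A (negOne hF) = negOne hF := by
    refine (hblocks _ (B (negOne hF)) _ 1 ?_).1
    rw [← hAB, h0, map_one, mul_one]
  have hA : Function.Injective A := injective_of_negOne hF hq A (hAn.symm ▸ negOne_ne_one hF hq)
  have hAs : Function.Surjective A := Finite.surjective_of_injective hA
  have hA₂ : ∀ y, A₂ y = 1 := eq_one_of_commute hF hq A₂ fun y z => by
    obtain ⟨x, rfl⟩ := hAs z
    exact (hcomm x y).1.symm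
  have h2 : ∀ y, Ψ₂ y = blkAt 2 (show 2 + 2 ≤ 4 by omega) (B₂ y) := fun y => by
    rw [hAB₂, hA₂, map_one, one_mul]
  have hB₂ : Function.Injective B₂ := fun x y e => hinj.2 (by rw [h2, h2, e])
  have hB : ∀ x, B x = 1 := eq_one_of_commute hF hq B fun x z => by
    obtain ⟨y, rfl⟩ := Finite.surjective_of_injective hB₂ z
    exact (hcomm x y).2
  have h0' : ∀ x, Ψ₀ x = blkAt 0 (show 0 + 2 ≤ 4 by omega) (A x) := fun x => by
    rw [hAB, hB, map_one, mul_one]
  -- the middle lift is a conjugate of the first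
  obtain ⟨Y, hY⟩ := hsurj (φ (cyc F q))
  have hconj : Ψ₁ = (MulAut.conj Y).toMonoidHom.comp Ψ₀ := hom_ext_three hF hq g hker hexp fun x => by
    show g (Ψ₁ x) = g (Y * Ψ₀ x * Y⁻¹)
    rw [map_mul, map_mul, map_inv, hY, hu, hl, ← map_inv, ← map_mul, ← map_mul, cyc_bup]
  have h1' : ∀ x, Ψ₁ x = Y * blkAt 0 (show 0 + 2 ≤ 4 by omega) (A x) * Y⁻¹ := fun x => by
    rw [← h0', hconj]; rfl
  have hfix : ∀ x (i : Fin 4), i.1 < 1 ∨ 1 + 2 ≤ i.1 → act (Ψ₁ x) (std i) = std i := by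
    intro x i hi
    obtain ⟨w, hw⟩ : ∃ w, w = act Y⁻¹ (std i) := ⟨_, rfl⟩
    have hfn : act (blkAt 0 (show 0 + 2 ≤ 4 by omega) (negOne hF)) w = w := by
      have e : act (Y * blkAt 0 (show 0 + 2 ≤ 4 by omega) (A (negOne hF)) * Y⁻¹) (std i) = std i := by
        rw [← h1', h1]; exact blkAt_fix _ _ hi
      rw [hAn, act_mul, act_mul, ← hw] at e
      have e' := congrArg (act Y⁻¹) e
      rwa [← act_mul, inv_mul_cancel, act_one, ← hw] at e'
    have w01 : w 0 = 0 ∧ w 1 = 0 := by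
      have hq0 : q ≠ 0 := by omega
      have h2 := two_ne_zero_three hF hq
      have e0 := congrFun hfn 0
      have e1 := congrFun hfn 1
      simp [act, blk_zero_val, negOne_val hF hq, Matrix.mulVec, dotProduct, Fin.sum_univ_four] at e0 e1
      exact ⟨(mul_eq_zero.1 (show (2 : F) * w 0 = 0 by linear_combination -e0)).resolve_left h2,
        (mul_eq_zero.1 (show (2 : F) * w 1 = 0 by linear_combination -e1)).resolve_left h2⟩
    have e : act (blkAt 0 (show 0 + 2 ≤ 4 by omega) (A x)) w = w := by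
      funext j
      fin_cases j <;>
        simp [act, blk_zero_val, Matrix.mulVec, dotProduct, Fin.sum_univ_four, w01.1, w01.2]
    rw [h1', act_mul, act_mul, ← hw, e, hw, ← act_mul, mul_inv_cancel, act_one]
  choose A₁ hA₁ using fun x => exists_middle hF (hfix x 0 (Or.inl (by simp))) (hfix x 3 (Or.inr (by simp)))
  let A₁' : Cfsg.SU 2 F q →* Cfsg.SU 2 F q := MonoidHom.mk' A₁ fun x y =>
    blk_injective (F := F) (q := q) (sh 1 (show 1 + 2 ≤ 4 by omega)) (by
      show blkAt 1 _ (A₁ (x * y)) = blkAt 1 _ (A₁ x * A₁ y)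
      rw [map_mul (blkAt 1 _), hA₁, hA₁, hA₁, map_mul])
  have hA₁' : Function.Injective A₁' := fun x y e => hinj.1 (by rw [← hA₁ x, ← hA₁ y]; exact congrArg _ e)
  exact ⟨MulEquiv.ofBijective A ⟨hA, hAs⟩,
    MulEquiv.ofBijective A₁' ⟨hA₁', Finite.surjective_of_injective hA₁'⟩,
    MulEquiv.ofBijective B₂ ⟨hB₂, Finite.surjective_of_injective hB₂⟩,
    fun x => ⟨h0' x, (hA₁ x).symm, h2 x⟩⟩

/-- two neighbouring blocks over one copy of `SU 3` -/
theorem adjacent {H : Type w} [Group H] (g : Cfsg.SU 4 F q →* H)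
    (hker : g.ker ≤ Subgroup.center (Cfsg.SU 4 F q)) (hexp : ∀ z ∈ g.ker, z ^ 4 = 1)
    {φ : Cfsg.SU 3 F q →* H} (p : ℕ) (hp : p + 3 ≤ 4) (α α' : MulAut (Cfsg.SU 2 F q))
    (hu : ∀ x, g (blkAt p (by omega) (α x)) = φ (bup x))
    (hl : ∀ x, g (blkAt (p + 1) (by omega) (α' x)) = φ (blo x)) :
    (∀ x, IsDia x → IsDia (α x)) ∧ (∀ x, IsDia x → IsDia (α' x)) ∧
      ∀ (a : F) (ha : a * a ^ q = 1) (x x' : Cfsg.SU 2 F q), x'.1.1 0 0 = x.1.1 0 0 → x'.1.1 1 0 = a * x.1.1 1 0 →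
        (α x').1.1 1 0 = (α' (dia hF a ha)).1.1 0 0 * (α x).1.1 1 0 := by
  have key : ∀ (a : F) (ha : a * a ^ q = 1) (τ : Cfsg.SU 2 F q →* Cfsg.SU 2 F q),
      (∀ x, blo (dia hF a ha) * bup x = bup (τ x) * blo (dia hF a ha)) →
      ∀ x, blo (α' (dia hF a ha)) * bup (α x) * (blo (α' (dia hF a ha)))⁻¹ = bup (α (τ x)) := by
    intro a ha τ hτ x
    have e0 : ∀ z : Cfsg.SU 2 F q, blkAt p hp (bup z) = blkAt p (show p + 2 ≤ 4 by omega) z := fun z =>
      blkAt_comp p 0 hp _ z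
    have e1 : ∀ z : Cfsg.SU 2 F q, blkAt p hp (blo z) = blkAt (p + 1) (show p + 1 + 2 ≤ 4 by omega) z := fun z =>
      blkAt_comp p 1 hp _ z
    obtain ⟨Y, hY⟩ : ∃ Y, Y = blkAt (p + 1) (show p + 1 + 2 ≤ 4 by omega) (α' (dia hF a ha)) := ⟨_, rfl⟩
    obtain ⟨L, hL⟩ : ∃ L : Cfsg.SU 2 F q →* Cfsg.SU 4 F q,
        L = (blkAt p (show p + 2 ≤ 4 by omega)).comp α.toMonoidHom := ⟨_, rfl⟩
    have hgL : ∀ z, g (L z) = φ (bup z) := fun z => by rw [hL]; exact hu z
    have hgY : g Y = φ (blo (dia hF a ha)) := by rw [hY]; exact hl _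
    have h := hom_ext_three hF hq g hker hexp (Ψ := (MulAut.conj Y).toMonoidHom.comp L) (Ψ' := L.comp τ) fun z => by
      rw [MonoidHom.comp_apply, MonoidHom.comp_apply, MulEquiv.toMonoidHom_eq_coe, MonoidHom.coe_coe,
        MulAut.conj_apply, map_mul, map_mul, map_inv, hgL, hgL, hgY, ← map_inv, ← map_mul, ← map_mul, hτ,
        mul_inv_cancel_right]
    have hx := DFunLike.congr_fun h x
    rw [MonoidHom.comp_apply, MonoidHom.comp_apply, MulEquiv.toMonoidHom_eq_coe, MonoidHom.coe_coe,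
      MulAut.conj_apply, hL, hY] at hx
    simp only [MonoidHom.comp_apply, MulEquiv.toMonoidHom_eq_coe, MonoidHom.coe_coe] at hx
    rw [← e0, ← e0, ← e1, ← map_inv, ← map_mul, ← map_mul] at hx
    exact blk_injective (F := F) (q := q) (sh p hp) hx
  have hedge : Edge (MonoidHom.id (Cfsg.SU 3 F q)) ⊤ (bup : Cfsg.SU 2 F q →* _).range
      (blo : Cfsg.SU 2 F q →* _).range :=
    ⟨MonoidHom.range_eq_top.2 fun x => ⟨x, rfl⟩, rfl, rfl, fun x hx => by
      rw [show x = 1 from hx]; exact one_mem _⟩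
  have hα' : ∀ x, IsDia x → IsDia (α' x) := by
    intro x hx
    obtain ⟨a, ha, -, rfl⟩ := eq_dia hF hx
    obtain ⟨τ, hτ⟩ := exists_twist hF ha
    refine hedge.isDia_of_nrm hF (by omega) ?_
    rintro _ ⟨y, rfl⟩
    obtain ⟨z, rfl⟩ := α.surjective y
    exact ⟨α (τ z), (key a ha τ (fun w => (hτ w).2.2) z).symm⟩
  -- the upper automorphism commutes with twisting
  have hcomm : ∀ (a : F) (ha : a * a ^ q = 1) (τ : Cfsg.SU 2 F q →* Cfsg.SU 2 F q),
      (∀ x, blo (dia hF a ha) * bup x = bup (τ x) * blo (dia hF a ha)) →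
      ∀ x, (α (τ x)).1.1 1 0 = (α' (dia hF a ha)).1.1 0 0 * (α x).1.1 1 0 := by
    intro a ha τ hτ x
    obtain ⟨b, hb, hb0, hbe⟩ := eq_dia hF (hα' _ (isDia_dia hF a ha))
    obtain ⟨τ', hτ'⟩ := exists_twist hF hb
    have e := key a ha τ hτ x
    rw [hbe, (hτ' (α x)).2.2, mul_inv_cancel_right] at e
    rw [← blk_injective (F := F) (q := q) (sh 0 (show 0 + 2 ≤ 3 by omega)) e, (hτ' _).2.1, hb0]
  have hα : ∀ x, IsDia x → IsDia (α x) := by
    intro x hx
    obtain ⟨a, ha, ha1, -⟩ := exists_dia_ne hF (show 3 ≤ q by omega)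
    obtain ⟨τ, hτ⟩ := exists_twist hF ha
    obtain ⟨b, hb, hb0, hbe⟩ := eq_dia hF (hα' _ (isDia_dia hF a ha))
    have e := hcomm a ha τ (fun w => (hτ w).2.2) x
    rw [twist_dia hF (fun y => ⟨(hτ y).1, (hτ y).2.1⟩) hx, ← hb0] at e
    have hb1 : b ≠ 1 := fun hb1 => by
      have : α' (dia hF a ha) = α' 1 := by
        rw [map_one, hbe]
        refine Subtype.ext (Subtype.ext ?_)
        ext i j
        fin_cases i <;> fin_cases j <;> simp [dia, su2, hb1, show q ≠ 0 by omega]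
      have := congrArg (fun k : Cfsg.SU 2 F q => k.1.1 0 0) (α'.injective this)
      exact ha1 (by simpa [dia, su2] using this)
    exact (mul_eq_zero.1 (show (b - 1) * (α x).1.1 1 0 = 0 by linear_combination -e)).resolve_left
      (sub_ne_zero.2 hb1)
  refine ⟨hα, hα', fun a ha x x' h0 h1 => ?_⟩
  obtain ⟨τ, hτ⟩ := exists_twist hF ha
  have : x' = τ x := by
    rw [su2_eta hF x', su2_eta hF (τ x)]
    exact su2_congr hF _ _ (h0.trans (hτ x).1.symm) (h1.trans (hτ x).2.1.symm)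
  rw [this]
  exact hcomm a ha τ (fun w => (hτ w).2.2) x

/-- field automorphisms agreeing on the norm-one elements agree -/
theorem ringEquiv_ext {σ σ' : F ≃+* F} (h : ∀ a : F, a * a ^ q = 1 → σ a = σ' a) : σ = σ' := by
  obtain ⟨a, ha, -, hne⟩ := exists_dia_ne hF (show 3 ≤ q by omega)
  have hinv : ∀ x : F, (x ^ q) ^ q = x := fun x => by
    have := (powHom_isInvol hF).invol x
    rwa [powHom_apply, powHom_apply] at this
  have hfix : ∀ s : F, s ^ q = s → σ s = σ' s := by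
    intro s hs
    rw [hq] at hs
    have h0 : s * ((s - 1) * (s + 1)) = 0 := by linear_combination hs
    rcases mul_eq_zero.1 h0 with e | e
    · rw [e, map_zero, map_zero]
    rcases mul_eq_zero.1 e with e | e
    · rw [sub_eq_zero.1 e, map_one, map_one]
    · rw [eq_neg_of_add_eq_zero_left e, map_neg, map_neg, map_one, map_one]
  refine RingEquiv.ext fun x => ?_
  have hd : a - a ^ q ≠ 0 := sub_ne_zero.2 hne
  obtain ⟨s, hs⟩ : ∃ s, s = (x - x ^ q) / (a - a ^ q) := ⟨_, rfl⟩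
  have hse : s * (a - a ^ q) = x - x ^ q := by rw [hs, div_mul_cancel₀ _ hd]
  have hsq : s ^ q = s := by
    have e := congrArg (powHom hF) hse
    rw [map_mul, map_sub, map_sub, powHom_apply, powHom_apply, powHom_apply, powHom_apply, powHom_apply,
      hinv, hinv] at e
    exact mul_right_cancel₀ hd (show s ^ q * (a - a ^ q) = s * (a - a ^ q) by linear_combination -e - hse)
  have hrq : (x - s * a) ^ q = x - s * a := by
    rw [← powHom_apply hF, map_sub, map_mul, powHom_apply, powHom_apply, powHom_apply, hsq]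
    linear_combination hse
  rw [show x = (x - s * a) + s * a by ring, map_add, map_add, map_mul, map_mul, hfix _ hrq, hfix _ hsq, h a ha]

theorem semi_eq {α α' : MulAut (Cfsg.SU 2 F q)} {σ σ' : F ≃+* F} {l l' : F} (hl : l * l ^ q = 1)
    (hσ : ∀ x, (α x).1.1 0 0 = σ (x.1.1 0 0) ∧ (α x).1.1 1 0 = l * σ (x.1.1 1 0))
    (hσ' : ∀ x, (α' x).1.1 0 0 = σ' (x.1.1 0 0) ∧ (α' x).1.1 1 0 = l' * σ' (x.1.1 1 0))
    (h : ∀ (a : F) (ha : a * a ^ q = 1) (x x' : Cfsg.SU 2 F q), x'.1.1 0 0 = x.1.1 0 0 →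
      x'.1.1 1 0 = a * x.1.1 1 0 → (α x').1.1 1 0 = (α' (dia hF a ha)).1.1 0 0 * (α x).1.1 1 0) : σ = σ' := by
  refine ringEquiv_ext hF hq fun a ha => ?_
  have e := h a ha (rot hF) (su2 hF 0 a (by rw [zero_mul, zero_add, ha]))
    (by simp [rot, su2]) (by simp [rot, su2])
  rw [(hσ _).2, (hσ _).2, (hσ' _).1] at e
  simp [rot, dia, su2] at e
  exact mul_left_cancel₀ (left_ne_zero_of_mul_eq_one hl) (by linear_combination e)

/-- one window -/
theorem exists_window {H : Type w} [Group H] (g : Cfsg.SU 4 F q →* H) (hsurj : Function.Surjective g)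
    (φ φ' : Cfsg.SU 3 F q →* H) (hk : φ.ker ≤ Subgroup.center (Cfsg.SU 3 F q))
    (hk' : φ'.ker ≤ Subgroup.center (Cfsg.SU 3 F q)) (glue : ∀ x, φ (blo x) = φ' (bup x))
    (far : ∀ x y, Commute (φ (bup x)) (φ' (blo y))) :
    ∃ f : Cfsg.SU 4 F q →* H, ∀ x, f (blkAt 0 (by omega) x) = φ x ∧ f (blkAt 1 (by omega) x) = φ' x := by
  classical
  have hq0 : q ≠ 0 := by omega
  have hφ := injective_three hF hq hk
  have hφ' := injective_three hF hq hk'
  -- the image is not abelian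
  have hneg : (-1 : F) ^ q = -1 := by rw [← powHom_apply hF, map_neg, map_one]
  have h2 := two_ne_zero_three hF hq
  have hm1 : (-1 : F) ≠ 1 := fun e => h2 (by linear_combination -e)
  have hne : ∃ a b : Cfsg.SU 4 F q, ¬ Commute (g a) (g b) := by
    obtain ⟨a, ha⟩ := hsurj (φ (cyc F q))
    obtain ⟨b, hb⟩ := hsurj (φ (bup (negOne hF)))
    refine ⟨a, b, fun e => ?_⟩
    rw [ha, hb, commute_iff_eq, ← map_mul, ← map_mul] at e
    have e' := hφ e
    have h4 : blo (negOne hF) = bup (negOne hF) := by rw [← cyc_bup, e', mul_inv_cancel_right]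
    have := congrArg (fun k : Cfsg.SU 3 F q => k.1.1 0 0) h4
    simp [blo_val, bup_val, negOne_val hF hq] at this
    exact hm1 this.symm
  have hker := ker_le_center hF hq g hne
  have hexp : ∀ z ∈ g.ker, z ^ 4 = 1 := fun z hz => center_pow_four hF hq (hker hz)
  have hbu : Function.Injective (φ.comp bup) := hφ.comp (blk_injective _)
  have hbl : Function.Injective (φ.comp blo) := hφ.comp (blk_injective _)
  have hbl' : Function.Injective (φ'.comp blo) := hφ'.comp (blk_injective _)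
  obtain ⟨L₀, hL₀⟩ := exists_lift hF hq g hsurj hker hexp hbu
  obtain ⟨L₁, hL₁⟩ := exists_lift hF hq g hsurj hker hexp hbl
  obtain ⟨L₂, hL₂⟩ := exists_lift hF hq g hsurj hker hexp hbl'
  obtain ⟨x, hx⟩ : ∃ x, x = L₀ (negOne hF) := ⟨_, rfl⟩
  obtain ⟨y, hy⟩ : ∃ y, y = L₁ (negOne hF) := ⟨_, rfl⟩
  have hxx : x * x = 1 := by rw [hx, ← map_mul, negOne_sq hF hq, map_one]
  have hyy : y * y = 1 := by rw [hy, ← map_mul, negOne_sq hF hq, map_one]
  have hxy : x * y = y * x := by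
    obtain ⟨τ, hτ⟩ := exists_twist hF (a := (-1 : F)) (show (-1 : F) * (-1) ^ q = 1 by rw [hneg]; ring)
    have hτn : τ (negOne hF) = negOne hF :=
      twist_dia hF (fun z => ⟨(hτ z).1, (hτ z).2.1⟩) (show IsDia (negOne hF) by simp [IsDia, negOne_val hF hq])
    have := hom_ext_three hF hq g hker hexp (Ψ := (MulAut.conj y).toMonoidHom.comp L₀) (Ψ' := L₀.comp τ) fun z => by
      show g (y * L₀ z * y⁻¹) = g (L₀ (τ z))
      rw [map_mul, map_mul, map_inv, hy, hL₁, hL₀, hL₀, mul_inv_eq_iff_eq_mul]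
      show φ (blo (negOne hF)) * φ (bup z) = φ (bup (τ z)) * φ (blo (negOne hF))
      rw [← map_mul, ← map_mul, ← dia_negOne hF, (hτ z).2.2]
    have e : y * x * y⁻¹ = x := by
      have := DFunLike.congr_fun this (negOne hF)
      simp only [MonoidHom.comp_apply, hτn] at this
      rw [hx]
      exact this
    exact (mul_inv_eq_iff_eq_mul.1 e).symm
  have hnc : ∀ (z : Cfsg.SU 4 F q) (k : Cfsg.SU 3 F q), g z = φ k → k ≠ 1 →
      z ∉ Subgroup.center (Cfsg.SU 4 F q) := by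
    intro z k hzk hk1 hzc
    refine hk1 (center_three hF hq (Subgroup.mem_center_iff.2 fun m => hφ ?_))
    obtain ⟨w, hw⟩ := hsurj (φ m)
    rw [map_mul, map_mul, ← hzk, ← hw, ← map_mul, ← map_mul, Subgroup.mem_center_iff.1 hzc w]
  have n1 : negOne hF ≠ (1 : Cfsg.SU 2 F q) := negOne_ne_one hF hq
  have hxc := hnc x (bup (negOne hF)) (hx ▸ hL₀ _) fun e => n1 (blk_injective _ (e.trans (map_one bup).symm))
  have hyc := hnc y (blo (negOne hF)) (hy ▸ hL₁ _) fun e => n1 (blk_injective _ (e.trans (map_one blo).symm))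
  have hxyc := hnc (x * y) (bup (negOne hF) * blo (negOne hF))
    (by rw [map_mul, map_mul, hx, hy, hL₀, hL₁]; rfl) fun e => by
      have := congrArg (fun k : Cfsg.SU 3 F q => k.1.1) e
      change (bup (negOne hF)).1.1 * (blo (negOne hF)).1.1 = 1 at this
      have e00 := congrFun (congrFun this 0) 0
      simp [bup_val, blo_val, negOne_val hF hq, Matrix.mul_apply, Fin.sum_univ_three] at e00
      exact hm1 e00
  obtain ⟨P, hPx, hPy⟩ := exists_frame hF (by omega) h2 hxx hyy hxy hxc hyc hxyc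
  -- move to the frame
  obtain ⟨g', hg'⟩ : ∃ g' : Cfsg.SU 4 F q →* H, g' = g.comp (MulAut.conj P).toMonoidHom := ⟨_, rfl⟩
  let c : Cfsg.SU 4 F q →* Cfsg.SU 4 F q := (MulAut.conj P⁻¹).toMonoidHom
  have hgc : ∀ z, g' (c z) = g z := fun z => by
    subst hg'
    show g (P * (P⁻¹ * z * P⁻¹⁻¹) * P⁻¹) = g z
    congr 1
    group
  have hsurj' : Function.Surjective g' := fun t => by
    obtain ⟨z, rfl⟩ := hsurj t
    exact ⟨c z, hgc z⟩
  have hker' := ker_le_center hF hq g' (by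
    obtain ⟨a, b, hab⟩ := hne
    exact ⟨c a, c b, by rw [hgc, hgc]; exact hab⟩)
  have hexp' : ∀ z ∈ g'.ker, z ^ 4 = 1 := fun z hz => center_pow_four hF hq (hker' hz)
  have hcn : ∀ z, c z = P⁻¹ * z * P := fun z => by
    show P⁻¹ * z * P⁻¹⁻¹ = _
    rw [inv_inv]
  have hu : ∀ z, g' ((c.comp L₀) z) = φ (bup z) := fun z => (hgc _).trans (hL₀ z)
  have hl : ∀ z, g' ((c.comp L₁) z) = φ (blo z) := fun z => (hgc _).trans (hL₁ z)
  have hl' : ∀ z, g' ((c.comp L₂) z) = φ' (blo z) := fun z => (hgc _).trans (hL₂ z)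
  have hu' : ∀ z, g' ((c.comp L₁) z) = φ' (bup z) := fun z => (hl z).trans (glue z)
  have hinj : ∀ (L : Cfsg.SU 2 F q →* Cfsg.SU 4 F q) (ψ : Cfsg.SU 2 F q →* H), Function.Injective ψ →
      (∀ z, g' (L z) = ψ z) → Function.Injective L := fun L ψ hψ h a b e => hψ (by rw [← h, ← h, e])
  obtain ⟨α₀, α₁, α₂, hα⟩ := exists_alphas hF hq g' hker' hexp' hsurj' (c.comp L₀) (c.comp L₁) (c.comp L₂)
    ⟨hinj _ _ hbl hl, hinj _ _ hbl' hl'⟩ hu hl (fun a b => by rw [hu, hl']; exact far a b)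
    (by show c (L₀ _) = _; rw [← hx, hcn, hPx]) (by show c (L₁ _) = _; rw [← hy, hcn, hPy])
  obtain ⟨d0, d1, r01⟩ := adjacent hF hq g' hker' hexp' 0 (by omega) α₀ α₁
    (fun z => by rw [← (hα z).1]; exact hu z) (fun z => by rw [← (hα z).2.1]; exact hl z)
  obtain ⟨-, d2, r12⟩ := adjacent hF hq g' hker' hexp' 1 (by omega) α₁ α₂
    (fun z => by rw [← (hα z).2.1]; exact hu' z) (fun z => by rw [← (hα z).2.2]; exact hl' z)
  obtain ⟨σ, l₀, hl₀, hσ₀⟩ := exists_semi hF (by omega) α₀ d0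
  obtain ⟨σ₁, l₁, hl₁, hσ₁⟩ := exists_semi hF (by omega) α₁ d1
  obtain ⟨σ₂, l₂, hl₂, hσ₂⟩ := exists_semi hF (by omega) α₂ d2
  obtain rfl : σ = σ₁ := semi_eq hF hq hl₀ hσ₀ hσ₁ r01
  obtain rfl : σ = σ₂ := semi_eq hF hq hl₁ hσ₁ hσ₂ r12
  obtain ⟨δ, hδ⟩ := exists_delta_n hF σ (n := 4) (d := ![1, l₀, l₀ * l₁, l₀ * l₁ * l₂]) fun i => by
    have m : ∀ a b : F, a * a ^ q = 1 → b * b ^ q = 1 → a * b * (a * b) ^ q = 1 := fun a b ha hb => by
      rw [mul_pow, mul_mul_mul_comm, ha, hb, one_mul]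
    fin_cases i
    · simp
    · exact hl₀
    · exact m _ _ hl₀ hl₁
    · exact m _ _ (m _ _ hl₀ hl₁) hl₂
  refine ⟨g'.comp δ.toMonoidHom, ?_⟩
  have hb0 : ∀ z, g' (δ (blkAt 0 (show 0 + 2 ≤ 4 by omega) z)) = φ (bup z) := fun z => by
    rw [hδ 0 _ z (α₀ z) (hσ₀ z).1 (by simp [sh, (hσ₀ z).2]), ← (hα z).1]
    exact hu z
  have hb1 : ∀ z, g' (δ (blkAt 1 (show 1 + 2 ≤ 4 by omega) z)) = φ (blo z) := fun z => by
    rw [hδ 1 _ z (α₁ z) (hσ₁ z).1 (by
      rw [(hσ₁ z).2, show sh 1 (show 1 + 2 ≤ 4 by omega) 0 = (1 : Fin 4) from rfl,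
        show sh 1 (show 1 + 2 ≤ 4 by omega) 1 = (2 : Fin 4) from rfl]
      simp
      ring), ← (hα z).2.1]
    exact hl z
  have hb2 : ∀ z, g' (δ (blkAt 2 (show 2 + 2 ≤ 4 by omega) z)) = φ' (blo z) := fun z => by
    rw [hδ 2 _ z (α₂ z) (hσ₂ z).1 (by
      rw [(hσ₂ z).2, show sh 2 (show 2 + 2 ≤ 4 by omega) 0 = (2 : Fin 4) from rfl,
        show sh 2 (show 2 + 2 ≤ 4 by omega) 1 = (3 : Fin 4) from rfl]
      simp
      ring), ← (hα z).2.2]
    exact hl' z
  have ext3 : ∀ a b : Cfsg.SU 3 F q →* H, (∀ z, a (bup z) = b (bup z)) → (∀ z, a (blo z) = b (blo z)) →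
      ∀ z, a z = b z := by
    intro a b e0 e1 z
    have := blocks_top hF (by omega) 3 (by omega) (a.eqLocus b) fun p hp t => by
      rcases p with _ | _ | p
      · exact e0 t
      · exact e1 t
      · omega
    exact (this ▸ Subgroup.mem_top z : z ∈ a.eqLocus b)
  intro z
  constructor
  · refine ext3 ((g'.comp δ.toMonoidHom).comp (blkAt 0 (show 0 + 3 ≤ 4 by omega))) φ (fun t => ?_) (fun t => ?_) z
    · show g' (δ (blkAt 0 _ (blkAt 0 _ t))) = _
      rw [blkAt_comp]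
      exact hb0 t
    · show g' (δ (blkAt 0 _ (blkAt 1 _ t))) = _
      rw [blkAt_comp]
      exact hb1 t
  · refine ext3 ((g'.comp δ.toMonoidHom).comp (blkAt 1 (show 1 + 3 ≤ 4 by omega))) φ' (fun t => ?_) (fun t => ?_) z
    · show g' (δ (blkAt 1 _ (blkAt 0 _ t))) = _
      rw [blkAt_comp, ← glue]
      exact hb1 t
    · show g' (δ (blkAt 1 _ (blkAt 1 _ t))) = _
      rw [blkAt_comp]
      exact hb2 t

end CfsgLib.Phan
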